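import Cfsg.Agent.Lib.H94.TCHSA.Data
import Cfsg.Agent.Lib.H35.TC
set_option autoImplicit false
set_option maxRecDepth 100000
set_option linter.all false
namespace H94.TCHSA
open H35.TC
/-- letters -/
inductive Lt | b | bi | d | di | c | ci | f | fi | e | ei | z | zi
  deriving DecidableEq
/-- inverse letter -/
def inv : Lt → Lt
  | .b => .bi
  | .bi => .b
  | .d => .di
  | .di => .d
  | .c => .ci
  | .ci => .c
  | .f => .fi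
  | .fi => .f
  | .e => .ei
  | .ei => .e
  | .z => .zi
  | .zi => .z
/-- table functions -/
noncomputable def T : Lt → ℕ → ℕ
  | .b => T_b
  | .bi => T_bi
  | .d => T_d
  | .di => T_di
  | .c => T_c
  | .ci => T_ci
  | .f => T_f
  | .fi => T_fi
  | .e => T_e
  | .ei => T_ei
  | .z => T_z
  | .zi => T_zi
/-- decoding of letter codes -/
def lt : ℕ → Lt
  | 0 => .b
  | 1 => .bi
  | 2 => .d
  | 3 => .di
  | 4 => .c
  | 5 => .ci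
  | 6 => .f
  | 7 => .fi
  | 8 => .e
  | 9 => .ei
  | 10 => .z
  | _ => .zi
/-- Coxeter matrix (0: no relation) -/
def mm : Lt → Lt → ℕ
  | _, _ => 0
/-- extra relators `w ^ n` -/
def extra : List (List Lt × ℕ) := [
  ([.z, .e, .zi, .ei], 1),
  ([.z, .f, .zi, .fi], 1),
  ([.z, .c, .zi, .ci], 1),
  ([.z, .d, .zi, .di], 1),
  ([.z, .b, .zi, .bi], 1),
  ([.e], 5),
  ([.f], 5),
  ([.c], 5),
  ([.d], 5),
  ([.b, .b, .d, .b, .di], 1),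
  ([.c, .f], 3),
  ([.b, .fi, .fi], 2),
  ([.d, .d, .fi, .di, .fi, .fi], 1),
  ([.d, .ci, .d, .fi, .d, .ci, .ci], 1),
  ([.d, .d, .fi, .d, .fi, .di, .f], 1),
  ([.b, .d, .ci, .b, .c, .f, .d], 1),
  ([.b, .ci, .di, .c], 2),
  ([.c, .di, .f, .e, .fi, .d, .ci, .e], 1),
  ([.d, .d, .ci, .f], 2),
  ([.b, .f, .ci, .ci, .f, .bi, .fi, .ci], 1),
  ([.b, .f, .c, .di], 2),
  ([.b, .f, .d, .d, .b, .fi, .d, .c], 1),
  ([.b, .ci, .d, .b, .f, .ci, .f, .di], 1),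
  ([.b, .d, .ci, .ci], 2),
  ([.b, .d, .ci, .fi, .fi, .di, .bi, .c], 1),
  ([.b, .di, .di, .ci, .f, .b, .ci, .fi], 1),
  ([.b, .di, .ci, .d, .ci, .bi, .d, .ci], 1),
  ([.b, .di, .ci, .ci, .bi, .d, .f, .ci], 1),
  ([.b, .di, .f, .bi, .c, .fi, .di, .ci], 1),
  ([.b, .di, .f, .c, .b, .c, .d, .f], 1),
  ([.b, .c, .b, .ci, .bi, .di, .di, .f], 1),
  ([.b, .c, .bi, .di, .ci, .bi, .di, .fi], 1),
  ([.b, .c, .d, .c, .bi, .di, .c, .fi], 1),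
  ([.b, .ci], 4),
  ([.b, .b, .di, .fi, .bi, .c, .c, .d, .ci], 1),
  ([.b, .b, .di, .f, .b, .d, .c, .bi, .ci], 1),
  ([.b, .b, .b, .fi, .di, .f, .b, .d, .f], 1),
  ([.b, .b, .b, .ci, .bi, .bi, .di, .c, .f], 1),
  ([.b, .ei, .ci, .ei, .b, .ei, .ci, .ei, .zi], 1),
  ([.e, .ci, .bi, .di, .c, .ei, .ci, .d, .b, .c], 1),
  ([.b, .d, .ci, .f, .c, .di, .bi, .c, .f, .ci], 1),
  ([.b, .d, .ci, .bi, .f, .b, .c, .di, .bi, .di], 1),
  ([.bi, .bi, .c, .bi, .e, .b, .ci, .b, .b, .e], 1),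
  ([.e, .c, .bi, .fi, .d, .ei, .c, .c, .di, .ci, .d], 1),
  ([.e, .d, .c, .f, .f, .di, .ei, .di, .ci, .f, .c], 1),
  ([.b, .bi], 1),
  ([.bi, .b], 1),
  ([.d, .di], 1),
  ([.di, .d], 1),
  ([.c, .ci], 1),
  ([.ci, .c], 1),
  ([.f, .fi], 1),
  ([.fi, .f], 1),
  ([.e, .ei], 1),
  ([.ei, .e], 1),
  ([.z, .zi], 1),
  ([.zi, .z], 1)]
/-- relators -/
def rels : List (List Lt) := mkRels [] mm extra
/-- subgroup words -/
def subs : List (List Lt) := [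
  [.b],
  [.d],
  [.c],
  [.f]]
noncomputable def dp_b_0 (j u : ℕ) : Bool :=
  Bool.rec (motive := fun _ => Bool) (lF [T_di, T_b, T_b, T_d] M (Nat.sub (T_b u) (Nat.mod (T_b u) M)) (Nat.mod (T_b u) M) u) (lF [T_b, T_d, T_b, T_di] M (Nat.sub (T_b u) (Nat.mod (T_b u) M)) (Nat.mod (T_b u) M) u) (Nat.ble (nat_lit 7) j)
noncomputable def dp_b_1 (j u : ℕ) : Bool :=
  Bool.rec (motive := fun _ => Bool) (lF [T_fi, T_fi, T_b, T_fi, T_fi] M (Nat.sub (T_b u) (Nat.mod (T_b u) M)) (Nat.mod (T_b u) M) u) (lS MG [T_zi, T_bi, T_z] M (Nat.sub (T_b u) (Nat.mod (T_b u) M)) (nat_lit 40) (Nat.mod (T_b u) M) u) (Nat.ble (nat_lit 10) j)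
noncomputable def dp_b_2 (j u : ℕ) : Bool :=
  Bool.rec (motive := fun _ => Bool) (lF [T_d, T_b, T_di, T_b] M (Nat.sub (T_b u) (Nat.mod (T_b u) M)) (Nat.mod (T_b u) M) u) (dp_b_1 j u) (Nat.ble (nat_lit 9) j)
noncomputable def dp_b_3 (j u : ℕ) : Bool :=
  Bool.rec (motive := fun _ => Bool) (lS MG [T_ei, T_ci, T_ei, T_zi, T_b, T_ei, T_ci, T_ei] M (Nat.sub (T_b u) (Nat.mod (T_b u) M)) (nat_lit 40) (Nat.mod (T_b u) M) u) (lF [T_c, T_f, T_d, T_b, T_d, T_ci] M (Nat.sub (T_b u) (Nat.mod (T_b u) M)) (Nat.mod (T_b u) M) u) (Nat.ble (nat_lit 13) j)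
noncomputable def dp_b_4 (j u : ℕ) : Bool :=
  Bool.rec (motive := fun _ => Bool) (lS MG [T_z, T_bi, T_zi] M (Nat.sub (T_b u) (Nat.mod (T_b u) M)) (nat_lit 40) (Nat.mod (T_b u) M) u) (dp_b_3 j u) (Nat.ble (nat_lit 12) j)
noncomputable def dp_b_5 (j u : ℕ) : Bool :=
  Bool.rec (motive := fun _ => Bool) (lS MG [T_di, T_b, T_b, T_d] M (Nat.sub (T_b u) (Nat.mod (T_b u) M)) (nat_lit 40) (Nat.mod (T_b u) M) u) (lS MG [T_fi, T_fi, T_b, T_fi, T_fi] M (Nat.sub (T_b u) (Nat.mod (T_b u) M)) (nat_lit 40) (Nat.mod (T_b u) M) u) (Nat.ble (nat_lit 15) j)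
noncomputable def dp_b_6 (j u : ℕ) : Bool :=
  Bool.rec (motive := fun _ => Bool) (lS MG [T_b, T_d, T_b, T_di] M (Nat.sub (T_b u) (Nat.mod (T_b u) M)) (nat_lit 40) (Nat.mod (T_b u) M) u) (lS MG [T_d, T_b, T_di, T_b] M (Nat.sub (T_b u) (Nat.mod (T_b u) M)) (nat_lit 40) (Nat.mod (T_b u) M) u) (Nat.ble (nat_lit 17) j)
noncomputable def dp_b_7 (j u : ℕ) : Bool :=
  Bool.rec (motive := fun _ => Bool) (dp_b_5 j u) (dp_b_6 j u) (Nat.ble (nat_lit 16) j)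
noncomputable def dp_b_8 (j u : ℕ) : Bool :=
  Bool.rec (motive := fun _ => Bool) (dp_b_4 j u) (dp_b_7 j u) (Nat.ble (nat_lit 14) j)
noncomputable def dp_b_9 (j u : ℕ) : Bool :=
  Bool.rec (motive := fun _ => Bool) (lF [T_ei, T_ci, T_ei, T_zi, T_b, T_ei, T_ci, T_ei] M (Nat.sub (T_b u) (Nat.mod (T_b u) M)) (Nat.mod (T_b u) M) u) (lF [T_d, T_ci, T_b, T_c, T_f, T_d] M (Nat.sub (T_b u) (Nat.mod (T_b u) M)) (Nat.mod (T_b u) M) u) (Nat.ble (nat_lit 19) j)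
noncomputable def dp_b_10 (j u : ℕ) : Bool :=
  Bool.rec (motive := fun _ => Bool) (lS MG [T_ei, T_ci, T_ei, T_b, T_ei, T_ci, T_ei, T_zi] M (Nat.sub (T_b u) (Nat.mod (T_b u) M)) (nat_lit 40) (Nat.mod (T_b u) M) u) (lF [T_c, T_e, T_ci, T_bi, T_di, T_c, T_ei, T_ci, T_d] M (Nat.sub (T_b u) (Nat.mod (T_b u) M)) (Nat.mod (T_b u) M) u) (Nat.ble (nat_lit 21) j)
noncomputable def dp_b_11 (j u : ℕ) : Bool :=
  Bool.rec (motive := fun _ => Bool) (dp_b_9 j u) (dp_b_10 j u) (Nat.ble (nat_lit 20) j)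
noncomputable def dp_b_12 (j u : ℕ) : Bool :=
  Bool.rec (motive := fun _ => Bool) (lS MG [T_c, T_f, T_d, T_b, T_d, T_ci] M (Nat.sub (T_b u) (Nat.mod (T_b u) M)) (nat_lit 40) (Nat.mod (T_b u) M) u) (lF [T_b, T_ei, T_bi, T_bi, T_c, T_bi, T_ei, T_b, T_ci] M (Nat.sub (T_b u) (Nat.mod (T_b u) M)) (Nat.mod (T_b u) M) u) (Nat.ble (nat_lit 24) j)
noncomputable def dp_b_13 (j u : ℕ) : Bool :=
  Bool.rec (motive := fun _ => Bool) (lF [T_c, T_ei, T_ci, T_bi, T_di, T_c, T_e, T_ci, T_d] M (Nat.sub (T_b u) (Nat.mod (T_b u) M)) (Nat.mod (T_b u) M) u) (dp_b_12 j u) (Nat.ble (nat_lit 23) j)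
noncomputable def dp_b_14 (j u : ℕ) : Bool :=
  Bool.rec (motive := fun _ => Bool) (lF [T_d, T_ci, T_ci, T_b, T_d, T_ci, T_ci] M (Nat.sub (T_b u) (Nat.mod (T_b u) M)) (Nat.mod (T_b u) M) u) (lF [T_b, T_e, T_bi, T_bi, T_c, T_bi, T_e, T_b, T_ci] M (Nat.sub (T_b u) (Nat.mod (T_b u) M)) (Nat.mod (T_b u) M) u) (Nat.ble (nat_lit 26) j)
noncomputable def dp_b_15 (j u : ℕ) : Bool :=
  Bool.rec (motive := fun _ => Bool) (lF [T_ei, T_ci, T_ei, T_b, T_ei, T_ci, T_ei, T_zi] M (Nat.sub (T_b u) (Nat.mod (T_b u) M)) (Nat.mod (T_b u) M) u) (lF [T_c, T_di, T_c, T_d, T_bi, T_c, T_di] M (Nat.sub (T_b u) (Nat.mod (T_b u) M)) (Nat.mod (T_b u) M) u) (Nat.ble (nat_lit 28) j)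
noncomputable def dp_b_16 (j u : ℕ) : Bool :=
  Bool.rec (motive := fun _ => Bool) (dp_b_14 j u) (dp_b_15 j u) (Nat.ble (nat_lit 27) j)
noncomputable def dp_b_17 (j u : ℕ) : Bool :=
  Bool.rec (motive := fun _ => Bool) (dp_b_13 j u) (dp_b_16 j u) (Nat.ble (nat_lit 25) j)
noncomputable def dp_b_18 (j u : ℕ) : Bool :=
  Bool.rec (motive := fun _ => Bool) (dp_b_11 j u) (dp_b_17 j u) (Nat.ble (nat_lit 22) j)
noncomputable def dp_b_19 (j u : ℕ) : Bool :=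
  Bool.rec (motive := fun _ => Bool) (lF [T_c, T_b, T_ci, T_bi, T_di, T_di, T_f] M (Nat.sub (T_b u) (Nat.mod (T_b u) M)) (Nat.mod (T_b u) M) u) (lS MG [T_d, T_ci, T_b, T_c, T_f, T_d] M (Nat.sub (T_b u) (Nat.mod (T_b u) M)) (nat_lit 40) (Nat.mod (T_b u) M) u) (Nat.ble (nat_lit 31) j)
noncomputable def dp_b_20 (j u : ℕ) : Bool :=
  Bool.rec (motive := fun _ => Bool) (lF [T_di, T_ci, T_d, T_ci, T_bi, T_d, T_ci] M (Nat.sub (T_b u) (Nat.mod (T_b u) M)) (Nat.mod (T_b u) M) u) (dp_b_19 j u) (Nat.ble (nat_lit 30) j)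
noncomputable def dp_b_21 (j u : ℕ) : Bool :=
  Bool.rec (motive := fun _ => Bool) (lF [T_fi, T_d, T_c, T_b, T_f, T_d, T_d] M (Nat.sub (T_b u) (Nat.mod (T_b u) M)) (Nat.mod (T_b u) M) u) (lS MG [T_fi, T_d, T_c, T_b, T_f, T_d, T_d] M (Nat.sub (T_b u) (Nat.mod (T_b u) M)) (nat_lit 40) (Nat.mod (T_b u) M) u) (Nat.ble (nat_lit 33) j)
noncomputable def dp_b_22 (j u : ℕ) : Bool :=
  Bool.rec (motive := fun _ => Bool) (lF [T_f, T_d, T_d, T_b, T_fi, T_d, T_c] M (Nat.sub (T_b u) (Nat.mod (T_b u) M)) (Nat.mod (T_b u) M) u) (lF [T_ci, T_fi, T_b, T_di, T_di, T_ci, T_f] M (Nat.sub (T_b u) (Nat.mod (T_b u) M)) (Nat.mod (T_b u) M) u) (Nat.ble (nat_lit 35) j)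
noncomputable def dp_b_23 (j u : ℕ) : Bool :=
  Bool.rec (motive := fun _ => Bool) (dp_b_21 j u) (dp_b_22 j u) (Nat.ble (nat_lit 34) j)
noncomputable def dp_b_24 (j u : ℕ) : Bool :=
  Bool.rec (motive := fun _ => Bool) (dp_b_20 j u) (dp_b_23 j u) (Nat.ble (nat_lit 32) j)
noncomputable def dp_b_25 (j u : ℕ) : Bool :=
  Bool.rec (motive := fun _ => Bool) (lF [T_ci, T_b, T_ci, T_b, T_ci, T_b, T_ci] M (Nat.sub (T_b u) (Nat.mod (T_b u) M)) (Nat.mod (T_b u) M) u) (lF [T_ci, T_di, T_c, T_b, T_ci, T_di, T_c] M (Nat.sub (T_b u) (Nat.mod (T_b u) M)) (Nat.mod (T_b u) M) u) (Nat.ble (nat_lit 37) j)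
noncomputable def dp_b_26 (j u : ℕ) : Bool :=
  Bool.rec (motive := fun _ => Bool) (lF [T_ci, T_bi, T_f, T_d, T_b, T_c, T_d] M (Nat.sub (T_b u) (Nat.mod (T_b u) M)) (Nat.mod (T_b u) M) u) (lF [T_c, T_bi, T_di, T_ci, T_bi, T_di, T_fi] M (Nat.sub (T_b u) (Nat.mod (T_b u) M)) (Nat.mod (T_b u) M) u) (Nat.ble (nat_lit 39) j)
noncomputable def dp_b_27 (j u : ℕ) : Bool :=
  Bool.rec (motive := fun _ => Bool) (dp_b_25 j u) (dp_b_26 j u) (Nat.ble (nat_lit 38) j)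
noncomputable def dp_b_28 (j u : ℕ) : Bool :=
  Bool.rec (motive := fun _ => Bool) (lF [T_ci, T_bi, T_di, T_di, T_f, T_b, T_c] M (Nat.sub (T_b u) (Nat.mod (T_b u) M)) (Nat.mod (T_b u) M) u) (lF [T_ci, T_d, T_b, T_f, T_ci, T_f, T_di] M (Nat.sub (T_b u) (Nat.mod (T_b u) M)) (Nat.mod (T_b u) M) u) (Nat.ble (nat_lit 41) j)
noncomputable def dp_b_29 (j u : ℕ) : Bool :=
  Bool.rec (motive := fun _ => Bool) (lF [T_f, T_c, T_di, T_b, T_f, T_c, T_di] M (Nat.sub (T_b u) (Nat.mod (T_b u) M)) (Nat.mod (T_b u) M) u) (lF [T_di, T_ci, T_ci, T_bi, T_d, T_f, T_ci] M (Nat.sub (T_b u) (Nat.mod (T_b u) M)) (Nat.mod (T_b u) M) u) (Nat.ble (nat_lit 44) j)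
noncomputable def dp_b_30 (j u : ℕ) : Bool :=
  Bool.rec (motive := fun _ => Bool) (lF [T_di, T_f, T_c, T_b, T_c, T_d, T_f] M (Nat.sub (T_b u) (Nat.mod (T_b u) M)) (Nat.mod (T_b u) M) u) (dp_b_29 j u) (Nat.ble (nat_lit 43) j)
noncomputable def dp_b_31 (j u : ℕ) : Bool :=
  Bool.rec (motive := fun _ => Bool) (dp_b_28 j u) (dp_b_30 j u) (Nat.ble (nat_lit 42) j)
noncomputable def dp_b_32 (j u : ℕ) : Bool :=
  Bool.rec (motive := fun _ => Bool) (dp_b_27 j u) (dp_b_31 j u) (Nat.ble (nat_lit 40) j)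
noncomputable def dp_b_33 (j u : ℕ) : Bool :=
  Bool.rec (motive := fun _ => Bool) (dp_b_24 j u) (dp_b_32 j u) (Nat.ble (nat_lit 36) j)
noncomputable def dp_b_34 (j u : ℕ) : Bool :=
  Bool.rec (motive := fun _ => Bool) (lF [T_d, T_ci, T_fi, T_fi, T_di, T_bi, T_c] M (Nat.sub (T_b u) (Nat.mod (T_b u) M)) (Nat.mod (T_b u) M) u) (lS MG [T_d, T_ci, T_ci, T_b, T_d, T_ci, T_ci] M (Nat.sub (T_b u) (Nat.mod (T_b u) M)) (nat_lit 40) (Nat.mod (T_b u) M) u) (Nat.ble (nat_lit 47) j)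
noncomputable def dp_b_35 (j u : ℕ) : Bool :=
  Bool.rec (motive := fun _ => Bool) (lF [T_c, T_d, T_c, T_bi, T_di, T_c, T_fi] M (Nat.sub (T_b u) (Nat.mod (T_b u) M)) (Nat.mod (T_b u) M) u) (dp_b_34 j u) (Nat.ble (nat_lit 46) j)
noncomputable def dp_b_36 (j u : ℕ) : Bool :=
  Bool.rec (motive := fun _ => Bool) (lF [T_f, T_ci, T_f, T_di, T_b, T_ci, T_d] M (Nat.sub (T_b u) (Nat.mod (T_b u) M)) (Nat.mod (T_b u) M) u) (lF [T_fi, T_d, T_bi, T_c, T_d, T_f, T_ci] M (Nat.sub (T_b u) (Nat.mod (T_b u) M)) (Nat.mod (T_b u) M) u) (Nat.ble (nat_lit 50) j)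
noncomputable def dp_b_37 (j u : ℕ) : Bool :=
  Bool.rec (motive := fun _ => Bool) (lF [T_c, T_c, T_d, T_bi, T_c, T_fi, T_di] M (Nat.sub (T_b u) (Nat.mod (T_b u) M)) (Nat.mod (T_b u) M) u) (dp_b_36 j u) (Nat.ble (nat_lit 49) j)
noncomputable def dp_b_38 (j u : ℕ) : Bool :=
  Bool.rec (motive := fun _ => Bool) (dp_b_35 j u) (dp_b_37 j u) (Nat.ble (nat_lit 48) j)
noncomputable def dp_b_39 (j u : ℕ) : Bool :=
  Bool.rec (motive := fun _ => Bool) (lF [T_ci, T_di, T_ci, T_bi, T_f, T_ci, T_d] M (Nat.sub (T_b u) (Nat.mod (T_b u) M)) (Nat.mod (T_b u) M) u) (lF [T_di, T_f, T_bi, T_c, T_fi, T_di, T_ci] M (Nat.sub (T_b u) (Nat.mod (T_b u) M)) (Nat.mod (T_b u) M) u) (Nat.ble (nat_lit 53) j)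
noncomputable def dp_b_40 (j u : ℕ) : Bool :=
  Bool.rec (motive := fun _ => Bool) (lF [T_c, T_d, T_b, T_ci, T_bi, T_f, T_d] M (Nat.sub (T_b u) (Nat.mod (T_b u) M)) (Nat.mod (T_b u) M) u) (dp_b_39 j u) (Nat.ble (nat_lit 52) j)
noncomputable def dp_b_41 (j u : ℕ) : Bool :=
  Bool.rec (motive := fun _ => Bool) (lF [T_d, T_f, T_f, T_c, T_di, T_bi, T_ci] M (Nat.sub (T_b u) (Nat.mod (T_b u) M)) (Nat.mod (T_b u) M) u) (lF [T_fi, T_c, T_c, T_fi, T_bi, T_c, T_f] M (Nat.sub (T_b u) (Nat.mod (T_b u) M)) (Nat.mod (T_b u) M) u) (Nat.ble (nat_lit 55) j)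
noncomputable def dp_b_42 (j u : ℕ) : Bool :=
  Bool.rec (motive := fun _ => Bool) (lF [T_f, T_ci, T_ci, T_f, T_bi, T_fi, T_ci] M (Nat.sub (T_b u) (Nat.mod (T_b u) M)) (Nat.mod (T_b u) M) u) (lF [T_c, T_d, T_f, T_b, T_di, T_f, T_c] M (Nat.sub (T_b u) (Nat.mod (T_b u) M)) (Nat.mod (T_b u) M) u) (Nat.ble (nat_lit 57) j)
noncomputable def dp_b_43 (j u : ℕ) : Bool :=
  Bool.rec (motive := fun _ => Bool) (dp_b_41 j u) (dp_b_42 j u) (Nat.ble (nat_lit 56) j)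
noncomputable def dp_b_44 (j u : ℕ) : Bool :=
  Bool.rec (motive := fun _ => Bool) (dp_b_40 j u) (dp_b_43 j u) (Nat.ble (nat_lit 54) j)
noncomputable def dp_b_45 (j u : ℕ) : Bool :=
  Bool.rec (motive := fun _ => Bool) (dp_b_38 j u) (dp_b_44 j u) (Nat.ble (nat_lit 51) j)
noncomputable def dp_b_46 (j u : ℕ) : Bool :=
  Bool.rec (motive := fun _ => Bool) (lS MG [T_c, T_di, T_c, T_d, T_bi, T_c, T_di] M (Nat.sub (T_b u) (Nat.mod (T_b u) M)) (nat_lit 40) (Nat.mod (T_b u) M) u) (lS MG [T_d, T_f, T_f, T_c, T_di, T_bi, T_ci] M (Nat.sub (T_b u) (Nat.mod (T_b u) M)) (nat_lit 40) (Nat.mod (T_b u) M) u) (Nat.ble (nat_lit 59) j)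
noncomputable def dp_b_47 (j u : ℕ) : Bool :=
  Bool.rec (motive := fun _ => Bool) (lS MG [T_ci, T_b, T_ci, T_b, T_ci, T_b, T_ci] M (Nat.sub (T_b u) (Nat.mod (T_b u) M)) (nat_lit 40) (Nat.mod (T_b u) M) u) (lF [T_c, T_bi, T_ci, T_bi, T_fi, T_d, T_d] M (Nat.sub (T_b u) (Nat.mod (T_b u) M)) (Nat.mod (T_b u) M) u) (Nat.ble (nat_lit 62) j)
noncomputable def dp_b_48 (j u : ℕ) : Bool :=
  Bool.rec (motive := fun _ => Bool) (lS MG [T_c, T_e, T_ci, T_bi, T_di, T_c, T_ei, T_ci, T_d] M (Nat.sub (T_b u) (Nat.mod (T_b u) M)) (nat_lit 40) (Nat.mod (T_b u) M) u) (dp_b_47 j u) (Nat.ble (nat_lit 61) j)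
noncomputable def dp_b_49 (j u : ℕ) : Bool :=
  Bool.rec (motive := fun _ => Bool) (dp_b_46 j u) (dp_b_48 j u) (Nat.ble (nat_lit 60) j)
noncomputable def dp_b_50 (j u : ℕ) : Bool :=
  Bool.rec (motive := fun _ => Bool) (lS MG [T_di, T_ci, T_d, T_ci, T_bi, T_d, T_ci] M (Nat.sub (T_b u) (Nat.mod (T_b u) M)) (nat_lit 40) (Nat.mod (T_b u) M) u) (lS MG [T_b, T_ei, T_bi, T_bi, T_c, T_bi, T_ei, T_b, T_ci] M (Nat.sub (T_b u) (Nat.mod (T_b u) M)) (nat_lit 40) (Nat.mod (T_b u) M) u) (Nat.ble (nat_lit 65) j)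
noncomputable def dp_b_51 (j u : ℕ) : Bool :=
  Bool.rec (motive := fun _ => Bool) (lS MG [T_c, T_b, T_ci, T_bi, T_di, T_di, T_f] M (Nat.sub (T_b u) (Nat.mod (T_b u) M)) (nat_lit 40) (Nat.mod (T_b u) M) u) (dp_b_50 j u) (Nat.ble (nat_lit 64) j)
noncomputable def dp_b_52 (j u : ℕ) : Bool :=
  Bool.rec (motive := fun _ => Bool) (lS MG [T_f, T_c, T_di, T_b, T_f, T_c, T_di] M (Nat.sub (T_b u) (Nat.mod (T_b u) M)) (nat_lit 40) (Nat.mod (T_b u) M) u) (lS MG [T_c, T_ei, T_ci, T_bi, T_di, T_c, T_e, T_ci, T_d] M (Nat.sub (T_b u) (Nat.mod (T_b u) M)) (nat_lit 40) (Nat.mod (T_b u) M) u) (Nat.ble (nat_lit 67) j)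
noncomputable def dp_b_53 (j u : ℕ) : Bool :=
  Bool.rec (motive := fun _ => Bool) (lS MG [T_b, T_e, T_bi, T_bi, T_c, T_bi, T_e, T_b, T_ci] M (Nat.sub (T_b u) (Nat.mod (T_b u) M)) (nat_lit 40) (Nat.mod (T_b u) M) u) (lS MG [T_c, T_d, T_f, T_b, T_di, T_f, T_c] M (Nat.sub (T_b u) (Nat.mod (T_b u) M)) (nat_lit 40) (Nat.mod (T_b u) M) u) (Nat.ble (nat_lit 69) j)
noncomputable def dp_b_54 (j u : ℕ) : Bool :=
  Bool.rec (motive := fun _ => Bool) (dp_b_52 j u) (dp_b_53 j u) (Nat.ble (nat_lit 68) j)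
noncomputable def dp_b_55 (j u : ℕ) : Bool :=
  Bool.rec (motive := fun _ => Bool) (dp_b_51 j u) (dp_b_54 j u) (Nat.ble (nat_lit 66) j)
noncomputable def dp_b_56 (j u : ℕ) : Bool :=
  Bool.rec (motive := fun _ => Bool) (dp_b_49 j u) (dp_b_55 j u) (Nat.ble (nat_lit 63) j)
noncomputable def dp_b_57 (j u : ℕ) : Bool :=
  Bool.rec (motive := fun _ => Bool) (lS MG [T_fi, T_d, T_bi, T_c, T_d, T_f, T_ci] M (Nat.sub (T_b u) (Nat.mod (T_b u) M)) (nat_lit 40) (Nat.mod (T_b u) M) u) (lF [T_ei, T_bi, T_bi, T_c, T_bi, T_ei, T_b, T_ci, T_b] M (Nat.sub (T_b u) (Nat.mod (T_b u) M)) (Nat.mod (T_b u) M) u) (Nat.ble (nat_lit 71) j)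
noncomputable def dp_b_58 (j u : ℕ) : Bool :=
  Bool.rec (motive := fun _ => Bool) (lS MG [T_fi, T_c, T_c, T_fi, T_bi, T_c, T_f] M (Nat.sub (T_b u) (Nat.mod (T_b u) M)) (nat_lit 40) (Nat.mod (T_b u) M) u) (lS MG [T_c, T_bi, T_ci, T_bi, T_fi, T_d, T_d] M (Nat.sub (T_b u) (Nat.mod (T_b u) M)) (nat_lit 40) (Nat.mod (T_b u) M) u) (Nat.ble (nat_lit 73) j)
noncomputable def dp_b_59 (j u : ℕ) : Bool :=
  Bool.rec (motive := fun _ => Bool) (dp_b_57 j u) (dp_b_58 j u) (Nat.ble (nat_lit 72) j)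
noncomputable def dp_b_60 (j u : ℕ) : Bool :=
  Bool.rec (motive := fun _ => Bool) (lH [] [] M (Nat.sub (T_b u) (Nat.mod (T_b u) M)) (Nat.mod (T_b u) M) u) (lS MG [T_ci, T_fi, T_b, T_di, T_di, T_ci, T_f] M (Nat.sub (T_b u) (Nat.mod (T_b u) M)) (nat_lit 40) (Nat.mod (T_b u) M) u) (Nat.ble (nat_lit 75) j)
noncomputable def dp_b_61 (j u : ℕ) : Bool :=
  Bool.rec (motive := fun _ => Bool) (lS MG [T_c, T_bi, T_bi, T_bi, T_fi, T_ci, T_d, T_b] M (Nat.sub (T_b u) (Nat.mod (T_b u) M)) (nat_lit 40) (Nat.mod (T_b u) M) u) (lF [T_c, T_di, T_bi, T_di, T_b, T_d, T_ci, T_bi, T_f] M (Nat.sub (T_b u) (Nat.mod (T_b u) M)) (Nat.mod (T_b u) M) u) (Nat.ble (nat_lit 77) j)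
noncomputable def dp_b_62 (j u : ℕ) : Bool :=
  Bool.rec (motive := fun _ => Bool) (dp_b_60 j u) (dp_b_61 j u) (Nat.ble (nat_lit 76) j)
noncomputable def dp_b_63 (j u : ℕ) : Bool :=
  Bool.rec (motive := fun _ => Bool) (lF [T_ci, T_bi, T_bi, T_di, T_c, T_f, T_b, T_b] M (Nat.sub (T_b u) (Nat.mod (T_b u) M)) (Nat.mod (T_b u) M) u) (lS MG [T_ci, T_d, T_b, T_f, T_ci, T_f, T_di] M (Nat.sub (T_b u) (Nat.mod (T_b u) M)) (nat_lit 40) (Nat.mod (T_b u) M) u) (Nat.ble (nat_lit 79) j)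
noncomputable def dp_b_64 (j u : ℕ) : Bool :=
  Bool.rec (motive := fun _ => Bool) (lS MG [T_f, T_d, T_d, T_b, T_fi, T_d, T_c] M (Nat.sub (T_b u) (Nat.mod (T_b u) M)) (nat_lit 40) (Nat.mod (T_b u) M) u) (lF [T_d, T_c, T_bi, T_ci, T_b, T_b, T_di, T_f] M (Nat.sub (T_b u) (Nat.mod (T_b u) M)) (Nat.mod (T_b u) M) u) (Nat.ble (nat_lit 81) j)
noncomputable def dp_b_65 (j u : ℕ) : Bool :=
  Bool.rec (motive := fun _ => Bool) (dp_b_63 j u) (dp_b_64 j u) (Nat.ble (nat_lit 80) j)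
noncomputable def dp_b_66 (j u : ℕ) : Bool :=
  Bool.rec (motive := fun _ => Bool) (dp_b_62 j u) (dp_b_65 j u) (Nat.ble (nat_lit 78) j)
noncomputable def dp_b_67 (j u : ℕ) : Bool :=
  Bool.rec (motive := fun _ => Bool) (dp_b_59 j u) (dp_b_66 j u) (Nat.ble (nat_lit 74) j)
noncomputable def dp_b_68 (j u : ℕ) : Bool :=
  Bool.rec (motive := fun _ => Bool) (lS MG [T_ci, T_b, T_b, T_ei, T_bi, T_bi, T_c, T_bi, T_ei] M (Nat.sub (T_b u) (Nat.mod (T_b u) M)) (nat_lit 40) (Nat.mod (T_b u) M) u) (lS MG [T_f, T_ci, T_ci, T_f, T_bi, T_fi, T_ci] M (Nat.sub (T_b u) (Nat.mod (T_b u) M)) (nat_lit 40) (Nat.mod (T_b u) M) u) (Nat.ble (nat_lit 83) j)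
noncomputable def dp_b_69 (j u : ℕ) : Bool :=
  Bool.rec (motive := fun _ => Bool) (lS MG [T_di, T_f, T_b, T_d, T_c, T_bi, T_ci, T_b] M (Nat.sub (T_b u) (Nat.mod (T_b u) M)) (nat_lit 40) (Nat.mod (T_b u) M) u) (lS MG [T_ci, T_bi, T_f, T_d, T_b, T_c, T_d] M (Nat.sub (T_b u) (Nat.mod (T_b u) M)) (nat_lit 40) (Nat.mod (T_b u) M) u) (Nat.ble (nat_lit 85) j)
noncomputable def dp_b_70 (j u : ℕ) : Bool :=
  Bool.rec (motive := fun _ => Bool) (dp_b_68 j u) (dp_b_69 j u) (Nat.ble (nat_lit 84) j)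
noncomputable def dp_b_71 (j u : ℕ) : Bool :=
  Bool.rec (motive := fun _ => Bool) (lS MG [T_ei, T_bi, T_bi, T_c, T_bi, T_ei, T_b, T_ci, T_b] M (Nat.sub (T_b u) (Nat.mod (T_b u) M)) (nat_lit 40) (Nat.mod (T_b u) M) u) (lS MG [T_di, T_ci, T_ci, T_bi, T_d, T_f, T_ci] M (Nat.sub (T_b u) (Nat.mod (T_b u) M)) (nat_lit 40) (Nat.mod (T_b u) M) u) (Nat.ble (nat_lit 87) j)
noncomputable def dp_b_72 (j u : ℕ) : Bool :=
  Bool.rec (motive := fun _ => Bool) (lS MG [T_c, T_bi, T_di, T_ci, T_bi, T_di, T_fi] M (Nat.sub (T_b u) (Nat.mod (T_b u) M)) (nat_lit 40) (Nat.mod (T_b u) M) u) (lS MG [T_b, T_ci, T_bi, T_bi, T_di, T_c, T_f, T_b] M (Nat.sub (T_b u) (Nat.mod (T_b u) M)) (nat_lit 40) (Nat.mod (T_b u) M) u) (Nat.ble (nat_lit 89) j)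
noncomputable def dp_b_73 (j u : ℕ) : Bool :=
  Bool.rec (motive := fun _ => Bool) (dp_b_71 j u) (dp_b_72 j u) (Nat.ble (nat_lit 88) j)
noncomputable def dp_b_74 (j u : ℕ) : Bool :=
  Bool.rec (motive := fun _ => Bool) (dp_b_70 j u) (dp_b_73 j u) (Nat.ble (nat_lit 86) j)
noncomputable def dp_b_75 (j u : ℕ) : Bool :=
  Bool.rec (motive := fun _ => Bool) (lS MG [T_ci, T_ei, T_di, T_c, T_d, T_ci, T_ci, T_e, T_di, T_f] M (Nat.sub (T_b u) (Nat.mod (T_b u) M)) (nat_lit 40) (Nat.mod (T_b u) M) u) (lF [T_e, T_bi, T_bi, T_c, T_bi, T_e, T_b, T_ci, T_b] M (Nat.sub (T_b u) (Nat.mod (T_b u) M)) (Nat.mod (T_b u) M) u) (Nat.ble (nat_lit 91) j)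
noncomputable def dp_b_76 (j u : ℕ) : Bool :=
  Bool.rec (motive := fun _ => Bool) (lS MG [T_b, T_di, T_fi, T_bi, T_c, T_c, T_d, T_ci] M (Nat.sub (T_b u) (Nat.mod (T_b u) M)) (nat_lit 40) (Nat.mod (T_b u) M) u) (lS MG [T_d, T_ci, T_fi, T_fi, T_di, T_bi, T_c] M (Nat.sub (T_b u) (Nat.mod (T_b u) M)) (nat_lit 40) (Nat.mod (T_b u) M) u) (Nat.ble (nat_lit 93) j)
noncomputable def dp_b_77 (j u : ℕ) : Bool :=
  Bool.rec (motive := fun _ => Bool) (dp_b_75 j u) (dp_b_76 j u) (Nat.ble (nat_lit 92) j)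
noncomputable def dp_b_78 (j u : ℕ) : Bool :=
  Bool.rec (motive := fun _ => Bool) (lF [T_b, T_di, T_fi, T_bi, T_c, T_c, T_d, T_ci] M (Nat.sub (T_b u) (Nat.mod (T_b u) M)) (Nat.mod (T_b u) M) u) (lS MG [T_c, T_di, T_bi, T_di, T_b, T_d, T_ci, T_bi, T_f] M (Nat.sub (T_b u) (Nat.mod (T_b u) M)) (nat_lit 40) (Nat.mod (T_b u) M) u) (Nat.ble (nat_lit 95) j)
noncomputable def dp_b_79 (j u : ℕ) : Bool :=
  Bool.rec (motive := fun _ => Bool) (lS MG [T_c, T_c, T_d, T_bi, T_c, T_fi, T_di] M (Nat.sub (T_b u) (Nat.mod (T_b u) M)) (nat_lit 40) (Nat.mod (T_b u) M) u) (lS MG [T_ci, T_di, T_c, T_b, T_ci, T_di, T_c] M (Nat.sub (T_b u) (Nat.mod (T_b u) M)) (nat_lit 40) (Nat.mod (T_b u) M) u) (Nat.ble (nat_lit 98) j)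
noncomputable def dp_b_80 (j u : ℕ) : Bool :=
  Bool.rec (motive := fun _ => Bool) (lF [T_ci, T_ei, T_di, T_c, T_d, T_ci, T_ci, T_e, T_di, T_f] M (Nat.sub (T_b u) (Nat.mod (T_b u) M)) (Nat.mod (T_b u) M) u) (dp_b_79 j u) (Nat.ble (nat_lit 97) j)
noncomputable def dp_b_81 (j u : ℕ) : Bool :=
  Bool.rec (motive := fun _ => Bool) (dp_b_78 j u) (dp_b_80 j u) (Nat.ble (nat_lit 96) j)
noncomputable def dp_b_82 (j u : ℕ) : Bool :=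
  Bool.rec (motive := fun _ => Bool) (dp_b_77 j u) (dp_b_81 j u) (Nat.ble (nat_lit 94) j)
noncomputable def dp_b_83 (j u : ℕ) : Bool :=
  Bool.rec (motive := fun _ => Bool) (dp_b_74 j u) (dp_b_82 j u) (Nat.ble (nat_lit 90) j)
noncomputable def dp_b_84 (j u : ℕ) : Bool :=
  Bool.rec (motive := fun _ => Bool) (dp_b_67 j u) (dp_b_83 j u) (Nat.ble (nat_lit 82) j)
noncomputable def dp_b_85 (j u : ℕ) : Bool :=
  Bool.rec (motive := fun _ => Bool) (dp_b_56 j u) (dp_b_84 j u) (Nat.ble (nat_lit 70) j)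
noncomputable def dp_b_86 (j u : ℕ) : Bool :=
  Bool.rec (motive := fun _ => Bool) (dp_b_45 j u) (dp_b_85 j u) (Nat.ble (nat_lit 58) j)
noncomputable def dp_b_87 (j u : ℕ) : Bool :=
  Bool.rec (motive := fun _ => Bool) (dp_b_33 j u) (dp_b_86 j u) (Nat.ble (nat_lit 45) j)
noncomputable def dp_b_88 (j u : ℕ) : Bool :=
  Bool.rec (motive := fun _ => Bool) (dp_b_18 j u) (dp_b_87 j u) (Nat.ble (nat_lit 29) j)
noncomputable def dp_b_89 (j u : ℕ) : Bool :=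
  Bool.rec (motive := fun _ => Bool) (dp_b_8 j u) (dp_b_88 j u) (Nat.ble (nat_lit 18) j)
noncomputable def dp_b_90 (j u : ℕ) : Bool :=
  Bool.rec (motive := fun _ => Bool) (dp_b_2 j u) (dp_b_89 j u) (Nat.ble (nat_lit 11) j)
noncomputable def dp_b_91 (j u : ℕ) : Bool :=
  Bool.rec (motive := fun _ => Bool) (Bool.rec (motive := fun _ => Bool) (lF3 T_z T_bi T_zi M (Nat.sub (T_b u) (Nat.mod (T_b u) M)) (Nat.mod (T_b u) M) u) (dp_b_0 j u) (Nat.ble (nat_lit 6) j)) (dp_b_90 j u) (Nat.ble (nat_lit 8) j)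
noncomputable def dp_b_92 (j u : ℕ) : Bool :=
  Bool.rec (motive := fun _ => Bool) (Bool.rec (motive := fun _ => Bool) (lS MG [T_bi] M (Nat.sub (T_b u) (Nat.mod (T_b u) M)) (nat_lit 40) (Nat.mod (T_b u) M) u) (lF3 T_zi T_bi T_z M (Nat.sub (T_b u) (Nat.mod (T_b u) M)) (Nat.mod (T_b u) M) u) (Nat.ble (nat_lit 4) j)) (dp_b_91 j u) (Nat.ble (nat_lit 5) j)
noncomputable def disp_b (j u : ℕ) : Bool :=
  Bool.rec (motive := fun _ => Bool) (Bool.rec (motive := fun _ => Bool) (lF1 T_bi M (Nat.sub (T_b u) (Nat.mod (T_b u) M)) (Nat.mod (T_b u) M) u) (Bool.rec (motive := fun _ => Bool) (lDef P (nat_lit 0) (Nat.mod (T_b u) M) u) (lDef P (nat_lit 1) u (Nat.mod (T_b u) M)) (Nat.ble (nat_lit 2) j)) (Nat.ble (nat_lit 1) j)) (dp_b_92 j u) (Nat.ble (nat_lit 3) j)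
noncomputable def chk_b (j u : ℕ) : Bool :=
  Bool.rec (motive := fun _ => Bool) (disp_b j u) (Nat.ble (Nat.succ (MG u)) A) (Nat.ble A (T_b u))
noncomputable def dp_bi_0 (j u : ℕ) : Bool :=
  Bool.rec (motive := fun _ => Bool) (lF [T_bi, T_d, T_bi, T_di] M (Nat.sub (T_bi u) (Nat.mod (T_bi u) M)) (Nat.mod (T_bi u) M) u) (lF [T_d, T_bi, T_di, T_bi] M (Nat.sub (T_bi u) (Nat.mod (T_bi u) M)) (Nat.mod (T_bi u) M) u) (Nat.ble (nat_lit 7) j)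
noncomputable def dp_bi_1 (j u : ℕ) : Bool :=
  Bool.rec (motive := fun _ => Bool) (lF3 T_z T_b T_zi M (Nat.sub (T_bi u) (Nat.mod (T_bi u) M)) (Nat.mod (T_bi u) M) u) (dp_bi_0 j u) (Nat.ble (nat_lit 6) j)
noncomputable def dp_bi_2 (j u : ℕ) : Bool :=
  Bool.rec (motive := fun _ => Bool) (lF [T_f, T_f, T_bi, T_f, T_f] M (Nat.sub (T_bi u) (Nat.mod (T_bi u) M)) (Nat.mod (T_bi u) M) u) (lS MG [T_z, T_b, T_zi] M (Nat.sub (T_bi u) (Nat.mod (T_bi u) M)) (nat_lit 40) (Nat.mod (T_bi u) M) u) (Nat.ble (nat_lit 10) j)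
noncomputable def dp_bi_3 (j u : ℕ) : Bool :=
  Bool.rec (motive := fun _ => Bool) (lF [T_di, T_bi, T_bi, T_d] M (Nat.sub (T_bi u) (Nat.mod (T_bi u) M)) (Nat.mod (T_bi u) M) u) (dp_bi_2 j u) (Nat.ble (nat_lit 9) j)
noncomputable def dp_bi_4 (j u : ℕ) : Bool :=
  Bool.rec (motive := fun _ => Bool) (lS MG [T_e, T_c, T_e, T_bi, T_z, T_e, T_c, T_e] M (Nat.sub (T_bi u) (Nat.mod (T_bi u) M)) (nat_lit 40) (Nat.mod (T_bi u) M) u) (lS MG [T_zi, T_b, T_z] M (Nat.sub (T_bi u) (Nat.mod (T_bi u) M)) (nat_lit 40) (Nat.mod (T_bi u) M) u) (Nat.ble (nat_lit 12) j)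
noncomputable def dp_bi_5 (j u : ℕ) : Bool :=
  Bool.rec (motive := fun _ => Bool) (lF [T_c, T_di, T_bi, T_di, T_fi, T_ci] M (Nat.sub (T_bi u) (Nat.mod (T_bi u) M)) (Nat.mod (T_bi u) M) u) (lS MG [T_d, T_bi, T_di, T_bi] M (Nat.sub (T_bi u) (Nat.mod (T_bi u) M)) (nat_lit 40) (Nat.mod (T_bi u) M) u) (Nat.ble (nat_lit 14) j)
noncomputable def dp_bi_6 (j u : ℕ) : Bool :=
  Bool.rec (motive := fun _ => Bool) (lS MG [T_f, T_f, T_bi, T_f, T_f] M (Nat.sub (T_bi u) (Nat.mod (T_bi u) M)) (nat_lit 40) (Nat.mod (T_bi u) M) u) (lS MG [T_bi, T_d, T_bi, T_di] M (Nat.sub (T_bi u) (Nat.mod (T_bi u) M)) (nat_lit 40) (Nat.mod (T_bi u) M) u) (Nat.ble (nat_lit 17) j)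
noncomputable def dp_bi_7 (j u : ℕ) : Bool :=
  Bool.rec (motive := fun _ => Bool) (lS MG [T_di, T_bi, T_bi, T_d] M (Nat.sub (T_bi u) (Nat.mod (T_bi u) M)) (nat_lit 40) (Nat.mod (T_bi u) M) u) (dp_bi_6 j u) (Nat.ble (nat_lit 16) j)
noncomputable def dp_bi_8 (j u : ℕ) : Bool :=
  Bool.rec (motive := fun _ => Bool) (dp_bi_5 j u) (dp_bi_7 j u) (Nat.ble (nat_lit 15) j)
noncomputable def dp_bi_9 (j u : ℕ) : Bool :=
  Bool.rec (motive := fun _ => Bool) (dp_bi_4 j u) (dp_bi_8 j u) (Nat.ble (nat_lit 13) j)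
noncomputable def dp_bi_10 (j u : ℕ) : Bool :=
  Bool.rec (motive := fun _ => Bool) (lF [T_di, T_fi, T_ci, T_bi, T_c, T_di] M (Nat.sub (T_bi u) (Nat.mod (T_bi u) M)) (Nat.mod (T_bi u) M) u) (lF [T_di, T_c, T_e, T_ci, T_d, T_b, T_c, T_ei, T_ci] M (Nat.sub (T_bi u) (Nat.mod (T_bi u) M)) (Nat.mod (T_bi u) M) u) (Nat.ble (nat_lit 19) j)
noncomputable def dp_bi_11 (j u : ℕ) : Bool :=
  Bool.rec (motive := fun _ => Bool) (lF [T_di, T_c, T_ei, T_ci, T_d, T_b, T_c, T_e, T_ci] M (Nat.sub (T_bi u) (Nat.mod (T_bi u) M)) (Nat.mod (T_bi u) M) u) (lF [T_e, T_c, T_e, T_bi, T_z, T_e, T_c, T_e] M (Nat.sub (T_bi u) (Nat.mod (T_bi u) M)) (Nat.mod (T_bi u) M) u) (Nat.ble (nat_lit 21) j)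
noncomputable def dp_bi_12 (j u : ℕ) : Bool :=
  Bool.rec (motive := fun _ => Bool) (dp_bi_10 j u) (dp_bi_11 j u) (Nat.ble (nat_lit 20) j)
noncomputable def dp_bi_13 (j u : ℕ) : Bool :=
  Bool.rec (motive := fun _ => Bool) (lS MG [T_z, T_e, T_c, T_e, T_bi, T_e, T_c, T_e] M (Nat.sub (T_bi u) (Nat.mod (T_bi u) M)) (nat_lit 40) (Nat.mod (T_bi u) M) u) (lF [T_c, T_bi, T_ei, T_b, T_ci, T_b, T_b, T_ei, T_bi] M (Nat.sub (T_bi u) (Nat.mod (T_bi u) M)) (Nat.mod (T_bi u) M) u) (Nat.ble (nat_lit 23) j)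
noncomputable def dp_bi_14 (j u : ℕ) : Bool :=
  Bool.rec (motive := fun _ => Bool) (lF [T_c, T_bi, T_e, T_b, T_ci, T_b, T_b, T_e, T_bi] M (Nat.sub (T_bi u) (Nat.mod (T_bi u) M)) (Nat.mod (T_bi u) M) u) (lS MG [T_c, T_di, T_bi, T_di, T_fi, T_ci] M (Nat.sub (T_bi u) (Nat.mod (T_bi u) M)) (nat_lit 40) (Nat.mod (T_bi u) M) u) (Nat.ble (nat_lit 25) j)
noncomputable def dp_bi_15 (j u : ℕ) : Bool :=
  Bool.rec (motive := fun _ => Bool) (lF [T_fi, T_d, T_d, T_b, T_c, T_bi, T_ci] M (Nat.sub (T_bi u) (Nat.mod (T_bi u) M)) (Nat.mod (T_bi u) M) u) (lF [T_di, T_di, T_fi, T_bi, T_ci, T_di, T_f] M (Nat.sub (T_bi u) (Nat.mod (T_bi u) M)) (Nat.mod (T_bi u) M) u) (Nat.ble (nat_lit 27) j)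
noncomputable def dp_bi_16 (j u : ℕ) : Bool :=
  Bool.rec (motive := fun _ => Bool) (dp_bi_14 j u) (dp_bi_15 j u) (Nat.ble (nat_lit 26) j)
noncomputable def dp_bi_17 (j u : ℕ) : Bool :=
  Bool.rec (motive := fun _ => Bool) (dp_bi_13 j u) (dp_bi_16 j u) (Nat.ble (nat_lit 24) j)
noncomputable def dp_bi_18 (j u : ℕ) : Bool :=
  Bool.rec (motive := fun _ => Bool) (dp_bi_12 j u) (dp_bi_17 j u) (Nat.ble (nat_lit 22) j)
noncomputable def dp_bi_19 (j u : ℕ) : Bool :=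
  Bool.rec (motive := fun _ => Bool) (lF [T_c, T_bi, T_c, T_bi, T_c, T_bi, T_c] M (Nat.sub (T_bi u) (Nat.mod (T_bi u) M)) (Nat.mod (T_bi u) M) u) (lF [T_d, T_ci, T_b, T_di, T_ci, T_d, T_ci] M (Nat.sub (T_bi u) (Nat.mod (T_bi u) M)) (Nat.mod (T_bi u) M) u) (Nat.ble (nat_lit 30) j)
noncomputable def dp_bi_20 (j u : ℕ) : Bool :=
  Bool.rec (motive := fun _ => Bool) (lF [T_c, T_di, T_b, T_c, T_di, T_c, T_d] M (Nat.sub (T_bi u) (Nat.mod (T_bi u) M)) (Nat.mod (T_bi u) M) u) (dp_bi_19 j u) (Nat.ble (nat_lit 29) j)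
noncomputable def dp_bi_21 (j u : ℕ) : Bool :=
  Bool.rec (motive := fun _ => Bool) (lF [T_fi, T_di, T_ci, T_bi, T_ci, T_fi, T_d] M (Nat.sub (T_bi u) (Nat.mod (T_bi u) M)) (Nat.mod (T_bi u) M) u) (lF [T_d, T_fi, T_c, T_fi, T_bi, T_di, T_c] M (Nat.sub (T_bi u) (Nat.mod (T_bi u) M)) (Nat.mod (T_bi u) M) u) (Nat.ble (nat_lit 32) j)
noncomputable def dp_bi_22 (j u : ℕ) : Bool :=
  Bool.rec (motive := fun _ => Bool) (lF [T_ci, T_d, T_c, T_bi, T_ci, T_d, T_c] M (Nat.sub (T_bi u) (Nat.mod (T_bi u) M)) (Nat.mod (T_bi u) M) u) (lF [T_f, T_d, T_b, T_c, T_d, T_b, T_ci] M (Nat.sub (T_bi u) (Nat.mod (T_bi u) M)) (Nat.mod (T_bi u) M) u) (Nat.ble (nat_lit 34) j)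
noncomputable def dp_bi_23 (j u : ℕ) : Bool :=
  Bool.rec (motive := fun _ => Bool) (dp_bi_21 j u) (dp_bi_22 j u) (Nat.ble (nat_lit 33) j)
noncomputable def dp_bi_24 (j u : ℕ) : Bool :=
  Bool.rec (motive := fun _ => Bool) (dp_bi_20 j u) (dp_bi_23 j u) (Nat.ble (nat_lit 31) j)
noncomputable def dp_bi_25 (j u : ℕ) : Bool :=
  Bool.rec (motive := fun _ => Bool) (lF [T_z, T_e, T_c, T_e, T_bi, T_e, T_c, T_e] M (Nat.sub (T_bi u) (Nat.mod (T_bi u) M)) (Nat.mod (T_bi u) M) u) (lF [T_fi, T_d, T_ei, T_c, T_c, T_di, T_ci, T_d, T_e, T_c] M (Nat.sub (T_bi u) (Nat.mod (T_bi u) M)) (Nat.mod (T_bi u) M) u) (Nat.ble (nat_lit 36) j)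
noncomputable def dp_bi_26 (j u : ℕ) : Bool :=
  Bool.rec (motive := fun _ => Bool) (lF [T_c, T_b, T_d, T_ci, T_fi, T_fi, T_di] M (Nat.sub (T_bi u) (Nat.mod (T_bi u) M)) (Nat.mod (T_bi u) M) u) (lF [T_c, T_c, T_di, T_bi, T_c, T_c, T_di] M (Nat.sub (T_bi u) (Nat.mod (T_bi u) M)) (Nat.mod (T_bi u) M) u) (Nat.ble (nat_lit 38) j)
noncomputable def dp_bi_27 (j u : ℕ) : Bool :=
  Bool.rec (motive := fun _ => Bool) (dp_bi_25 j u) (dp_bi_26 j u) (Nat.ble (nat_lit 37) j)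
noncomputable def dp_bi_28 (j u : ℕ) : Bool :=
  Bool.rec (motive := fun _ => Bool) (lF [T_fi, T_c, T_d, T_d, T_bi, T_f, T_c] M (Nat.sub (T_bi u) (Nat.mod (T_bi u) M)) (Nat.mod (T_bi u) M) u) (lF [T_ci, T_bi, T_fi, T_d, T_d, T_b, T_c] M (Nat.sub (T_bi u) (Nat.mod (T_bi u) M)) (Nat.mod (T_bi u) M) u) (Nat.ble (nat_lit 40) j)
noncomputable def dp_bi_29 (j u : ℕ) : Bool :=
  Bool.rec (motive := fun _ => Bool) (lF [T_c, T_fi, T_di, T_ci, T_b, T_di, T_f] M (Nat.sub (T_bi u) (Nat.mod (T_bi u) M)) (Nat.mod (T_bi u) M) u) (lS MG [T_di, T_fi, T_ci, T_bi, T_c, T_di] M (Nat.sub (T_bi u) (Nat.mod (T_bi u) M)) (nat_lit 40) (Nat.mod (T_bi u) M) u) (Nat.ble (nat_lit 43) j)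
noncomputable def dp_bi_30 (j u : ℕ) : Bool :=
  Bool.rec (motive := fun _ => Bool) (lF [T_d, T_ci, T_fi, T_bi, T_d, T_ci, T_fi] M (Nat.sub (T_bi u) (Nat.mod (T_bi u) M)) (Nat.mod (T_bi u) M) u) (dp_bi_29 j u) (Nat.ble (nat_lit 42) j)
noncomputable def dp_bi_31 (j u : ℕ) : Bool :=
  Bool.rec (motive := fun _ => Bool) (dp_bi_28 j u) (dp_bi_30 j u) (Nat.ble (nat_lit 41) j)
noncomputable def dp_bi_32 (j u : ℕ) : Bool :=
  Bool.rec (motive := fun _ => Bool) (dp_bi_27 j u) (dp_bi_31 j u) (Nat.ble (nat_lit 39) j)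
noncomputable def dp_bi_33 (j u : ℕ) : Bool :=
  Bool.rec (motive := fun _ => Bool) (dp_bi_24 j u) (dp_bi_32 j u) (Nat.ble (nat_lit 35) j)
noncomputable def dp_bi_34 (j u : ℕ) : Bool :=
  Bool.rec (motive := fun _ => Bool) (lF [T_fi, T_ci, T_b, T_f, T_ci, T_ci, T_f] M (Nat.sub (T_bi u) (Nat.mod (T_bi u) M)) (Nat.mod (T_bi u) M) u) (lF [T_ci, T_di, T_f, T_bi, T_di, T_di, T_fi] M (Nat.sub (T_bi u) (Nat.mod (T_bi u) M)) (Nat.mod (T_bi u) M) u) (Nat.ble (nat_lit 46) j)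
noncomputable def dp_bi_35 (j u : ℕ) : Bool :=
  Bool.rec (motive := fun _ => Bool) (lF [T_c, T_fi, T_di, T_b, T_c, T_c, T_d] M (Nat.sub (T_bi u) (Nat.mod (T_bi u) M)) (Nat.mod (T_bi u) M) u) (dp_bi_34 j u) (Nat.ble (nat_lit 45) j)
noncomputable def dp_bi_36 (j u : ℕ) : Bool :=
  Bool.rec (motive := fun _ => Bool) (lF [T_f, T_ci, T_d, T_b, T_ci, T_di, T_ci] M (Nat.sub (T_bi u) (Nat.mod (T_bi u) M)) (Nat.mod (T_bi u) M) u) (lS MG [T_di, T_c, T_ei, T_ci, T_d, T_b, T_c, T_e, T_ci] M (Nat.sub (T_bi u) (Nat.mod (T_bi u) M)) (nat_lit 40) (Nat.mod (T_bi u) M) u) (Nat.ble (nat_lit 49) j)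
noncomputable def dp_bi_37 (j u : ℕ) : Bool :=
  Bool.rec (motive := fun _ => Bool) (lF [T_di, T_ci, T_bi, T_di, T_fi, T_b, T_c] M (Nat.sub (T_bi u) (Nat.mod (T_bi u) M)) (Nat.mod (T_bi u) M) u) (dp_bi_36 j u) (Nat.ble (nat_lit 48) j)
noncomputable def dp_bi_38 (j u : ℕ) : Bool :=
  Bool.rec (motive := fun _ => Bool) (dp_bi_35 j u) (dp_bi_37 j u) (Nat.ble (nat_lit 47) j)
noncomputable def dp_bi_39 (j u : ℕ) : Bool :=
  Bool.rec (motive := fun _ => Bool) (lS MG [T_c, T_bi, T_c, T_bi, T_c, T_bi, T_c] M (Nat.sub (T_bi u) (Nat.mod (T_bi u) M)) (nat_lit 40) (Nat.mod (T_bi u) M) u) (lS MG [T_d, T_ci, T_b, T_di, T_ci, T_d, T_ci] M (Nat.sub (T_bi u) (Nat.mod (T_bi u) M)) (nat_lit 40) (Nat.mod (T_bi u) M) u) (Nat.ble (nat_lit 51) j)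
noncomputable def dp_bi_40 (j u : ℕ) : Bool :=
  Bool.rec (motive := fun _ => Bool) (lS MG [T_fi, T_d, T_d, T_b, T_c, T_bi, T_ci] M (Nat.sub (T_bi u) (Nat.mod (T_bi u) M)) (nat_lit 40) (Nat.mod (T_bi u) M) u) (lF [T_di, T_c, T_bi, T_d, T_fi, T_c, T_fi] M (Nat.sub (T_bi u) (Nat.mod (T_bi u) M)) (Nat.mod (T_bi u) M) u) (Nat.ble (nat_lit 53) j)
noncomputable def dp_bi_41 (j u : ℕ) : Bool :=
  Bool.rec (motive := fun _ => Bool) (dp_bi_39 j u) (dp_bi_40 j u) (Nat.ble (nat_lit 52) j)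
noncomputable def dp_bi_42 (j u : ℕ) : Bool :=
  Bool.rec (motive := fun _ => Bool) (lF [T_di, T_fi, T_b, T_c, T_bi, T_di, T_ci] M (Nat.sub (T_bi u) (Nat.mod (T_bi u) M)) (Nat.mod (T_bi u) M) u) (lF [T_ci, T_b, T_d, T_f, T_f, T_c, T_di] M (Nat.sub (T_bi u) (Nat.mod (T_bi u) M)) (Nat.mod (T_bi u) M) u) (Nat.ble (nat_lit 55) j)
noncomputable def dp_bi_43 (j u : ℕ) : Bool :=
  Bool.rec (motive := fun _ => Bool) (lF [T_di, T_di, T_f, T_b, T_c, T_b, T_ci] M (Nat.sub (T_bi u) (Nat.mod (T_bi u) M)) (Nat.mod (T_bi u) M) u) (lS MG [T_c, T_c, T_di, T_bi, T_c, T_c, T_di] M (Nat.sub (T_bi u) (Nat.mod (T_bi u) M)) (nat_lit 40) (Nat.mod (T_bi u) M) u) (Nat.ble (nat_lit 58) j)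
noncomputable def dp_bi_44 (j u : ℕ) : Bool :=
  Bool.rec (motive := fun _ => Bool) (lS MG [T_di, T_di, T_fi, T_bi, T_ci, T_di, T_f] M (Nat.sub (T_bi u) (Nat.mod (T_bi u) M)) (nat_lit 40) (Nat.mod (T_bi u) M) u) (dp_bi_43 j u) (Nat.ble (nat_lit 57) j)
noncomputable def dp_bi_45 (j u : ℕ) : Bool :=
  Bool.rec (motive := fun _ => Bool) (dp_bi_42 j u) (dp_bi_44 j u) (Nat.ble (nat_lit 56) j)
noncomputable def dp_bi_46 (j u : ℕ) : Bool :=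
  Bool.rec (motive := fun _ => Bool) (dp_bi_41 j u) (dp_bi_45 j u) (Nat.ble (nat_lit 54) j)
noncomputable def dp_bi_47 (j u : ℕ) : Bool :=
  Bool.rec (motive := fun _ => Bool) (dp_bi_38 j u) (dp_bi_46 j u) (Nat.ble (nat_lit 50) j)
noncomputable def dp_bi_48 (j u : ℕ) : Bool :=
  Bool.rec (motive := fun _ => Bool) (lF [T_c, T_d, T_f, T_ci, T_b, T_fi, T_d] M (Nat.sub (T_bi u) (Nat.mod (T_bi u) M)) (Nat.mod (T_bi u) M) u) (lS MG [T_c, T_bi, T_e, T_b, T_ci, T_b, T_b, T_e, T_bi] M (Nat.sub (T_bi u) (Nat.mod (T_bi u) M)) (nat_lit 40) (Nat.mod (T_bi u) M) u) (Nat.ble (nat_lit 61) j)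
noncomputable def dp_bi_49 (j u : ℕ) : Bool :=
  Bool.rec (motive := fun _ => Bool) (lS MG [T_fi, T_d, T_ei, T_c, T_c, T_di, T_ci, T_d, T_e, T_c] M (Nat.sub (T_bi u) (Nat.mod (T_bi u) M)) (nat_lit 40) (Nat.mod (T_bi u) M) u) (dp_bi_48 j u) (Nat.ble (nat_lit 60) j)
noncomputable def dp_bi_50 (j u : ℕ) : Bool :=
  Bool.rec (motive := fun _ => Bool) (lS MG [T_c, T_fi, T_di, T_ci, T_b, T_di, T_f] M (Nat.sub (T_bi u) (Nat.mod (T_bi u) M)) (nat_lit 40) (Nat.mod (T_bi u) M) u) (lS MG [T_fi, T_c, T_d, T_d, T_bi, T_f, T_c] M (Nat.sub (T_bi u) (Nat.mod (T_bi u) M)) (nat_lit 40) (Nat.mod (T_bi u) M) u) (Nat.ble (nat_lit 64) j)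
noncomputable def dp_bi_51 (j u : ℕ) : Bool :=
  Bool.rec (motive := fun _ => Bool) (lS MG [T_c, T_b, T_d, T_ci, T_fi, T_fi, T_di] M (Nat.sub (T_bi u) (Nat.mod (T_bi u) M)) (nat_lit 40) (Nat.mod (T_bi u) M) u) (dp_bi_50 j u) (Nat.ble (nat_lit 63) j)
noncomputable def dp_bi_52 (j u : ℕ) : Bool :=
  Bool.rec (motive := fun _ => Bool) (dp_bi_49 j u) (dp_bi_51 j u) (Nat.ble (nat_lit 62) j)
noncomputable def dp_bi_53 (j u : ℕ) : Bool :=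
  Bool.rec (motive := fun _ => Bool) (lS MG [T_c, T_bi, T_ei, T_b, T_ci, T_b, T_b, T_ei, T_bi] M (Nat.sub (T_bi u) (Nat.mod (T_bi u) M)) (nat_lit 40) (Nat.mod (T_bi u) M) u) (lF [T_e, T_b, T_ci, T_b, T_b, T_e, T_bi, T_bi, T_c] M (Nat.sub (T_bi u) (Nat.mod (T_bi u) M)) (Nat.mod (T_bi u) M) u) (Nat.ble (nat_lit 67) j)
noncomputable def dp_bi_54 (j u : ℕ) : Bool :=
  Bool.rec (motive := fun _ => Bool) (lS MG [T_c, T_di, T_b, T_c, T_di, T_c, T_d] M (Nat.sub (T_bi u) (Nat.mod (T_bi u) M)) (nat_lit 40) (Nat.mod (T_bi u) M) u) (dp_bi_53 j u) (Nat.ble (nat_lit 66) j)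
noncomputable def dp_bi_55 (j u : ℕ) : Bool :=
  Bool.rec (motive := fun _ => Bool) (lF [T_ci, T_fi, T_d, T_bi, T_fi, T_di, T_ci] M (Nat.sub (T_bi u) (Nat.mod (T_bi u) M)) (Nat.mod (T_bi u) M) u) (lS MG [T_di, T_c, T_e, T_ci, T_d, T_b, T_c, T_ei, T_ci] M (Nat.sub (T_bi u) (Nat.mod (T_bi u) M)) (nat_lit 40) (Nat.mod (T_bi u) M) u) (Nat.ble (nat_lit 69) j)
noncomputable def dp_bi_56 (j u : ℕ) : Bool :=
  Bool.rec (motive := fun _ => Bool) (lS MG [T_ci, T_di, T_f, T_bi, T_di, T_di, T_fi] M (Nat.sub (T_bi u) (Nat.mod (T_bi u) M)) (nat_lit 40) (Nat.mod (T_bi u) M) u) (lF [T_f, T_c, T_bi, T_fi, T_c, T_d, T_d] M (Nat.sub (T_bi u) (Nat.mod (T_bi u) M)) (Nat.mod (T_bi u) M) u) (Nat.ble (nat_lit 71) j)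
noncomputable def dp_bi_57 (j u : ℕ) : Bool :=
  Bool.rec (motive := fun _ => Bool) (dp_bi_55 j u) (dp_bi_56 j u) (Nat.ble (nat_lit 70) j)
noncomputable def dp_bi_58 (j u : ℕ) : Bool :=
  Bool.rec (motive := fun _ => Bool) (dp_bi_54 j u) (dp_bi_57 j u) (Nat.ble (nat_lit 68) j)
noncomputable def dp_bi_59 (j u : ℕ) : Bool :=
  Bool.rec (motive := fun _ => Bool) (dp_bi_52 j u) (dp_bi_58 j u) (Nat.ble (nat_lit 65) j)
noncomputable def dp_bi_60 (j u : ℕ) : Bool :=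
  Bool.rec (motive := fun _ => Bool) (lS MG [T_ci, T_fi, T_d, T_bi, T_fi, T_di, T_ci] M (Nat.sub (T_bi u) (Nat.mod (T_bi u) M)) (nat_lit 40) (Nat.mod (T_bi u) M) u) (lS MG [T_bi, T_c, T_bi, T_ei, T_b, T_ci, T_b, T_b, T_ei] M (Nat.sub (T_bi u) (Nat.mod (T_bi u) M)) (nat_lit 40) (Nat.mod (T_bi u) M) u) (Nat.ble (nat_lit 73) j)
noncomputable def dp_bi_61 (j u : ℕ) : Bool :=
  Bool.rec (motive := fun _ => Bool) (lS MG [T_ci, T_b, T_d, T_f, T_f, T_c, T_di] M (Nat.sub (T_bi u) (Nat.mod (T_bi u) M)) (nat_lit 40) (Nat.mod (T_bi u) M) u) (lS MG [T_c, T_fi, T_di, T_b, T_c, T_c, T_d] M (Nat.sub (T_bi u) (Nat.mod (T_bi u) M)) (nat_lit 40) (Nat.mod (T_bi u) M) u) (Nat.ble (nat_lit 75) j)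
noncomputable def dp_bi_62 (j u : ℕ) : Bool :=
  Bool.rec (motive := fun _ => Bool) (dp_bi_60 j u) (dp_bi_61 j u) (Nat.ble (nat_lit 74) j)
noncomputable def dp_bi_63 (j u : ℕ) : Bool :=
  Bool.rec (motive := fun _ => Bool) (lF [T_bi, T_c, T_bi, T_ei, T_b, T_ci, T_b, T_b, T_ei] M (Nat.sub (T_bi u) (Nat.mod (T_bi u) M)) (Nat.mod (T_bi u) M) u) (lS MG [T_c, T_f, T_b, T_fi, T_c, T_c, T_fi] M (Nat.sub (T_bi u) (Nat.mod (T_bi u) M)) (nat_lit 40) (Nat.mod (T_bi u) M) u) (Nat.ble (nat_lit 77) j)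
noncomputable def dp_bi_64 (j u : ℕ) : Bool :=
  Bool.rec (motive := fun _ => Bool) (lS MG [T_ci, T_bi, T_fi, T_d, T_d, T_b, T_c] M (Nat.sub (T_bi u) (Nat.mod (T_bi u) M)) (nat_lit 40) (Nat.mod (T_bi u) M) u) (lS MG [T_fi, T_ci, T_b, T_f, T_ci, T_ci, T_f] M (Nat.sub (T_bi u) (Nat.mod (T_bi u) M)) (nat_lit 40) (Nat.mod (T_bi u) M) u) (Nat.ble (nat_lit 80) j)
noncomputable def dp_bi_65 (j u : ℕ) : Bool :=
  Bool.rec (motive := fun _ => Bool) (lS MG [T_di, T_ci, T_bi, T_di, T_fi, T_b, T_c] M (Nat.sub (T_bi u) (Nat.mod (T_bi u) M)) (nat_lit 40) (Nat.mod (T_bi u) M) u) (dp_bi_64 j u) (Nat.ble (nat_lit 79) j)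
noncomputable def dp_bi_66 (j u : ℕ) : Bool :=
  Bool.rec (motive := fun _ => Bool) (dp_bi_63 j u) (dp_bi_65 j u) (Nat.ble (nat_lit 78) j)
noncomputable def dp_bi_67 (j u : ℕ) : Bool :=
  Bool.rec (motive := fun _ => Bool) (dp_bi_62 j u) (dp_bi_66 j u) (Nat.ble (nat_lit 76) j)
noncomputable def dp_bi_68 (j u : ℕ) : Bool :=
  Bool.rec (motive := fun _ => Bool) (lF [T_di, T_c, T_fi, T_b, T_c, T_d, T_c] M (Nat.sub (T_bi u) (Nat.mod (T_bi u) M)) (Nat.mod (T_bi u) M) u) (lS MG [T_ci, T_d, T_c, T_bi, T_ci, T_d, T_c] M (Nat.sub (T_bi u) (Nat.mod (T_bi u) M)) (nat_lit 40) (Nat.mod (T_bi u) M) u) (Nat.ble (nat_lit 82) j)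
noncomputable def dp_bi_69 (j u : ℕ) : Bool :=
  Bool.rec (motive := fun _ => Bool) (lF [T_c, T_f, T_b, T_fi, T_c, T_c, T_fi] M (Nat.sub (T_bi u) (Nat.mod (T_bi u) M)) (Nat.mod (T_bi u) M) u) (lS MG [T_fi, T_b, T_c, T_di, T_bi, T_d, T_b, T_d, T_ci] M (Nat.sub (T_bi u) (Nat.mod (T_bi u) M)) (nat_lit 40) (Nat.mod (T_bi u) M) u) (Nat.ble (nat_lit 84) j)
noncomputable def dp_bi_70 (j u : ℕ) : Bool :=
  Bool.rec (motive := fun _ => Bool) (dp_bi_68 j u) (dp_bi_69 j u) (Nat.ble (nat_lit 83) j)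
noncomputable def dp_bi_71 (j u : ℕ) : Bool :=
  Bool.rec (motive := fun _ => Bool) (lS MG [T_fi, T_di, T_ci, T_bi, T_ci, T_fi, T_d] M (Nat.sub (T_bi u) (Nat.mod (T_bi u) M)) (nat_lit 40) (Nat.mod (T_bi u) M) u) (lF [T_bi, T_di, T_c, T_f, T_b, T_b, T_b, T_ci] M (Nat.sub (T_bi u) (Nat.mod (T_bi u) M)) (Nat.mod (T_bi u) M) u) (Nat.ble (nat_lit 86) j)
noncomputable def dp_bi_72 (j u : ℕ) : Bool :=
  Bool.rec (motive := fun _ => Bool) (lS MG [T_bi, T_fi, T_ci, T_d, T_b, T_b, T_c, T_bi] M (Nat.sub (T_bi u) (Nat.mod (T_bi u) M)) (nat_lit 40) (Nat.mod (T_bi u) M) u) (lS MG [T_f, T_ci, T_d, T_b, T_ci, T_di, T_ci] M (Nat.sub (T_bi u) (Nat.mod (T_bi u) M)) (nat_lit 40) (Nat.mod (T_bi u) M) u) (Nat.ble (nat_lit 89) j)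
noncomputable def dp_bi_73 (j u : ℕ) : Bool :=
  Bool.rec (motive := fun _ => Bool) (lS MG [T_c, T_d, T_f, T_ci, T_b, T_fi, T_d] M (Nat.sub (T_bi u) (Nat.mod (T_bi u) M)) (nat_lit 40) (Nat.mod (T_bi u) M) u) (dp_bi_72 j u) (Nat.ble (nat_lit 88) j)
noncomputable def dp_bi_74 (j u : ℕ) : Bool :=
  Bool.rec (motive := fun _ => Bool) (dp_bi_71 j u) (dp_bi_73 j u) (Nat.ble (nat_lit 87) j)
noncomputable def dp_bi_75 (j u : ℕ) : Bool :=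
  Bool.rec (motive := fun _ => Bool) (dp_bi_70 j u) (dp_bi_74 j u) (Nat.ble (nat_lit 85) j)
noncomputable def dp_bi_76 (j u : ℕ) : Bool :=
  Bool.rec (motive := fun _ => Bool) (lF [T_d, T_f, T_ci, T_b, T_di, T_ci, T_ci] M (Nat.sub (T_bi u) (Nat.mod (T_bi u) M)) (Nat.mod (T_bi u) M) u) (lS MG [T_d, T_f, T_ci, T_b, T_di, T_ci, T_ci] M (Nat.sub (T_bi u) (Nat.mod (T_bi u) M)) (nat_lit 40) (Nat.mod (T_bi u) M) u) (Nat.ble (nat_lit 91) j)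
noncomputable def dp_bi_77 (j u : ℕ) : Bool :=
  Bool.rec (motive := fun _ => Bool) (lS MG [T_bi, T_c, T_bi, T_e, T_b, T_ci, T_b, T_b, T_e] M (Nat.sub (T_bi u) (Nat.mod (T_bi u) M)) (nat_lit 40) (Nat.mod (T_bi u) M) u) (lS MG [T_di, T_di, T_f, T_b, T_c, T_b, T_ci] M (Nat.sub (T_bi u) (Nat.mod (T_bi u) M)) (nat_lit 40) (Nat.mod (T_bi u) M) u) (Nat.ble (nat_lit 93) j)
noncomputable def dp_bi_78 (j u : ℕ) : Bool :=
  Bool.rec (motive := fun _ => Bool) (dp_bi_76 j u) (dp_bi_77 j u) (Nat.ble (nat_lit 92) j)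
noncomputable def dp_bi_79 (j u : ℕ) : Bool :=
  Bool.rec (motive := fun _ => Bool) (lS MG [T_fi, T_d, T_bi, T_bi, T_c, T_b, T_ci, T_di] M (Nat.sub (T_bi u) (Nat.mod (T_bi u) M)) (nat_lit 40) (Nat.mod (T_bi u) M) u) (lF [T_d, T_b, T_d, T_ci, T_bi, T_fi, T_b, T_c, T_di] M (Nat.sub (T_bi u) (Nat.mod (T_bi u) M)) (Nat.mod (T_bi u) M) u) (Nat.ble (nat_lit 95) j)
noncomputable def dp_bi_80 (j u : ℕ) : Bool :=
  Bool.rec (motive := fun _ => Bool) (lS MG [T_bi, T_di, T_c, T_f, T_b, T_b, T_b, T_ci] M (Nat.sub (T_bi u) (Nat.mod (T_bi u) M)) (nat_lit 40) (Nat.mod (T_bi u) M) u) (lS MG [T_d, T_ci, T_fi, T_bi, T_d, T_ci, T_fi] M (Nat.sub (T_bi u) (Nat.mod (T_bi u) M)) (nat_lit 40) (Nat.mod (T_bi u) M) u) (Nat.ble (nat_lit 98) j)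
noncomputable def dp_bi_81 (j u : ℕ) : Bool :=
  Bool.rec (motive := fun _ => Bool) (lS MG [T_f, T_c, T_bi, T_fi, T_c, T_d, T_d] M (Nat.sub (T_bi u) (Nat.mod (T_bi u) M)) (nat_lit 40) (Nat.mod (T_bi u) M) u) (dp_bi_80 j u) (Nat.ble (nat_lit 97) j)
noncomputable def dp_bi_82 (j u : ℕ) : Bool :=
  Bool.rec (motive := fun _ => Bool) (dp_bi_79 j u) (dp_bi_81 j u) (Nat.ble (nat_lit 96) j)
noncomputable def dp_bi_83 (j u : ℕ) : Bool :=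
  Bool.rec (motive := fun _ => Bool) (dp_bi_78 j u) (dp_bi_82 j u) (Nat.ble (nat_lit 94) j)
noncomputable def dp_bi_84 (j u : ℕ) : Bool :=
  Bool.rec (motive := fun _ => Bool) (dp_bi_75 j u) (dp_bi_83 j u) (Nat.ble (nat_lit 90) j)
noncomputable def dp_bi_85 (j u : ℕ) : Bool :=
  Bool.rec (motive := fun _ => Bool) (dp_bi_67 j u) (dp_bi_84 j u) (Nat.ble (nat_lit 81) j)
noncomputable def dp_bi_86 (j u : ℕ) : Bool :=
  Bool.rec (motive := fun _ => Bool) (dp_bi_59 j u) (dp_bi_85 j u) (Nat.ble (nat_lit 72) j)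
noncomputable def dp_bi_87 (j u : ℕ) : Bool :=
  Bool.rec (motive := fun _ => Bool) (dp_bi_47 j u) (dp_bi_86 j u) (Nat.ble (nat_lit 59) j)
noncomputable def dp_bi_88 (j u : ℕ) : Bool :=
  Bool.rec (motive := fun _ => Bool) (dp_bi_33 j u) (dp_bi_87 j u) (Nat.ble (nat_lit 44) j)
noncomputable def dp_bi_89 (j u : ℕ) : Bool :=
  Bool.rec (motive := fun _ => Bool) (dp_bi_18 j u) (dp_bi_88 j u) (Nat.ble (nat_lit 28) j)
noncomputable def dp_bi_90 (j u : ℕ) : Bool :=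
  Bool.rec (motive := fun _ => Bool) (dp_bi_9 j u) (dp_bi_89 j u) (Nat.ble (nat_lit 18) j)
noncomputable def dp_bi_91 (j u : ℕ) : Bool :=
  Bool.rec (motive := fun _ => Bool) (dp_bi_3 j u) (dp_bi_90 j u) (Nat.ble (nat_lit 11) j)
noncomputable def dp_bi_92 (j u : ℕ) : Bool :=
  Bool.rec (motive := fun _ => Bool) (dp_bi_1 j u) (dp_bi_91 j u) (Nat.ble (nat_lit 8) j)
noncomputable def dp_bi_93 (j u : ℕ) : Bool :=
  Bool.rec (motive := fun _ => Bool) (Bool.rec (motive := fun _ => Bool) (lS MG [T_b] M (Nat.sub (T_bi u) (Nat.mod (T_bi u) M)) (nat_lit 40) (Nat.mod (T_bi u) M) u) (lF3 T_zi T_b T_z M (Nat.sub (T_bi u) (Nat.mod (T_bi u) M)) (Nat.mod (T_bi u) M) u) (Nat.ble (nat_lit 4) j)) (dp_bi_92 j u) (Nat.ble (nat_lit 5) j)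
noncomputable def disp_bi (j u : ℕ) : Bool :=
  Bool.rec (motive := fun _ => Bool) (Bool.rec (motive := fun _ => Bool) (lF1 T_b M (Nat.sub (T_bi u) (Nat.mod (T_bi u) M)) (Nat.mod (T_bi u) M) u) (Bool.rec (motive := fun _ => Bool) (lDef P (nat_lit 0) u (Nat.mod (T_bi u) M)) (lDef P (nat_lit 1) (Nat.mod (T_bi u) M) u) (Nat.ble (nat_lit 2) j)) (Nat.ble (nat_lit 1) j)) (dp_bi_93 j u) (Nat.ble (nat_lit 3) j)
noncomputable def chk_bi (j u : ℕ) : Bool :=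
  Bool.rec (motive := fun _ => Bool) (disp_bi j u) (Nat.ble (Nat.succ (MG u)) A) (Nat.ble A (T_bi u))
noncomputable def dp_d_0 (j u : ℕ) : Bool :=
  Bool.rec (motive := fun _ => Bool) (lF3 T_zi T_di T_z M (Nat.sub (T_d u) (Nat.mod (T_d u) M)) (Nat.mod (T_d u) M) u) (lF3 T_z T_di T_zi M (Nat.sub (T_d u) (Nat.mod (T_d u) M)) (Nat.mod (T_d u) M) u) (Nat.ble (nat_lit 5) j)
noncomputable def dp_d_1 (j u : ℕ) : Bool :=
  Bool.rec (motive := fun _ => Bool) (lF [T_d, T_d, T_d, T_d] M (Nat.sub (T_d u) (Nat.mod (T_d u) M)) (Nat.mod (T_d u) M) u) (lF [T_bi, T_di, T_bi, T_bi] M (Nat.sub (T_d u) (Nat.mod (T_d u) M)) (Nat.mod (T_d u) M) u) (Nat.ble (nat_lit 7) j)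
noncomputable def dp_d_2 (j u : ℕ) : Bool :=
  Bool.rec (motive := fun _ => Bool) (lF [T_b, T_di, T_b, T_b] M (Nat.sub (T_d u) (Nat.mod (T_d u) M)) (Nat.mod (T_d u) M) u) (lS MG [T_zi, T_di, T_z] M (Nat.sub (T_d u) (Nat.mod (T_d u) M)) (nat_lit 40) (Nat.mod (T_d u) M) u) (Nat.ble (nat_lit 9) j)
noncomputable def dp_d_3 (j u : ℕ) : Bool :=
  Bool.rec (motive := fun _ => Bool) (dp_d_1 j u) (dp_d_2 j u) (Nat.ble (nat_lit 8) j)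
noncomputable def dp_d_4 (j u : ℕ) : Bool :=
  Bool.rec (motive := fun _ => Bool) (lF [T_f, T_di, T_di, T_f, T_f] M (Nat.sub (T_d u) (Nat.mod (T_d u) M)) (Nat.mod (T_d u) M) u) (lF [T_fi, T_di, T_fi, T_fi, T_d] M (Nat.sub (T_d u) (Nat.mod (T_d u) M)) (Nat.mod (T_d u) M) u) (Nat.ble (nat_lit 11) j)
noncomputable def dp_d_5 (j u : ℕ) : Bool :=
  Bool.rec (motive := fun _ => Bool) (lF [T_d, T_fi, T_di, T_fi, T_fi] M (Nat.sub (T_d u) (Nat.mod (T_d u) M)) (Nat.mod (T_d u) M) u) (lS MG [T_z, T_di, T_zi] M (Nat.sub (T_d u) (Nat.mod (T_d u) M)) (nat_lit 40) (Nat.mod (T_d u) M) u) (Nat.ble (nat_lit 13) j)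
noncomputable def dp_d_6 (j u : ℕ) : Bool :=
  Bool.rec (motive := fun _ => Bool) (lF [T_ci, T_d, T_fi, T_d, T_ci, T_ci] M (Nat.sub (T_d u) (Nat.mod (T_d u) M)) (Nat.mod (T_d u) M) u) (lF [T_ci, T_e, T_c, T_di, T_f, T_e, T_fi] M (Nat.sub (T_d u) (Nat.mod (T_d u) M)) (Nat.mod (T_d u) M) u) (Nat.ble (nat_lit 15) j)
noncomputable def dp_d_7 (j u : ℕ) : Bool :=
  Bool.rec (motive := fun _ => Bool) (dp_d_5 j u) (dp_d_6 j u) (Nat.ble (nat_lit 14) j)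
noncomputable def dp_d_8 (j u : ℕ) : Bool :=
  Bool.rec (motive := fun _ => Bool) (dp_d_4 j u) (dp_d_7 j u) (Nat.ble (nat_lit 12) j)
noncomputable def dp_d_9 (j u : ℕ) : Bool :=
  Bool.rec (motive := fun _ => Bool) (lF [T_ci, T_ei, T_c, T_di, T_f, T_ei, T_fi] M (Nat.sub (T_d u) (Nat.mod (T_d u) M)) (Nat.mod (T_d u) M) u) (lF [T_ci, T_b, T_c, T_f, T_d, T_b] M (Nat.sub (T_d u) (Nat.mod (T_d u) M)) (Nat.mod (T_d u) M) u) (Nat.ble (nat_lit 17) j)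
noncomputable def dp_d_10 (j u : ℕ) : Bool :=
  Bool.rec (motive := fun _ => Bool) (lF [T_fi, T_d, T_ci, T_ci, T_d, T_ci] M (Nat.sub (T_d u) (Nat.mod (T_d u) M)) (Nat.mod (T_d u) M) u) (lS MG [T_d, T_d, T_d, T_d] M (Nat.sub (T_d u) (Nat.mod (T_d u) M)) (nat_lit 40) (Nat.mod (T_d u) M) u) (Nat.ble (nat_lit 19) j)
noncomputable def dp_d_11 (j u : ℕ) : Bool :=
  Bool.rec (motive := fun _ => Bool) (dp_d_9 j u) (dp_d_10 j u) (Nat.ble (nat_lit 18) j)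
noncomputable def dp_d_12 (j u : ℕ) : Bool :=
  Bool.rec (motive := fun _ => Bool) (lF [T_ci, T_ci, T_d, T_ci, T_d, T_fi] M (Nat.sub (T_d u) (Nat.mod (T_d u) M)) (Nat.mod (T_d u) M) u) (lS MG [T_b, T_di, T_b, T_b] M (Nat.sub (T_d u) (Nat.mod (T_d u) M)) (nat_lit 40) (Nat.mod (T_d u) M) u) (Nat.ble (nat_lit 21) j)
noncomputable def dp_d_13 (j u : ℕ) : Bool :=
  Bool.rec (motive := fun _ => Bool) (lS MG [T_f, T_di, T_di, T_f, T_f] M (Nat.sub (T_d u) (Nat.mod (T_d u) M)) (nat_lit 40) (Nat.mod (T_d u) M) u) (lF [T_b, T_d, T_ci, T_b, T_c, T_f] M (Nat.sub (T_d u) (Nat.mod (T_d u) M)) (Nat.mod (T_d u) M) u) (Nat.ble (nat_lit 24) j)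
noncomputable def dp_d_14 (j u : ℕ) : Bool :=
  Bool.rec (motive := fun _ => Bool) (lS MG [T_bi, T_di, T_bi, T_bi] M (Nat.sub (T_d u) (Nat.mod (T_d u) M)) (nat_lit 40) (Nat.mod (T_d u) M) u) (dp_d_13 j u) (Nat.ble (nat_lit 23) j)
noncomputable def dp_d_15 (j u : ℕ) : Bool :=
  Bool.rec (motive := fun _ => Bool) (dp_d_12 j u) (dp_d_14 j u) (Nat.ble (nat_lit 22) j)
noncomputable def dp_d_16 (j u : ℕ) : Bool :=
  Bool.rec (motive := fun _ => Bool) (dp_d_11 j u) (dp_d_15 j u) (Nat.ble (nat_lit 20) j)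
noncomputable def dp_d_17 (j u : ℕ) : Bool :=
  Bool.rec (motive := fun _ => Bool) (lF [T_fi, T_di, T_f, T_d, T_d, T_fi] M (Nat.sub (T_d u) (Nat.mod (T_d u) M)) (Nat.mod (T_d u) M) u) (lS MG [T_fi, T_di, T_fi, T_fi, T_d] M (Nat.sub (T_d u) (Nat.mod (T_d u) M)) (nat_lit 40) (Nat.mod (T_d u) M) u) (Nat.ble (nat_lit 26) j)
noncomputable def dp_d_18 (j u : ℕ) : Bool :=
  Bool.rec (motive := fun _ => Bool) (lF [T_d, T_fi, T_d, T_fi, T_di, T_f] M (Nat.sub (T_d u) (Nat.mod (T_d u) M)) (Nat.mod (T_d u) M) u) (lF [T_b, T_c, T_ei, T_ci, T_bi, T_di, T_c, T_e, T_ci] M (Nat.sub (T_d u) (Nat.mod (T_d u) M)) (Nat.mod (T_d u) M) u) (Nat.ble (nat_lit 29) j)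
noncomputable def dp_d_19 (j u : ℕ) : Bool :=
  Bool.rec (motive := fun _ => Bool) (lS MG [T_d, T_fi, T_di, T_fi, T_fi] M (Nat.sub (T_d u) (Nat.mod (T_d u) M)) (nat_lit 40) (Nat.mod (T_d u) M) u) (dp_d_18 j u) (Nat.ble (nat_lit 28) j)
noncomputable def dp_d_20 (j u : ℕ) : Bool :=
  Bool.rec (motive := fun _ => Bool) (dp_d_17 j u) (dp_d_19 j u) (Nat.ble (nat_lit 27) j)
noncomputable def dp_d_21 (j u : ℕ) : Bool :=
  Bool.rec (motive := fun _ => Bool) (lS MG [T_ci, T_e, T_c, T_di, T_f, T_e, T_fi] M (Nat.sub (T_d u) (Nat.mod (T_d u) M)) (nat_lit 40) (Nat.mod (T_d u) M) u) (lS MG [T_b, T_d, T_ci, T_b, T_c, T_f] M (Nat.sub (T_d u) (Nat.mod (T_d u) M)) (nat_lit 40) (Nat.mod (T_d u) M) u) (Nat.ble (nat_lit 32) j)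
noncomputable def dp_d_22 (j u : ℕ) : Bool :=
  Bool.rec (motive := fun _ => Bool) (lF [T_b, T_c, T_e, T_ci, T_bi, T_di, T_c, T_ei, T_ci] M (Nat.sub (T_d u) (Nat.mod (T_d u) M)) (Nat.mod (T_d u) M) u) (dp_d_21 j u) (Nat.ble (nat_lit 31) j)
noncomputable def dp_d_23 (j u : ℕ) : Bool :=
  Bool.rec (motive := fun _ => Bool) (lS MG [T_ci, T_ei, T_c, T_di, T_f, T_ei, T_fi] M (Nat.sub (T_d u) (Nat.mod (T_d u) M)) (nat_lit 40) (Nat.mod (T_d u) M) u) (lF [T_fi, T_d, T_fi, T_di, T_f, T_d] M (Nat.sub (T_d u) (Nat.mod (T_d u) M)) (Nat.mod (T_d u) M) u) (Nat.ble (nat_lit 35) j)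
noncomputable def dp_d_24 (j u : ℕ) : Bool :=
  Bool.rec (motive := fun _ => Bool) (lF [T_f, T_di, T_f, T_di, T_di, T_fi] M (Nat.sub (T_d u) (Nat.mod (T_d u) M)) (Nat.mod (T_d u) M) u) (dp_d_23 j u) (Nat.ble (nat_lit 34) j)
noncomputable def dp_d_25 (j u : ℕ) : Bool :=
  Bool.rec (motive := fun _ => Bool) (dp_d_22 j u) (dp_d_24 j u) (Nat.ble (nat_lit 33) j)
noncomputable def dp_d_26 (j u : ℕ) : Bool :=
  Bool.rec (motive := fun _ => Bool) (dp_d_20 j u) (dp_d_25 j u) (Nat.ble (nat_lit 30) j)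
noncomputable def dp_d_27 (j u : ℕ) : Bool :=
  Bool.rec (motive := fun _ => Bool) (lS MG [T_fi, T_d, T_ci, T_ci, T_d, T_ci] M (Nat.sub (T_d u) (Nat.mod (T_d u) M)) (nat_lit 40) (Nat.mod (T_d u) M) u) (lF [T_f, T_f, T_c, T_di, T_bi, T_ci, T_b] M (Nat.sub (T_d u) (Nat.mod (T_d u) M)) (Nat.mod (T_d u) M) u) (Nat.ble (nat_lit 37) j)
noncomputable def dp_d_28 (j u : ℕ) : Bool :=
  Bool.rec (motive := fun _ => Bool) (lF [T_c, T_bi, T_di, T_c, T_fi, T_b, T_c] M (Nat.sub (T_d u) (Nat.mod (T_d u) M)) (Nat.mod (T_d u) M) u) (lS MG [T_ci, T_b, T_c, T_f, T_d, T_b] M (Nat.sub (T_d u) (Nat.mod (T_d u) M)) (nat_lit 40) (Nat.mod (T_d u) M) u) (Nat.ble (nat_lit 40) j)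
noncomputable def dp_d_29 (j u : ℕ) : Bool :=
  Bool.rec (motive := fun _ => Bool) (lS MG [T_ci, T_ci, T_d, T_ci, T_d, T_fi] M (Nat.sub (T_d u) (Nat.mod (T_d u) M)) (nat_lit 40) (Nat.mod (T_d u) M) u) (dp_d_28 j u) (Nat.ble (nat_lit 39) j)
noncomputable def dp_d_30 (j u : ℕ) : Bool :=
  Bool.rec (motive := fun _ => Bool) (dp_d_27 j u) (dp_d_29 j u) (Nat.ble (nat_lit 38) j)
noncomputable def dp_d_31 (j u : ℕ) : Bool :=
  Bool.rec (motive := fun _ => Bool) (lS MG [T_ci, T_d, T_fi, T_d, T_ci, T_ci] M (Nat.sub (T_d u) (Nat.mod (T_d u) M)) (nat_lit 40) (Nat.mod (T_d u) M) u) (lF [T_c, T_bi, T_ci, T_d, T_c, T_bi, T_ci] M (Nat.sub (T_d u) (Nat.mod (T_d u) M)) (Nat.mod (T_d u) M) u) (Nat.ble (nat_lit 42) j)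
noncomputable def dp_d_32 (j u : ℕ) : Bool :=
  Bool.rec (motive := fun _ => Bool) (lF [T_ci, T_bi, T_d, T_ci, T_b, T_di, T_ci] M (Nat.sub (T_d u) (Nat.mod (T_d u) M)) (Nat.mod (T_d u) M) u) (lF [T_bi, T_c, T_fi, T_di, T_b, T_c, T_c] M (Nat.sub (T_d u) (Nat.mod (T_d u) M)) (Nat.mod (T_d u) M) u) (Nat.ble (nat_lit 44) j)
noncomputable def dp_d_33 (j u : ℕ) : Bool :=
  Bool.rec (motive := fun _ => Bool) (dp_d_31 j u) (dp_d_32 j u) (Nat.ble (nat_lit 43) j)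
noncomputable def dp_d_34 (j u : ℕ) : Bool :=
  Bool.rec (motive := fun _ => Bool) (lF [T_ci, T_b, T_di, T_ci, T_d, T_ci, T_bi] M (Nat.sub (T_d u) (Nat.mod (T_d u) M)) (Nat.mod (T_d u) M) u) (lF [T_f, T_ci, T_b, T_fi, T_d, T_bi, T_c] M (Nat.sub (T_d u) (Nat.mod (T_d u) M)) (Nat.mod (T_d u) M) u) (Nat.ble (nat_lit 46) j)
noncomputable def dp_d_35 (j u : ℕ) : Bool :=
  Bool.rec (motive := fun _ => Bool) (lF [T_ci, T_ci, T_e, T_di, T_f, T_b, T_ci, T_ei, T_di, T_c] M (Nat.sub (T_d u) (Nat.mod (T_d u) M)) (Nat.mod (T_d u) M) u) (lF [T_ci, T_f, T_d, T_d, T_ci, T_f, T_d] M (Nat.sub (T_d u) (Nat.mod (T_d u) M)) (Nat.mod (T_d u) M) u) (Nat.ble (nat_lit 49) j)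
noncomputable def dp_d_36 (j u : ℕ) : Bool :=
  Bool.rec (motive := fun _ => Bool) (lS MG [T_f, T_di, T_f, T_di, T_di, T_fi] M (Nat.sub (T_d u) (Nat.mod (T_d u) M)) (nat_lit 40) (Nat.mod (T_d u) M) u) (dp_d_35 j u) (Nat.ble (nat_lit 48) j)
noncomputable def dp_d_37 (j u : ℕ) : Bool :=
  Bool.rec (motive := fun _ => Bool) (dp_d_34 j u) (dp_d_36 j u) (Nat.ble (nat_lit 47) j)
noncomputable def dp_d_38 (j u : ℕ) : Bool :=
  Bool.rec (motive := fun _ => Bool) (dp_d_33 j u) (dp_d_37 j u) (Nat.ble (nat_lit 45) j)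
noncomputable def dp_d_39 (j u : ℕ) : Bool :=
  Bool.rec (motive := fun _ => Bool) (dp_d_30 j u) (dp_d_38 j u) (Nat.ble (nat_lit 41) j)
noncomputable def dp_d_40 (j u : ℕ) : Bool :=
  Bool.rec (motive := fun _ => Bool) (lF [T_d, T_b, T_fi, T_d, T_c, T_b, T_f] M (Nat.sub (T_d u) (Nat.mod (T_d u) M)) (Nat.mod (T_d u) M) u) (lF [T_bi, T_c, T_di, T_b, T_c, T_di, T_c] M (Nat.sub (T_d u) (Nat.mod (T_d u) M)) (Nat.mod (T_d u) M) u) (Nat.ble (nat_lit 52) j)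
noncomputable def dp_d_41 (j u : ℕ) : Bool :=
  Bool.rec (motive := fun _ => Bool) (lF [T_b, T_fi, T_d, T_c, T_b, T_f, T_d] M (Nat.sub (T_d u) (Nat.mod (T_d u) M)) (Nat.mod (T_d u) M) u) (dp_d_40 j u) (Nat.ble (nat_lit 51) j)
noncomputable def dp_d_42 (j u : ℕ) : Bool :=
  Bool.rec (motive := fun _ => Bool) (lF [T_bi, T_fi, T_di, T_ci, T_bi, T_ci, T_fi] M (Nat.sub (T_d u) (Nat.mod (T_d u) M)) (Nat.mod (T_d u) M) u) (lS MG [T_fi, T_di, T_f, T_d, T_d, T_fi] M (Nat.sub (T_d u) (Nat.mod (T_d u) M)) (nat_lit 40) (Nat.mod (T_d u) M) u) (Nat.ble (nat_lit 54) j)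
noncomputable def dp_d_43 (j u : ℕ) : Bool :=
  Bool.rec (motive := fun _ => Bool) (lS MG [T_fi, T_d, T_fi, T_di, T_f, T_d] M (Nat.sub (T_d u) (Nat.mod (T_d u) M)) (nat_lit 40) (Nat.mod (T_d u) M) u) (lF [T_f, T_ci, T_b, T_di, T_ci, T_ci, T_bi] M (Nat.sub (T_d u) (Nat.mod (T_d u) M)) (Nat.mod (T_d u) M) u) (Nat.ble (nat_lit 56) j)
noncomputable def dp_d_44 (j u : ℕ) : Bool :=
  Bool.rec (motive := fun _ => Bool) (dp_d_42 j u) (dp_d_43 j u) (Nat.ble (nat_lit 55) j)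
noncomputable def dp_d_45 (j u : ℕ) : Bool :=
  Bool.rec (motive := fun _ => Bool) (dp_d_41 j u) (dp_d_44 j u) (Nat.ble (nat_lit 53) j)
noncomputable def dp_d_46 (j u : ℕ) : Bool :=
  Bool.rec (motive := fun _ => Bool) (lS MG [T_f, T_f, T_c, T_di, T_bi, T_ci, T_b] M (Nat.sub (T_d u) (Nat.mod (T_d u) M)) (nat_lit 40) (Nat.mod (T_d u) M) u) (lF [T_fi, T_c, T_fi, T_bi, T_di, T_c, T_bi] M (Nat.sub (T_d u) (Nat.mod (T_d u) M)) (Nat.mod (T_d u) M) u) (Nat.ble (nat_lit 59) j)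
noncomputable def dp_d_47 (j u : ℕ) : Bool :=
  Bool.rec (motive := fun _ => Bool) (lF [T_f, T_b, T_di, T_f, T_c, T_b, T_c] M (Nat.sub (T_d u) (Nat.mod (T_d u) M)) (Nat.mod (T_d u) M) u) (dp_d_46 j u) (Nat.ble (nat_lit 58) j)
noncomputable def dp_d_48 (j u : ℕ) : Bool :=
  Bool.rec (motive := fun _ => Bool) (lF [T_d, T_bi, T_f, T_c, T_bi, T_fi, T_c] M (Nat.sub (T_d u) (Nat.mod (T_d u) M)) (Nat.mod (T_d u) M) u) (lF [T_d, T_ci, T_f, T_d, T_d, T_ci, T_f] M (Nat.sub (T_d u) (Nat.mod (T_d u) M)) (Nat.mod (T_d u) M) u) (Nat.ble (nat_lit 61) j)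
noncomputable def dp_d_49 (j u : ℕ) : Bool :=
  Bool.rec (motive := fun _ => Bool) (lF [T_b, T_c, T_bi, T_ci, T_bi, T_fi, T_d] M (Nat.sub (T_d u) (Nat.mod (T_d u) M)) (Nat.mod (T_d u) M) u) (lS MG [T_b, T_c, T_ei, T_ci, T_bi, T_di, T_c, T_e, T_ci] M (Nat.sub (T_d u) (Nat.mod (T_d u) M)) (nat_lit 40) (Nat.mod (T_d u) M) u) (Nat.ble (nat_lit 64) j)
noncomputable def dp_d_50 (j u : ℕ) : Bool :=
  Bool.rec (motive := fun _ => Bool) (lF [T_ci, T_fi, T_bi, T_d, T_ci, T_fi, T_bi] M (Nat.sub (T_d u) (Nat.mod (T_d u) M)) (Nat.mod (T_d u) M) u) (dp_d_49 j u) (Nat.ble (nat_lit 63) j)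
noncomputable def dp_d_51 (j u : ℕ) : Bool :=
  Bool.rec (motive := fun _ => Bool) (dp_d_48 j u) (dp_d_50 j u) (Nat.ble (nat_lit 62) j)
noncomputable def dp_d_52 (j u : ℕ) : Bool :=
  Bool.rec (motive := fun _ => Bool) (dp_d_47 j u) (dp_d_51 j u) (Nat.ble (nat_lit 60) j)
noncomputable def dp_d_53 (j u : ℕ) : Bool :=
  Bool.rec (motive := fun _ => Bool) (dp_d_45 j u) (dp_d_52 j u) (Nat.ble (nat_lit 57) j)
noncomputable def dp_d_54 (j u : ℕ) : Bool :=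
  Bool.rec (motive := fun _ => Bool) (lF [T_b, T_ci, T_di, T_ci, T_bi, T_f, T_ci] M (Nat.sub (T_d u) (Nat.mod (T_d u) M)) (Nat.mod (T_d u) M) u) (lS MG [T_ci, T_bi, T_d, T_ci, T_b, T_di, T_ci] M (Nat.sub (T_d u) (Nat.mod (T_d u) M)) (nat_lit 40) (Nat.mod (T_d u) M) u) (Nat.ble (nat_lit 66) j)
noncomputable def dp_d_55 (j u : ℕ) : Bool :=
  Bool.rec (motive := fun _ => Bool) (lS MG [T_b, T_c, T_e, T_ci, T_bi, T_di, T_c, T_ei, T_ci] M (Nat.sub (T_d u) (Nat.mod (T_d u) M)) (nat_lit 40) (Nat.mod (T_d u) M) u) (lF [T_c, T_b, T_f, T_d, T_d, T_b, T_fi] M (Nat.sub (T_d u) (Nat.mod (T_d u) M)) (Nat.mod (T_d u) M) u) (Nat.ble (nat_lit 69) j)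
noncomputable def dp_d_56 (j u : ℕ) : Bool :=
  Bool.rec (motive := fun _ => Bool) (lF [T_bi, T_c, T_d, T_f, T_ci, T_b, T_fi] M (Nat.sub (T_d u) (Nat.mod (T_d u) M)) (Nat.mod (T_d u) M) u) (dp_d_55 j u) (Nat.ble (nat_lit 68) j)
noncomputable def dp_d_57 (j u : ℕ) : Bool :=
  Bool.rec (motive := fun _ => Bool) (dp_d_54 j u) (dp_d_56 j u) (Nat.ble (nat_lit 67) j)
noncomputable def dp_d_58 (j u : ℕ) : Bool :=
  Bool.rec (motive := fun _ => Bool) (lF [T_b, T_ci, T_bi, T_f, T_d, T_b, T_c] M (Nat.sub (T_d u) (Nat.mod (T_d u) M)) (Nat.mod (T_d u) M) u) (lS MG [T_c, T_b, T_f, T_d, T_d, T_b, T_fi] M (Nat.sub (T_d u) (Nat.mod (T_d u) M)) (nat_lit 40) (Nat.mod (T_d u) M) u) (Nat.ble (nat_lit 72) j)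
noncomputable def dp_d_59 (j u : ℕ) : Bool :=
  Bool.rec (motive := fun _ => Bool) (lS MG [T_f, T_ci, T_b, T_fi, T_d, T_bi, T_c] M (Nat.sub (T_d u) (Nat.mod (T_d u) M)) (nat_lit 40) (Nat.mod (T_d u) M) u) (dp_d_58 j u) (Nat.ble (nat_lit 71) j)
noncomputable def dp_d_60 (j u : ℕ) : Bool :=
  Bool.rec (motive := fun _ => Bool) (lF [T_d, T_b, T_c, T_bi, T_ci, T_bi, T_fi] M (Nat.sub (T_d u) (Nat.mod (T_d u) M)) (Nat.mod (T_d u) M) u) (lS MG [T_bi, T_c, T_d, T_f, T_ci, T_b, T_fi] M (Nat.sub (T_d u) (Nat.mod (T_d u) M)) (nat_lit 40) (Nat.mod (T_d u) M) u) (Nat.ble (nat_lit 74) j)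
noncomputable def dp_d_61 (j u : ℕ) : Bool :=
  Bool.rec (motive := fun _ => Bool) (lS MG [T_d, T_fi, T_d, T_fi, T_di, T_f] M (Nat.sub (T_d u) (Nat.mod (T_d u) M)) (nat_lit 40) (Nat.mod (T_d u) M) u) (lS MG [T_fi, T_c, T_fi, T_bi, T_di, T_c, T_bi] M (Nat.sub (T_d u) (Nat.mod (T_d u) M)) (nat_lit 40) (Nat.mod (T_d u) M) u) (Nat.ble (nat_lit 76) j)
noncomputable def dp_d_62 (j u : ℕ) : Bool :=
  Bool.rec (motive := fun _ => Bool) (dp_d_60 j u) (dp_d_61 j u) (Nat.ble (nat_lit 75) j)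
noncomputable def dp_d_63 (j u : ℕ) : Bool :=
  Bool.rec (motive := fun _ => Bool) (dp_d_59 j u) (dp_d_62 j u) (Nat.ble (nat_lit 73) j)
noncomputable def dp_d_64 (j u : ℕ) : Bool :=
  Bool.rec (motive := fun _ => Bool) (dp_d_57 j u) (dp_d_63 j u) (Nat.ble (nat_lit 70) j)
noncomputable def dp_d_65 (j u : ℕ) : Bool :=
  Bool.rec (motive := fun _ => Bool) (lS MG [T_b, T_c, T_d, T_b, T_ci, T_bi, T_f] M (Nat.sub (T_d u) (Nat.mod (T_d u) M)) (nat_lit 40) (Nat.mod (T_d u) M) u) (lS MG [T_b, T_ci, T_di, T_ci, T_bi, T_f, T_ci] M (Nat.sub (T_d u) (Nat.mod (T_d u) M)) (nat_lit 40) (Nat.mod (T_d u) M) u) (Nat.ble (nat_lit 78) j)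
noncomputable def dp_d_66 (j u : ℕ) : Bool :=
  Bool.rec (motive := fun _ => Bool) (lF [T_b, T_f, T_ci, T_f, T_di, T_b, T_ci] M (Nat.sub (T_d u) (Nat.mod (T_d u) M)) (Nat.mod (T_d u) M) u) (lH [] [] M (Nat.sub (T_d u) (Nat.mod (T_d u) M)) (Nat.mod (T_d u) M) u) (Nat.ble (nat_lit 80) j)
noncomputable def dp_d_67 (j u : ℕ) : Bool :=
  Bool.rec (motive := fun _ => Bool) (dp_d_65 j u) (dp_d_66 j u) (Nat.ble (nat_lit 79) j)
noncomputable def dp_d_68 (j u : ℕ) : Bool :=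
  Bool.rec (motive := fun _ => Bool) (lF [T_b, T_c, T_d, T_b, T_ci, T_bi, T_f] M (Nat.sub (T_d u) (Nat.mod (T_d u) M)) (Nat.mod (T_d u) M) u) (lF [T_c, T_f, T_f, T_di, T_ei, T_di, T_ci, T_f, T_c, T_e] M (Nat.sub (T_d u) (Nat.mod (T_d u) M)) (Nat.mod (T_d u) M) u) (Nat.ble (nat_lit 83) j)
noncomputable def dp_d_69 (j u : ℕ) : Bool :=
  Bool.rec (motive := fun _ => Bool) (lF [T_ci, T_ci, T_b, T_d, T_ci, T_ci, T_b] M (Nat.sub (T_d u) (Nat.mod (T_d u) M)) (Nat.mod (T_d u) M) u) (dp_d_68 j u) (Nat.ble (nat_lit 82) j)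
noncomputable def dp_d_70 (j u : ℕ) : Bool :=
  Bool.rec (motive := fun _ => Bool) (lF [T_bi, T_f, T_c, T_bi, T_fi, T_c, T_d] M (Nat.sub (T_d u) (Nat.mod (T_d u) M)) (Nat.mod (T_d u) M) u) (lS MG [T_ci, T_fi, T_bi, T_d, T_ci, T_fi, T_bi] M (Nat.sub (T_d u) (Nat.mod (T_d u) M)) (nat_lit 40) (Nat.mod (T_d u) M) u) (Nat.ble (nat_lit 85) j)
noncomputable def dp_d_71 (j u : ℕ) : Bool :=
  Bool.rec (motive := fun _ => Bool) (lS MG [T_ci, T_f, T_d, T_d, T_ci, T_f, T_d] M (Nat.sub (T_d u) (Nat.mod (T_d u) M)) (nat_lit 40) (Nat.mod (T_d u) M) u) (lS MG [T_b, T_f, T_ci, T_f, T_di, T_b, T_ci] M (Nat.sub (T_d u) (Nat.mod (T_d u) M)) (nat_lit 40) (Nat.mod (T_d u) M) u) (Nat.ble (nat_lit 87) j)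
noncomputable def dp_d_72 (j u : ℕ) : Bool :=
  Bool.rec (motive := fun _ => Bool) (dp_d_70 j u) (dp_d_71 j u) (Nat.ble (nat_lit 86) j)
noncomputable def dp_d_73 (j u : ℕ) : Bool :=
  Bool.rec (motive := fun _ => Bool) (dp_d_69 j u) (dp_d_72 j u) (Nat.ble (nat_lit 84) j)
noncomputable def dp_d_74 (j u : ℕ) : Bool :=
  Bool.rec (motive := fun _ => Bool) (dp_d_67 j u) (dp_d_73 j u) (Nat.ble (nat_lit 81) j)
noncomputable def dp_d_75 (j u : ℕ) : Bool :=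
  Bool.rec (motive := fun _ => Bool) (lS MG [T_c, T_f, T_f, T_di, T_ei, T_di, T_ci, T_f, T_c, T_e] M (Nat.sub (T_d u) (Nat.mod (T_d u) M)) (nat_lit 40) (Nat.mod (T_d u) M) u) (lS MG [T_bi, T_c, T_di, T_b, T_c, T_di, T_c] M (Nat.sub (T_d u) (Nat.mod (T_d u) M)) (nat_lit 40) (Nat.mod (T_d u) M) u) (Nat.ble (nat_lit 90) j)
noncomputable def dp_d_76 (j u : ℕ) : Bool :=
  Bool.rec (motive := fun _ => Bool) (lF [T_f, T_bi, T_bi, T_bi, T_fi, T_di, T_bi, T_fi] M (Nat.sub (T_d u) (Nat.mod (T_d u) M)) (Nat.mod (T_d u) M) u) (dp_d_75 j u) (Nat.ble (nat_lit 89) j)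
noncomputable def dp_d_77 (j u : ℕ) : Bool :=
  Bool.rec (motive := fun _ => Bool) (lS MG [T_fi, T_fi, T_ci, T_di, T_ei, T_ci, T_fi, T_c, T_d, T_e] M (Nat.sub (T_d u) (Nat.mod (T_d u) M)) (nat_lit 40) (Nat.mod (T_d u) M) u) (lS MG [T_f, T_ci, T_b, T_di, T_ci, T_ci, T_bi] M (Nat.sub (T_d u) (Nat.mod (T_d u) M)) (nat_lit 40) (Nat.mod (T_d u) M) u) (Nat.ble (nat_lit 92) j)
noncomputable def dp_d_78 (j u : ℕ) : Bool :=
  Bool.rec (motive := fun _ => Bool) (lS MG [T_c, T_bi, T_ci, T_d, T_c, T_bi, T_ci] M (Nat.sub (T_d u) (Nat.mod (T_d u) M)) (nat_lit 40) (Nat.mod (T_d u) M) u) (lF [T_ci, T_fi, T_fi, T_di, T_bi, T_c, T_b] M (Nat.sub (T_d u) (Nat.mod (T_d u) M)) (Nat.mod (T_d u) M) u) (Nat.ble (nat_lit 94) j)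
noncomputable def dp_d_79 (j u : ℕ) : Bool :=
  Bool.rec (motive := fun _ => Bool) (dp_d_77 j u) (dp_d_78 j u) (Nat.ble (nat_lit 93) j)
noncomputable def dp_d_80 (j u : ℕ) : Bool :=
  Bool.rec (motive := fun _ => Bool) (dp_d_76 j u) (dp_d_79 j u) (Nat.ble (nat_lit 91) j)
noncomputable def dp_d_81 (j u : ℕ) : Bool :=
  Bool.rec (motive := fun _ => Bool) (lS MG [T_b, T_fi, T_d, T_c, T_b, T_f, T_d] M (Nat.sub (T_d u) (Nat.mod (T_d u) M)) (nat_lit 40) (Nat.mod (T_d u) M) u) (lS MG [T_e, T_d, T_fi, T_fi, T_ci, T_di, T_ei, T_ci, T_fi, T_c] M (Nat.sub (T_d u) (Nat.mod (T_d u) M)) (nat_lit 40) (Nat.mod (T_d u) M) u) (Nat.ble (nat_lit 96) j)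
noncomputable def dp_d_82 (j u : ℕ) : Bool :=
  Bool.rec (motive := fun _ => Bool) (lF [T_ci, T_fi, T_c, T_di, T_bi, T_c, T_fi, T_ci, T_b] M (Nat.sub (T_d u) (Nat.mod (T_d u) M)) (Nat.mod (T_d u) M) u) (lS MG [T_ci, T_ci, T_b, T_d, T_ci, T_ci, T_b] M (Nat.sub (T_d u) (Nat.mod (T_d u) M)) (nat_lit 40) (Nat.mod (T_d u) M) u) (Nat.ble (nat_lit 98) j)
noncomputable def dp_d_83 (j u : ℕ) : Bool :=
  Bool.rec (motive := fun _ => Bool) (dp_d_81 j u) (dp_d_82 j u) (Nat.ble (nat_lit 97) j)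
noncomputable def dp_d_84 (j u : ℕ) : Bool :=
  Bool.rec (motive := fun _ => Bool) (lS MG [T_ci, T_ci, T_e, T_di, T_f, T_b, T_ci, T_ei, T_di, T_c] M (Nat.sub (T_d u) (Nat.mod (T_d u) M)) (nat_lit 40) (Nat.mod (T_d u) M) u) (lS MG [T_c, T_bi, T_di, T_c, T_fi, T_b, T_c] M (Nat.sub (T_d u) (Nat.mod (T_d u) M)) (nat_lit 40) (Nat.mod (T_d u) M) u) (Nat.ble (nat_lit 100) j)
noncomputable def dp_d_85 (j u : ℕ) : Bool :=
  Bool.rec (motive := fun _ => Bool) (lS MG [T_f, T_b, T_di, T_f, T_c, T_b, T_c] M (Nat.sub (T_d u) (Nat.mod (T_d u) M)) (nat_lit 40) (Nat.mod (T_d u) M) u) (lS MG [T_d, T_b, T_c, T_bi, T_ci, T_bi, T_fi] M (Nat.sub (T_d u) (Nat.mod (T_d u) M)) (nat_lit 40) (Nat.mod (T_d u) M) u) (Nat.ble (nat_lit 102) j)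
noncomputable def dp_d_86 (j u : ℕ) : Bool :=
  Bool.rec (motive := fun _ => Bool) (dp_d_84 j u) (dp_d_85 j u) (Nat.ble (nat_lit 101) j)
noncomputable def dp_d_87 (j u : ℕ) : Bool :=
  Bool.rec (motive := fun _ => Bool) (dp_d_83 j u) (dp_d_86 j u) (Nat.ble (nat_lit 99) j)
noncomputable def dp_d_88 (j u : ℕ) : Bool :=
  Bool.rec (motive := fun _ => Bool) (dp_d_80 j u) (dp_d_87 j u) (Nat.ble (nat_lit 95) j)
noncomputable def dp_d_89 (j u : ℕ) : Bool :=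
  Bool.rec (motive := fun _ => Bool) (dp_d_74 j u) (dp_d_88 j u) (Nat.ble (nat_lit 88) j)
noncomputable def dp_d_90 (j u : ℕ) : Bool :=
  Bool.rec (motive := fun _ => Bool) (dp_d_64 j u) (dp_d_89 j u) (Nat.ble (nat_lit 77) j)
noncomputable def dp_d_91 (j u : ℕ) : Bool :=
  Bool.rec (motive := fun _ => Bool) (dp_d_53 j u) (dp_d_90 j u) (Nat.ble (nat_lit 65) j)
noncomputable def dp_d_92 (j u : ℕ) : Bool :=
  Bool.rec (motive := fun _ => Bool) (dp_d_39 j u) (dp_d_91 j u) (Nat.ble (nat_lit 50) j)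
noncomputable def dp_d_93 (j u : ℕ) : Bool :=
  Bool.rec (motive := fun _ => Bool) (dp_d_26 j u) (dp_d_92 j u) (Nat.ble (nat_lit 36) j)
noncomputable def dp_d_94 (j u : ℕ) : Bool :=
  Bool.rec (motive := fun _ => Bool) (dp_d_16 j u) (dp_d_93 j u) (Nat.ble (nat_lit 25) j)
noncomputable def dp_d_95 (j u : ℕ) : Bool :=
  Bool.rec (motive := fun _ => Bool) (dp_d_8 j u) (dp_d_94 j u) (Nat.ble (nat_lit 16) j)
noncomputable def dp_d_96 (j u : ℕ) : Bool :=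
  Bool.rec (motive := fun _ => Bool) (dp_d_3 j u) (dp_d_95 j u) (Nat.ble (nat_lit 10) j)
noncomputable def dp_d_97 (j u : ℕ) : Bool :=
  Bool.rec (motive := fun _ => Bool) (Bool.rec (motive := fun _ => Bool) (lS MG [T_di] M (Nat.sub (T_d u) (Nat.mod (T_d u) M)) (nat_lit 40) (Nat.mod (T_d u) M) u) (dp_d_0 j u) (Nat.ble (nat_lit 4) j)) (dp_d_96 j u) (Nat.ble (nat_lit 6) j)
noncomputable def disp_d (j u : ℕ) : Bool :=
  Bool.rec (motive := fun _ => Bool) (Bool.rec (motive := fun _ => Bool) (lF1 T_di M (Nat.sub (T_d u) (Nat.mod (T_d u) M)) (Nat.mod (T_d u) M) u) (Bool.rec (motive := fun _ => Bool) (lDef P (nat_lit 3) u (Nat.mod (T_d u) M)) (lDef P (nat_lit 2) (Nat.mod (T_d u) M) u) (Nat.ble (nat_lit 2) j)) (Nat.ble (nat_lit 1) j)) (dp_d_97 j u) (Nat.ble (nat_lit 3) j)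
noncomputable def chk_d (j u : ℕ) : Bool :=
  Bool.rec (motive := fun _ => Bool) (disp_d j u) (Nat.ble (Nat.succ (MG u)) A) (Nat.ble A (T_d u))
noncomputable def dp_di_0 (j u : ℕ) : Bool :=
  Bool.rec (motive := fun _ => Bool) (lF [T_b, T_b, T_d, T_b] M (Nat.sub (T_di u) (Nat.mod (T_di u) M)) (Nat.mod (T_di u) M) u) (lS MG [T_z, T_d, T_zi] M (Nat.sub (T_di u) (Nat.mod (T_di u) M)) (nat_lit 40) (Nat.mod (T_di u) M) u) (Nat.ble (nat_lit 8) j)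
noncomputable def dp_di_1 (j u : ℕ) : Bool :=
  Bool.rec (motive := fun _ => Bool) (lF [T_di, T_di, T_di, T_di] M (Nat.sub (T_di u) (Nat.mod (T_di u) M)) (Nat.mod (T_di u) M) u) (dp_di_0 j u) (Nat.ble (nat_lit 7) j)
noncomputable def dp_di_2 (j u : ℕ) : Bool :=
  Bool.rec (motive := fun _ => Bool) (lF3 T_z T_d T_zi M (Nat.sub (T_di u) (Nat.mod (T_di u) M)) (Nat.mod (T_di u) M) u) (dp_di_1 j u) (Nat.ble (nat_lit 6) j)
noncomputable def dp_di_3 (j u : ℕ) : Bool :=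
  Bool.rec (motive := fun _ => Bool) (lF [T_fi, T_fi, T_d, T_d, T_fi] M (Nat.sub (T_di u) (Nat.mod (T_di u) M)) (Nat.mod (T_di u) M) u) (lF [T_bi, T_bi, T_d, T_bi] M (Nat.sub (T_di u) (Nat.mod (T_di u) M)) (Nat.mod (T_di u) M) u) (Nat.ble (nat_lit 10) j)
noncomputable def dp_di_4 (j u : ℕ) : Bool :=
  Bool.rec (motive := fun _ => Bool) (lF [T_f, T_f, T_d, T_f, T_di] M (Nat.sub (T_di u) (Nat.mod (T_di u) M)) (Nat.mod (T_di u) M) u) (lF [T_c, T_c, T_di, T_f, T_di, T_c] M (Nat.sub (T_di u) (Nat.mod (T_di u) M)) (Nat.mod (T_di u) M) u) (Nat.ble (nat_lit 13) j)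
noncomputable def dp_di_5 (j u : ℕ) : Bool :=
  Bool.rec (motive := fun _ => Bool) (lF [T_di, T_f, T_f, T_d, T_f] M (Nat.sub (T_di u) (Nat.mod (T_di u) M)) (Nat.mod (T_di u) M) u) (dp_di_4 j u) (Nat.ble (nat_lit 12) j)
noncomputable def dp_di_6 (j u : ℕ) : Bool :=
  Bool.rec (motive := fun _ => Bool) (dp_di_3 j u) (dp_di_5 j u) (Nat.ble (nat_lit 11) j)
noncomputable def dp_di_7 (j u : ℕ) : Bool :=
  Bool.rec (motive := fun _ => Bool) (lS MG [T_zi, T_d, T_z] M (Nat.sub (T_di u) (Nat.mod (T_di u) M)) (nat_lit 40) (Nat.mod (T_di u) M) u) (lF [T_f, T_ei, T_fi, T_d, T_ci, T_ei, T_c] M (Nat.sub (T_di u) (Nat.mod (T_di u) M)) (Nat.mod (T_di u) M) u) (Nat.ble (nat_lit 16) j)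
noncomputable def dp_di_8 (j u : ℕ) : Bool :=
  Bool.rec (motive := fun _ => Bool) (lF [T_f, T_e, T_fi, T_d, T_ci, T_e, T_c] M (Nat.sub (T_di u) (Nat.mod (T_di u) M)) (Nat.mod (T_di u) M) u) (dp_di_7 j u) (Nat.ble (nat_lit 15) j)
noncomputable def dp_di_9 (j u : ℕ) : Bool :=
  Bool.rec (motive := fun _ => Bool) (lS MG [T_b, T_b, T_d, T_b] M (Nat.sub (T_di u) (Nat.mod (T_di u) M)) (nat_lit 40) (Nat.mod (T_di u) M) u) (lF [T_f, T_di, T_c, T_di, T_c, T_c] M (Nat.sub (T_di u) (Nat.mod (T_di u) M)) (Nat.mod (T_di u) M) u) (Nat.ble (nat_lit 18) j)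
noncomputable def dp_di_10 (j u : ℕ) : Bool :=
  Bool.rec (motive := fun _ => Bool) (lS MG [T_bi, T_bi, T_d, T_bi] M (Nat.sub (T_di u) (Nat.mod (T_di u) M)) (nat_lit 40) (Nat.mod (T_di u) M) u) (lF [T_c, T_di, T_c, T_c, T_di, T_f] M (Nat.sub (T_di u) (Nat.mod (T_di u) M)) (Nat.mod (T_di u) M) u) (Nat.ble (nat_lit 21) j)
noncomputable def dp_di_11 (j u : ℕ) : Bool :=
  Bool.rec (motive := fun _ => Bool) (lS MG [T_di, T_di, T_di, T_di] M (Nat.sub (T_di u) (Nat.mod (T_di u) M)) (nat_lit 40) (Nat.mod (T_di u) M) u) (dp_di_10 j u) (Nat.ble (nat_lit 20) j)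
noncomputable def dp_di_12 (j u : ℕ) : Bool :=
  Bool.rec (motive := fun _ => Bool) (dp_di_9 j u) (dp_di_11 j u) (Nat.ble (nat_lit 19) j)
noncomputable def dp_di_13 (j u : ℕ) : Bool :=
  Bool.rec (motive := fun _ => Bool) (dp_di_8 j u) (dp_di_12 j u) (Nat.ble (nat_lit 17) j)
noncomputable def dp_di_14 (j u : ℕ) : Bool :=
  Bool.rec (motive := fun _ => Bool) (lS MG [T_fi, T_fi, T_d, T_d, T_fi] M (Nat.sub (T_di u) (Nat.mod (T_di u) M)) (nat_lit 40) (Nat.mod (T_di u) M) u) (lS MG [T_di, T_f, T_f, T_d, T_f] M (Nat.sub (T_di u) (Nat.mod (T_di u) M)) (nat_lit 40) (Nat.mod (T_di u) M) u) (Nat.ble (nat_lit 23) j)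
noncomputable def dp_di_15 (j u : ℕ) : Bool :=
  Bool.rec (motive := fun _ => Bool) (lF [T_bi, T_di, T_fi, T_ci, T_bi, T_c] M (Nat.sub (T_di u) (Nat.mod (T_di u) M)) (Nat.mod (T_di u) M) u) (lF [T_fi, T_ci, T_bi, T_c, T_di, T_bi] M (Nat.sub (T_di u) (Nat.mod (T_di u) M)) (Nat.mod (T_di u) M) u) (Nat.ble (nat_lit 25) j)
noncomputable def dp_di_16 (j u : ℕ) : Bool :=
  Bool.rec (motive := fun _ => Bool) (dp_di_14 j u) (dp_di_15 j u) (Nat.ble (nat_lit 24) j)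
noncomputable def dp_di_17 (j u : ℕ) : Bool :=
  Bool.rec (motive := fun _ => Bool) (lS MG [T_f, T_f, T_d, T_f, T_di] M (Nat.sub (T_di u) (Nat.mod (T_di u) M)) (nat_lit 40) (Nat.mod (T_di u) M) u) (lF [T_f, T_d, T_d, T_fi, T_d, T_fi] M (Nat.sub (T_di u) (Nat.mod (T_di u) M)) (Nat.mod (T_di u) M) u) (Nat.ble (nat_lit 27) j)
noncomputable def dp_di_18 (j u : ℕ) : Bool :=
  Bool.rec (motive := fun _ => Bool) (lS MG [T_f, T_e, T_fi, T_d, T_ci, T_e, T_c] M (Nat.sub (T_di u) (Nat.mod (T_di u) M)) (nat_lit 40) (Nat.mod (T_di u) M) u) (lF [T_f, T_di, T_di, T_fi, T_d, T_f] M (Nat.sub (T_di u) (Nat.mod (T_di u) M)) (Nat.mod (T_di u) M) u) (Nat.ble (nat_lit 29) j)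
noncomputable def dp_di_19 (j u : ℕ) : Bool :=
  Bool.rec (motive := fun _ => Bool) (lF [T_c, T_e, T_ci, T_d, T_b, T_c, T_ei, T_ci, T_bi] M (Nat.sub (T_di u) (Nat.mod (T_di u) M)) (Nat.mod (T_di u) M) u) (lS MG [T_c, T_c, T_di, T_f, T_di, T_c] M (Nat.sub (T_di u) (Nat.mod (T_di u) M)) (nat_lit 40) (Nat.mod (T_di u) M) u) (Nat.ble (nat_lit 31) j)
noncomputable def dp_di_20 (j u : ℕ) : Bool :=
  Bool.rec (motive := fun _ => Bool) (dp_di_18 j u) (dp_di_19 j u) (Nat.ble (nat_lit 30) j)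
noncomputable def dp_di_21 (j u : ℕ) : Bool :=
  Bool.rec (motive := fun _ => Bool) (dp_di_17 j u) (dp_di_20 j u) (Nat.ble (nat_lit 28) j)
noncomputable def dp_di_22 (j u : ℕ) : Bool :=
  Bool.rec (motive := fun _ => Bool) (dp_di_16 j u) (dp_di_21 j u) (Nat.ble (nat_lit 26) j)
noncomputable def dp_di_23 (j u : ℕ) : Bool :=
  Bool.rec (motive := fun _ => Bool) (lF [T_c, T_ei, T_ci, T_d, T_b, T_c, T_e, T_ci, T_bi] M (Nat.sub (T_di u) (Nat.mod (T_di u) M)) (Nat.mod (T_di u) M) u) (lF [T_ci, T_d, T_ci, T_bi, T_d, T_ci, T_b] M (Nat.sub (T_di u) (Nat.mod (T_di u) M)) (Nat.mod (T_di u) M) u) (Nat.ble (nat_lit 34) j)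
noncomputable def dp_di_24 (j u : ℕ) : Bool :=
  Bool.rec (motive := fun _ => Bool) (lF [T_fi, T_d, T_f, T_di, T_f, T_di] M (Nat.sub (T_di u) (Nat.mod (T_di u) M)) (Nat.mod (T_di u) M) u) (dp_di_23 j u) (Nat.ble (nat_lit 33) j)
noncomputable def dp_di_25 (j u : ℕ) : Bool :=
  Bool.rec (motive := fun _ => Bool) (lS MG [T_f, T_ei, T_fi, T_d, T_ci, T_ei, T_c] M (Nat.sub (T_di u) (Nat.mod (T_di u) M)) (nat_lit 40) (Nat.mod (T_di u) M) u) (lF [T_f, T_bi, T_di, T_di, T_fi, T_bi, T_ci] M (Nat.sub (T_di u) (Nat.mod (T_di u) M)) (Nat.mod (T_di u) M) u) (Nat.ble (nat_lit 37) j)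
noncomputable def dp_di_26 (j u : ℕ) : Bool :=
  Bool.rec (motive := fun _ => Bool) (lF [T_ci, T_bi, T_f, T_ci, T_d, T_b, T_ci] M (Nat.sub (T_di u) (Nat.mod (T_di u) M)) (Nat.mod (T_di u) M) u) (dp_di_25 j u) (Nat.ble (nat_lit 36) j)
noncomputable def dp_di_27 (j u : ℕ) : Bool :=
  Bool.rec (motive := fun _ => Bool) (dp_di_24 j u) (dp_di_26 j u) (Nat.ble (nat_lit 35) j)
noncomputable def dp_di_28 (j u : ℕ) : Bool :=
  Bool.rec (motive := fun _ => Bool) (lS MG [T_f, T_di, T_c, T_di, T_c, T_c] M (Nat.sub (T_di u) (Nat.mod (T_di u) M)) (nat_lit 40) (Nat.mod (T_di u) M) u) (lF [T_bi, T_c, T_b, T_d, T_ci, T_fi, T_fi] M (Nat.sub (T_di u) (Nat.mod (T_di u) M)) (Nat.mod (T_di u) M) u) (Nat.ble (nat_lit 39) j)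
noncomputable def dp_di_29 (j u : ℕ) : Bool :=
  Bool.rec (motive := fun _ => Bool) (lF [T_c, T_b, T_ci, T_di, T_c, T_b, T_ci] M (Nat.sub (T_di u) (Nat.mod (T_di u) M)) (Nat.mod (T_di u) M) u) (lF [T_b, T_c, T_di, T_c, T_d, T_bi, T_c] M (Nat.sub (T_di u) (Nat.mod (T_di u) M)) (Nat.mod (T_di u) M) u) (Nat.ble (nat_lit 41) j)
noncomputable def dp_di_30 (j u : ℕ) : Bool :=
  Bool.rec (motive := fun _ => Bool) (dp_di_28 j u) (dp_di_29 j u) (Nat.ble (nat_lit 40) j)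
noncomputable def dp_di_31 (j u : ℕ) : Bool :=
  Bool.rec (motive := fun _ => Bool) (lS MG [T_c, T_di, T_c, T_c, T_di, T_f] M (Nat.sub (T_di u) (Nat.mod (T_di u) M)) (nat_lit 40) (Nat.mod (T_di u) M) u) (lF [T_ci, T_bi, T_di, T_fi, T_b, T_c, T_bi] M (Nat.sub (T_di u) (Nat.mod (T_di u) M)) (Nat.mod (T_di u) M) u) (Nat.ble (nat_lit 43) j)
noncomputable def dp_di_32 (j u : ℕ) : Bool :=
  Bool.rec (motive := fun _ => Bool) (lF [T_c, T_d, T_bi, T_c, T_di, T_b, T_c] M (Nat.sub (T_di u) (Nat.mod (T_di u) M)) (Nat.mod (T_di u) M) u) (lF [T_b, T_c, T_c, T_d, T_bi, T_c, T_fi] M (Nat.sub (T_di u) (Nat.mod (T_di u) M)) (Nat.mod (T_di u) M) u) (Nat.ble (nat_lit 46) j)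
noncomputable def dp_di_33 (j u : ℕ) : Bool :=
  Bool.rec (motive := fun _ => Bool) (lS MG [T_bi, T_di, T_fi, T_ci, T_bi, T_c] M (Nat.sub (T_di u) (Nat.mod (T_di u) M)) (nat_lit 40) (Nat.mod (T_di u) M) u) (dp_di_32 j u) (Nat.ble (nat_lit 45) j)
noncomputable def dp_di_34 (j u : ℕ) : Bool :=
  Bool.rec (motive := fun _ => Bool) (dp_di_31 j u) (dp_di_33 j u) (Nat.ble (nat_lit 44) j)
noncomputable def dp_di_35 (j u : ℕ) : Bool :=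
  Bool.rec (motive := fun _ => Bool) (dp_di_30 j u) (dp_di_34 j u) (Nat.ble (nat_lit 42) j)
noncomputable def dp_di_36 (j u : ℕ) : Bool :=
  Bool.rec (motive := fun _ => Bool) (dp_di_27 j u) (dp_di_35 j u) (Nat.ble (nat_lit 38) j)
noncomputable def dp_di_37 (j u : ℕ) : Bool :=
  Bool.rec (motive := fun _ => Bool) (lS MG [T_f, T_di, T_di, T_fi, T_d, T_f] M (Nat.sub (T_di u) (Nat.mod (T_di u) M)) (nat_lit 40) (Nat.mod (T_di u) M) u) (lS MG [T_c, T_e, T_ci, T_d, T_b, T_c, T_ei, T_ci, T_bi] M (Nat.sub (T_di u) (Nat.mod (T_di u) M)) (nat_lit 40) (Nat.mod (T_di u) M) u) (Nat.ble (nat_lit 49) j)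
noncomputable def dp_di_38 (j u : ℕ) : Bool :=
  Bool.rec (motive := fun _ => Bool) (lF [T_b, T_ci, T_d, T_b, T_f, T_ci, T_f] M (Nat.sub (T_di u) (Nat.mod (T_di u) M)) (Nat.mod (T_di u) M) u) (dp_di_37 j u) (Nat.ble (nat_lit 48) j)
noncomputable def dp_di_39 (j u : ℕ) : Bool :=
  Bool.rec (motive := fun _ => Bool) (lS MG [T_f, T_d, T_d, T_fi, T_d, T_fi] M (Nat.sub (T_di u) (Nat.mod (T_di u) M)) (nat_lit 40) (Nat.mod (T_di u) M) u) (lF [T_di, T_fi, T_d, T_f, T_di, T_f] M (Nat.sub (T_di u) (Nat.mod (T_di u) M)) (Nat.mod (T_di u) M) u) (Nat.ble (nat_lit 52) j)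
noncomputable def dp_di_40 (j u : ℕ) : Bool :=
  Bool.rec (motive := fun _ => Bool) (lF [T_ci, T_ci, T_bi, T_d, T_f, T_ci, T_b] M (Nat.sub (T_di u) (Nat.mod (T_di u) M)) (Nat.mod (T_di u) M) u) (dp_di_39 j u) (Nat.ble (nat_lit 51) j)
noncomputable def dp_di_41 (j u : ℕ) : Bool :=
  Bool.rec (motive := fun _ => Bool) (dp_di_38 j u) (dp_di_40 j u) (Nat.ble (nat_lit 50) j)
noncomputable def dp_di_42 (j u : ℕ) : Bool :=
  Bool.rec (motive := fun _ => Bool) (lS MG [T_b, T_ci, T_d, T_b, T_f, T_ci, T_f] M (Nat.sub (T_di u) (Nat.mod (T_di u) M)) (nat_lit 40) (Nat.mod (T_di u) M) u) (lF [T_f, T_c, T_b, T_c, T_d, T_f, T_b] M (Nat.sub (T_di u) (Nat.mod (T_di u) M)) (Nat.mod (T_di u) M) u) (Nat.ble (nat_lit 54) j)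
noncomputable def dp_di_43 (j u : ℕ) : Bool :=
  Bool.rec (motive := fun _ => Bool) (lF [T_bi, T_c, T_c, T_di, T_bi, T_c, T_c] M (Nat.sub (T_di u) (Nat.mod (T_di u) M)) (Nat.mod (T_di u) M) u) (lF [T_ci, T_d, T_e, T_c, T_bi, T_fi, T_d, T_ei, T_c, T_c] M (Nat.sub (T_di u) (Nat.mod (T_di u) M)) (Nat.mod (T_di u) M) u) (Nat.ble (nat_lit 56) j)
noncomputable def dp_di_44 (j u : ℕ) : Bool :=
  Bool.rec (motive := fun _ => Bool) (dp_di_42 j u) (dp_di_43 j u) (Nat.ble (nat_lit 55) j)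
noncomputable def dp_di_45 (j u : ℕ) : Bool :=
  Bool.rec (motive := fun _ => Bool) (lF [T_di, T_fi, T_c, T_di, T_di, T_fi, T_c] M (Nat.sub (T_di u) (Nat.mod (T_di u) M)) (Nat.mod (T_di u) M) u) (lF [T_di, T_ci, T_f, T_b, T_ci, T_fi, T_b] M (Nat.sub (T_di u) (Nat.mod (T_di u) M)) (Nat.mod (T_di u) M) u) (Nat.ble (nat_lit 58) j)
noncomputable def dp_di_46 (j u : ℕ) : Bool :=
  Bool.rec (motive := fun _ => Bool) (lF [T_f, T_b, T_c, T_b, T_ci, T_bi, T_di] M (Nat.sub (T_di u) (Nat.mod (T_di u) M)) (Nat.mod (T_di u) M) u) (lF [T_f, T_bi, T_c, T_fi, T_di, T_ci, T_b] M (Nat.sub (T_di u) (Nat.mod (T_di u) M)) (Nat.mod (T_di u) M) u) (Nat.ble (nat_lit 61) j)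
noncomputable def dp_di_47 (j u : ℕ) : Bool :=
  Bool.rec (motive := fun _ => Bool) (lF [T_ci, T_bi, T_ci, T_fi, T_d, T_bi, T_fi] M (Nat.sub (T_di u) (Nat.mod (T_di u) M)) (Nat.mod (T_di u) M) u) (dp_di_46 j u) (Nat.ble (nat_lit 60) j)
noncomputable def dp_di_48 (j u : ℕ) : Bool :=
  Bool.rec (motive := fun _ => Bool) (dp_di_45 j u) (dp_di_47 j u) (Nat.ble (nat_lit 59) j)
noncomputable def dp_di_49 (j u : ℕ) : Bool :=
  Bool.rec (motive := fun _ => Bool) (dp_di_44 j u) (dp_di_48 j u) (Nat.ble (nat_lit 57) j)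
noncomputable def dp_di_50 (j u : ℕ) : Bool :=
  Bool.rec (motive := fun _ => Bool) (dp_di_41 j u) (dp_di_49 j u) (Nat.ble (nat_lit 53) j)
noncomputable def dp_di_51 (j u : ℕ) : Bool :=
  Bool.rec (motive := fun _ => Bool) (lS MG [T_di, T_f, T_b, T_c, T_b, T_ci, T_bi] M (Nat.sub (T_di u) (Nat.mod (T_di u) M)) (nat_lit 40) (Nat.mod (T_di u) M) u) (lF [T_fi, T_b, T_c, T_bi, T_di, T_ci, T_bi] M (Nat.sub (T_di u) (Nat.mod (T_di u) M)) (Nat.mod (T_di u) M) u) (Nat.ble (nat_lit 64) j)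
noncomputable def dp_di_52 (j u : ℕ) : Bool :=
  Bool.rec (motive := fun _ => Bool) (lF [T_fi, T_c, T_di, T_di, T_fi, T_c, T_di] M (Nat.sub (T_di u) (Nat.mod (T_di u) M)) (Nat.mod (T_di u) M) u) (dp_di_51 j u) (Nat.ble (nat_lit 63) j)
noncomputable def dp_di_53 (j u : ℕ) : Bool :=
  Bool.rec (motive := fun _ => Bool) (lS MG [T_fi, T_ci, T_bi, T_c, T_di, T_bi] M (Nat.sub (T_di u) (Nat.mod (T_di u) M)) (nat_lit 40) (Nat.mod (T_di u) M) u) (lS MG [T_ci, T_ci, T_bi, T_d, T_f, T_ci, T_b] M (Nat.sub (T_di u) (Nat.mod (T_di u) M)) (nat_lit 40) (Nat.mod (T_di u) M) u) (Nat.ble (nat_lit 67) j)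
noncomputable def dp_di_54 (j u : ℕ) : Bool :=
  Bool.rec (motive := fun _ => Bool) (lF [T_di, T_f, T_b, T_c, T_b, T_ci, T_bi] M (Nat.sub (T_di u) (Nat.mod (T_di u) M)) (Nat.mod (T_di u) M) u) (dp_di_53 j u) (Nat.ble (nat_lit 66) j)
noncomputable def dp_di_55 (j u : ℕ) : Bool :=
  Bool.rec (motive := fun _ => Bool) (dp_di_52 j u) (dp_di_54 j u) (Nat.ble (nat_lit 65) j)
noncomputable def dp_di_56 (j u : ℕ) : Bool :=
  Bool.rec (motive := fun _ => Bool) (lF [T_ci, T_ci, T_b, T_f, T_d, T_bi, T_bi, T_c] M (Nat.sub (T_di u) (Nat.mod (T_di u) M)) (Nat.mod (T_di u) M) u) (lS MG [T_c, T_ei, T_ci, T_d, T_b, T_c, T_e, T_ci, T_bi] M (Nat.sub (T_di u) (Nat.mod (T_di u) M)) (nat_lit 40) (Nat.mod (T_di u) M) u) (Nat.ble (nat_lit 69) j)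
noncomputable def dp_di_57 (j u : ℕ) : Bool :=
  Bool.rec (motive := fun _ => Bool) (lF [T_di, T_fi, T_bi, T_ci, T_di, T_f, T_bi] M (Nat.sub (T_di u) (Nat.mod (T_di u) M)) (Nat.mod (T_di u) M) u) (lF [T_c, T_fi, T_b, T_c, T_d, T_c, T_bi] M (Nat.sub (T_di u) (Nat.mod (T_di u) M)) (Nat.mod (T_di u) M) u) (Nat.ble (nat_lit 71) j)
noncomputable def dp_di_58 (j u : ℕ) : Bool :=
  Bool.rec (motive := fun _ => Bool) (dp_di_56 j u) (dp_di_57 j u) (Nat.ble (nat_lit 70) j)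
noncomputable def dp_di_59 (j u : ℕ) : Bool :=
  Bool.rec (motive := fun _ => Bool) (lS MG [T_bi, T_c, T_b, T_d, T_ci, T_fi, T_fi] M (Nat.sub (T_di u) (Nat.mod (T_di u) M)) (nat_lit 40) (Nat.mod (T_di u) M) u) (lS MG [T_fi, T_c, T_di, T_di, T_fi, T_c, T_di] M (Nat.sub (T_di u) (Nat.mod (T_di u) M)) (nat_lit 40) (Nat.mod (T_di u) M) u) (Nat.ble (nat_lit 73) j)
noncomputable def dp_di_60 (j u : ℕ) : Bool :=
  Bool.rec (motive := fun _ => Bool) (lF [T_b, T_f, T_c, T_di, T_b, T_f, T_c] M (Nat.sub (T_di u) (Nat.mod (T_di u) M)) (Nat.mod (T_di u) M) u) (lS MG [T_ci, T_bi, T_ci, T_fi, T_d, T_bi, T_fi] M (Nat.sub (T_di u) (Nat.mod (T_di u) M)) (nat_lit 40) (Nat.mod (T_di u) M) u) (Nat.ble (nat_lit 75) j)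
noncomputable def dp_di_61 (j u : ℕ) : Bool :=
  Bool.rec (motive := fun _ => Bool) (dp_di_59 j u) (dp_di_60 j u) (Nat.ble (nat_lit 74) j)
noncomputable def dp_di_62 (j u : ℕ) : Bool :=
  Bool.rec (motive := fun _ => Bool) (dp_di_58 j u) (dp_di_61 j u) (Nat.ble (nat_lit 72) j)
noncomputable def dp_di_63 (j u : ℕ) : Bool :=
  Bool.rec (motive := fun _ => Bool) (dp_di_55 j u) (dp_di_62 j u) (Nat.ble (nat_lit 68) j)
noncomputable def dp_di_64 (j u : ℕ) : Bool :=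
  Bool.rec (motive := fun _ => Bool) (lF [T_ci, T_f, T_b, T_ci, T_fi, T_b, T_di] M (Nat.sub (T_di u) (Nat.mod (T_di u) M)) (Nat.mod (T_di u) M) u) (lS MG [T_ci, T_bi, T_di, T_fi, T_b, T_c, T_bi] M (Nat.sub (T_di u) (Nat.mod (T_di u) M)) (nat_lit 40) (Nat.mod (T_di u) M) u) (Nat.ble (nat_lit 77) j)
noncomputable def dp_di_65 (j u : ℕ) : Bool :=
  Bool.rec (motive := fun _ => Bool) (lF [T_fi, T_bi, T_ci, T_di, T_f, T_bi, T_di] M (Nat.sub (T_di u) (Nat.mod (T_di u) M)) (Nat.mod (T_di u) M) u) (lS MG [T_fi, T_bi, T_ci, T_di, T_f, T_bi, T_di] M (Nat.sub (T_di u) (Nat.mod (T_di u) M)) (nat_lit 40) (Nat.mod (T_di u) M) u) (Nat.ble (nat_lit 79) j)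
noncomputable def dp_di_66 (j u : ℕ) : Bool :=
  Bool.rec (motive := fun _ => Bool) (dp_di_64 j u) (dp_di_65 j u) (Nat.ble (nat_lit 78) j)
noncomputable def dp_di_67 (j u : ℕ) : Bool :=
  Bool.rec (motive := fun _ => Bool) (lS MG [T_c, T_fi, T_b, T_c, T_d, T_c, T_bi] M (Nat.sub (T_di u) (Nat.mod (T_di u) M)) (nat_lit 40) (Nat.mod (T_di u) M) u) (lS MG [T_b, T_c, T_di, T_c, T_d, T_bi, T_c] M (Nat.sub (T_di u) (Nat.mod (T_di u) M)) (nat_lit 40) (Nat.mod (T_di u) M) u) (Nat.ble (nat_lit 81) j)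
noncomputable def dp_di_68 (j u : ℕ) : Bool :=
  Bool.rec (motive := fun _ => Bool) (lF [T_c, T_bi, T_d, T_fi, T_c, T_fi, T_bi] M (Nat.sub (T_di u) (Nat.mod (T_di u) M)) (Nat.mod (T_di u) M) u) (lS MG [T_di, T_fi, T_d, T_f, T_di, T_f] M (Nat.sub (T_di u) (Nat.mod (T_di u) M)) (nat_lit 40) (Nat.mod (T_di u) M) u) (Nat.ble (nat_lit 84) j)
noncomputable def dp_di_69 (j u : ℕ) : Bool :=
  Bool.rec (motive := fun _ => Bool) (lF [T_bi, T_ci, T_b, T_d, T_f, T_f, T_c] M (Nat.sub (T_di u) (Nat.mod (T_di u) M)) (Nat.mod (T_di u) M) u) (dp_di_68 j u) (Nat.ble (nat_lit 83) j)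
noncomputable def dp_di_70 (j u : ℕ) : Bool :=
  Bool.rec (motive := fun _ => Bool) (dp_di_67 j u) (dp_di_69 j u) (Nat.ble (nat_lit 82) j)
noncomputable def dp_di_71 (j u : ℕ) : Bool :=
  Bool.rec (motive := fun _ => Bool) (dp_di_66 j u) (dp_di_70 j u) (Nat.ble (nat_lit 80) j)
noncomputable def dp_di_72 (j u : ℕ) : Bool :=
  Bool.rec (motive := fun _ => Bool) (lS MG [T_f, T_b, T_ci, T_ei, T_di, T_c, T_d, T_ci, T_ci, T_e] M (Nat.sub (T_di u) (Nat.mod (T_di u) M)) (nat_lit 40) (Nat.mod (T_di u) M) u) (lF [T_ci, T_b, T_di, T_f, T_bi, T_c, T_fi] M (Nat.sub (T_di u) (Nat.mod (T_di u) M)) (Nat.mod (T_di u) M) u) (Nat.ble (nat_lit 86) j)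
noncomputable def dp_di_73 (j u : ℕ) : Bool :=
  Bool.rec (motive := fun _ => Bool) (lF [T_bi, T_c, T_f, T_ci, T_b, T_d, T_ci, T_f, T_c] M (Nat.sub (T_di u) (Nat.mod (T_di u) M)) (Nat.mod (T_di u) M) u) (lF [T_bi, T_c, T_fi, T_ci, T_b, T_d, T_ci, T_fi, T_c] M (Nat.sub (T_di u) (Nat.mod (T_di u) M)) (Nat.mod (T_di u) M) u) (Nat.ble (nat_lit 88) j)
noncomputable def dp_di_74 (j u : ℕ) : Bool :=
  Bool.rec (motive := fun _ => Bool) (dp_di_72 j u) (dp_di_73 j u) (Nat.ble (nat_lit 87) j)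
noncomputable def dp_di_75 (j u : ℕ) : Bool :=
  Bool.rec (motive := fun _ => Bool) (lS MG [T_ei, T_di, T_ci, T_f, T_c, T_e, T_d, T_c, T_f, T_f] M (Nat.sub (T_di u) (Nat.mod (T_di u) M)) (nat_lit 40) (Nat.mod (T_di u) M) u) (lF [T_fi, T_bi, T_c, T_c, T_d, T_ci, T_b, T_b] M (Nat.sub (T_di u) (Nat.mod (T_di u) M)) (Nat.mod (T_di u) M) u) (Nat.ble (nat_lit 90) j)
noncomputable def dp_di_76 (j u : ℕ) : Bool :=
  Bool.rec (motive := fun _ => Bool) (lS MG [T_c, T_b, T_ci, T_di, T_c, T_b, T_ci] M (Nat.sub (T_di u) (Nat.mod (T_di u) M)) (nat_lit 40) (Nat.mod (T_di u) M) u) (lS MG [T_bi, T_ci, T_b, T_d, T_f, T_f, T_c] M (Nat.sub (T_di u) (Nat.mod (T_di u) M)) (nat_lit 40) (Nat.mod (T_di u) M) u) (Nat.ble (nat_lit 93) j)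
noncomputable def dp_di_77 (j u : ℕ) : Bool :=
  Bool.rec (motive := fun _ => Bool) (lS MG [T_fi, T_d, T_f, T_di, T_f, T_di] M (Nat.sub (T_di u) (Nat.mod (T_di u) M)) (nat_lit 40) (Nat.mod (T_di u) M) u) (dp_di_76 j u) (Nat.ble (nat_lit 92) j)
noncomputable def dp_di_78 (j u : ℕ) : Bool :=
  Bool.rec (motive := fun _ => Bool) (dp_di_75 j u) (dp_di_77 j u) (Nat.ble (nat_lit 91) j)
noncomputable def dp_di_79 (j u : ℕ) : Bool :=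
  Bool.rec (motive := fun _ => Bool) (dp_di_74 j u) (dp_di_78 j u) (Nat.ble (nat_lit 89) j)
noncomputable def dp_di_80 (j u : ℕ) : Bool :=
  Bool.rec (motive := fun _ => Bool) (lS MG [T_ci, T_d, T_ci, T_bi, T_d, T_ci, T_b] M (Nat.sub (T_di u) (Nat.mod (T_di u) M)) (nat_lit 40) (Nat.mod (T_di u) M) u) (lS MG [T_fi, T_b, T_c, T_bi, T_di, T_ci, T_bi] M (Nat.sub (T_di u) (Nat.mod (T_di u) M)) (nat_lit 40) (Nat.mod (T_di u) M) u) (Nat.ble (nat_lit 95) j)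
noncomputable def dp_di_81 (j u : ℕ) : Bool :=
  Bool.rec (motive := fun _ => Bool) (lS MG [T_ci, T_f, T_b, T_ci, T_fi, T_b, T_di] M (Nat.sub (T_di u) (Nat.mod (T_di u) M)) (nat_lit 40) (Nat.mod (T_di u) M) u) (lS MG [T_ci, T_b, T_di, T_f, T_bi, T_c, T_fi] M (Nat.sub (T_di u) (Nat.mod (T_di u) M)) (nat_lit 40) (Nat.mod (T_di u) M) u) (Nat.ble (nat_lit 97) j)
noncomputable def dp_di_82 (j u : ℕ) : Bool :=
  Bool.rec (motive := fun _ => Bool) (dp_di_80 j u) (dp_di_81 j u) (Nat.ble (nat_lit 96) j)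
noncomputable def dp_di_83 (j u : ℕ) : Bool :=
  Bool.rec (motive := fun _ => Bool) (lF [T_ci, T_f, T_c, T_e, T_d, T_c, T_f, T_f, T_di, T_ei] M (Nat.sub (T_di u) (Nat.mod (T_di u) M)) (Nat.mod (T_di u) M) u) (lS MG [T_f, T_c, T_b, T_c, T_d, T_f, T_b] M (Nat.sub (T_di u) (Nat.mod (T_di u) M)) (nat_lit 40) (Nat.mod (T_di u) M) u) (Nat.ble (nat_lit 99) j)
noncomputable def dp_di_84 (j u : ℕ) : Bool :=
  Bool.rec (motive := fun _ => Bool) (lF [T_f, T_b, T_d, T_f, T_b, T_b, T_b, T_fi] M (Nat.sub (T_di u) (Nat.mod (T_di u) M)) (Nat.mod (T_di u) M) u) (lS MG [T_fi, T_bi, T_c, T_c, T_d, T_ci, T_b, T_b] M (Nat.sub (T_di u) (Nat.mod (T_di u) M)) (nat_lit 40) (Nat.mod (T_di u) M) u) (Nat.ble (nat_lit 102) j)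
noncomputable def dp_di_85 (j u : ℕ) : Bool :=
  Bool.rec (motive := fun _ => Bool) (lS MG [T_b, T_c, T_c, T_d, T_bi, T_c, T_fi] M (Nat.sub (T_di u) (Nat.mod (T_di u) M)) (nat_lit 40) (Nat.mod (T_di u) M) u) (dp_di_84 j u) (Nat.ble (nat_lit 101) j)
noncomputable def dp_di_86 (j u : ℕ) : Bool :=
  Bool.rec (motive := fun _ => Bool) (dp_di_83 j u) (dp_di_85 j u) (Nat.ble (nat_lit 100) j)
noncomputable def dp_di_87 (j u : ℕ) : Bool :=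
  Bool.rec (motive := fun _ => Bool) (dp_di_82 j u) (dp_di_86 j u) (Nat.ble (nat_lit 98) j)
noncomputable def dp_di_88 (j u : ℕ) : Bool :=
  Bool.rec (motive := fun _ => Bool) (dp_di_79 j u) (dp_di_87 j u) (Nat.ble (nat_lit 94) j)
noncomputable def dp_di_89 (j u : ℕ) : Bool :=
  Bool.rec (motive := fun _ => Bool) (dp_di_71 j u) (dp_di_88 j u) (Nat.ble (nat_lit 85) j)
noncomputable def dp_di_90 (j u : ℕ) : Bool :=
  Bool.rec (motive := fun _ => Bool) (dp_di_63 j u) (dp_di_89 j u) (Nat.ble (nat_lit 76) j)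
noncomputable def dp_di_91 (j u : ℕ) : Bool :=
  Bool.rec (motive := fun _ => Bool) (dp_di_50 j u) (dp_di_90 j u) (Nat.ble (nat_lit 62) j)
noncomputable def dp_di_92 (j u : ℕ) : Bool :=
  Bool.rec (motive := fun _ => Bool) (dp_di_36 j u) (dp_di_91 j u) (Nat.ble (nat_lit 47) j)
noncomputable def dp_di_93 (j u : ℕ) : Bool :=
  Bool.rec (motive := fun _ => Bool) (dp_di_22 j u) (dp_di_92 j u) (Nat.ble (nat_lit 32) j)
noncomputable def dp_di_94 (j u : ℕ) : Bool :=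
  Bool.rec (motive := fun _ => Bool) (dp_di_13 j u) (dp_di_93 j u) (Nat.ble (nat_lit 22) j)
noncomputable def dp_di_95 (j u : ℕ) : Bool :=
  Bool.rec (motive := fun _ => Bool) (dp_di_6 j u) (dp_di_94 j u) (Nat.ble (nat_lit 14) j)
noncomputable def dp_di_96 (j u : ℕ) : Bool :=
  Bool.rec (motive := fun _ => Bool) (dp_di_2 j u) (dp_di_95 j u) (Nat.ble (nat_lit 9) j)
noncomputable def dp_di_97 (j u : ℕ) : Bool :=
  Bool.rec (motive := fun _ => Bool) (Bool.rec (motive := fun _ => Bool) (lS MG [T_d] M (Nat.sub (T_di u) (Nat.mod (T_di u) M)) (nat_lit 40) (Nat.mod (T_di u) M) u) (lF3 T_zi T_d T_z M (Nat.sub (T_di u) (Nat.mod (T_di u) M)) (Nat.mod (T_di u) M) u) (Nat.ble (nat_lit 4) j)) (dp_di_96 j u) (Nat.ble (nat_lit 5) j)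
noncomputable def disp_di (j u : ℕ) : Bool :=
  Bool.rec (motive := fun _ => Bool) (Bool.rec (motive := fun _ => Bool) (lF1 T_d M (Nat.sub (T_di u) (Nat.mod (T_di u) M)) (Nat.mod (T_di u) M) u) (Bool.rec (motive := fun _ => Bool) (lDef P (nat_lit 3) (Nat.mod (T_di u) M) u) (lDef P (nat_lit 2) u (Nat.mod (T_di u) M)) (Nat.ble (nat_lit 2) j)) (Nat.ble (nat_lit 1) j)) (dp_di_97 j u) (Nat.ble (nat_lit 3) j)
noncomputable def chk_di (j u : ℕ) : Bool :=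
  Bool.rec (motive := fun _ => Bool) (disp_di j u) (Nat.ble (Nat.succ (MG u)) A) (Nat.ble A (T_di u))
noncomputable def dp_c_0 (j u : ℕ) : Bool :=
  Bool.rec (motive := fun _ => Bool) (lF [T_c, T_c, T_c, T_c] M (Nat.sub (T_c u) (Nat.mod (T_c u) M)) (Nat.mod (T_c u) M) u) (lF [T_f, T_c, T_f, T_c, T_f] M (Nat.sub (T_c u) (Nat.mod (T_c u) M)) (Nat.mod (T_c u) M) u) (Nat.ble (nat_lit 7) j)
noncomputable def dp_c_1 (j u : ℕ) : Bool :=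
  Bool.rec (motive := fun _ => Bool) (lF3 T_z T_ci T_zi M (Nat.sub (T_c u) (Nat.mod (T_c u) M)) (Nat.mod (T_c u) M) u) (dp_c_0 j u) (Nat.ble (nat_lit 6) j)
noncomputable def dp_c_2 (j u : ℕ) : Bool :=
  Bool.rec (motive := fun _ => Bool) (lS MG [T_zi, T_ci, T_z] M (Nat.sub (T_c u) (Nat.mod (T_c u) M)) (nat_lit 40) (Nat.mod (T_c u) M) u) (lF [T_di, T_c, T_c, T_di, T_f, T_di] M (Nat.sub (T_c u) (Nat.mod (T_c u) M)) (Nat.mod (T_c u) M) u) (Nat.ble (nat_lit 9) j)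
noncomputable def dp_c_3 (j u : ℕ) : Bool :=
  Bool.rec (motive := fun _ => Bool) (lF [T_f, T_d, T_b, T_d, T_ci, T_b] M (Nat.sub (T_c u) (Nat.mod (T_c u) M)) (Nat.mod (T_c u) M) u) (lF [T_di, T_bi, T_di, T_fi, T_ci, T_bi] M (Nat.sub (T_c u) (Nat.mod (T_c u) M)) (Nat.mod (T_c u) M) u) (Nat.ble (nat_lit 11) j)
noncomputable def dp_c_4 (j u : ℕ) : Bool :=
  Bool.rec (motive := fun _ => Bool) (lS MG [T_z, T_ci, T_zi] M (Nat.sub (T_c u) (Nat.mod (T_c u) M)) (nat_lit 40) (Nat.mod (T_c u) M) u) (lS MG [T_f, T_c, T_f, T_c, T_f] M (Nat.sub (T_c u) (Nat.mod (T_c u) M)) (nat_lit 40) (Nat.mod (T_c u) M) u) (Nat.ble (nat_lit 13) j)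
noncomputable def dp_c_5 (j u : ℕ) : Bool :=
  Bool.rec (motive := fun _ => Bool) (dp_c_3 j u) (dp_c_4 j u) (Nat.ble (nat_lit 12) j)
noncomputable def dp_c_6 (j u : ℕ) : Bool :=
  Bool.rec (motive := fun _ => Bool) (dp_c_2 j u) (dp_c_5 j u) (Nat.ble (nat_lit 10) j)
noncomputable def dp_c_7 (j u : ℕ) : Bool :=
  Bool.rec (motive := fun _ => Bool) (lF [T_di, T_f, T_di, T_c, T_di, T_c] M (Nat.sub (T_c u) (Nat.mod (T_c u) M)) (Nat.mod (T_c u) M) u) (lS MG [T_e, T_bi, T_e, T_c, T_e, T_bi, T_z, T_e] M (Nat.sub (T_c u) (Nat.mod (T_c u) M)) (nat_lit 40) (Nat.mod (T_c u) M) u) (Nat.ble (nat_lit 16) j)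
noncomputable def dp_c_8 (j u : ℕ) : Bool :=
  Bool.rec (motive := fun _ => Bool) (lF [T_c, T_di, T_f, T_di, T_c, T_di] M (Nat.sub (T_c u) (Nat.mod (T_c u) M)) (Nat.mod (T_c u) M) u) (dp_c_7 j u) (Nat.ble (nat_lit 15) j)
noncomputable def dp_c_9 (j u : ℕ) : Bool :=
  Bool.rec (motive := fun _ => Bool) (lS MG [T_c, T_c, T_c, T_c] M (Nat.sub (T_c u) (Nat.mod (T_c u) M)) (nat_lit 40) (Nat.mod (T_c u) M) u) (lS MG [T_e, T_bi, T_z, T_e, T_c, T_e, T_bi, T_e] M (Nat.sub (T_c u) (Nat.mod (T_c u) M)) (nat_lit 40) (Nat.mod (T_c u) M) u) (Nat.ble (nat_lit 18) j)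
noncomputable def dp_c_10 (j u : ℕ) : Bool :=
  Bool.rec (motive := fun _ => Bool) (lS MG [T_di, T_c, T_c, T_di, T_f, T_di] M (Nat.sub (T_c u) (Nat.mod (T_c u) M)) (nat_lit 40) (Nat.mod (T_c u) M) u) (lS MG [T_f, T_d, T_b, T_d, T_ci, T_b] M (Nat.sub (T_c u) (Nat.mod (T_c u) M)) (nat_lit 40) (Nat.mod (T_c u) M) u) (Nat.ble (nat_lit 20) j)
noncomputable def dp_c_11 (j u : ℕ) : Bool :=
  Bool.rec (motive := fun _ => Bool) (lF [T_di, T_f, T_e, T_fi, T_d, T_ci, T_e] M (Nat.sub (T_c u) (Nat.mod (T_c u) M)) (Nat.mod (T_c u) M) u) (lS MG [T_di, T_bi, T_di, T_fi, T_ci, T_bi] M (Nat.sub (T_c u) (Nat.mod (T_c u) M)) (nat_lit 40) (Nat.mod (T_c u) M) u) (Nat.ble (nat_lit 22) j)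
noncomputable def dp_c_12 (j u : ℕ) : Bool :=
  Bool.rec (motive := fun _ => Bool) (dp_c_10 j u) (dp_c_11 j u) (Nat.ble (nat_lit 21) j)
noncomputable def dp_c_13 (j u : ℕ) : Bool :=
  Bool.rec (motive := fun _ => Bool) (dp_c_9 j u) (dp_c_12 j u) (Nat.ble (nat_lit 19) j)
noncomputable def dp_c_14 (j u : ℕ) : Bool :=
  Bool.rec (motive := fun _ => Bool) (dp_c_8 j u) (dp_c_13 j u) (Nat.ble (nat_lit 17) j)
noncomputable def dp_c_15 (j u : ℕ) : Bool :=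
  Bool.rec (motive := fun _ => Bool) (lS MG [T_di, T_f, T_di, T_c, T_di, T_c] M (Nat.sub (T_c u) (Nat.mod (T_c u) M)) (nat_lit 40) (Nat.mod (T_c u) M) u) (lF [T_di, T_f, T_ei, T_fi, T_d, T_ci, T_ei] M (Nat.sub (T_c u) (Nat.mod (T_c u) M)) (Nat.mod (T_c u) M) u) (Nat.ble (nat_lit 24) j)
noncomputable def dp_c_16 (j u : ℕ) : Bool :=
  Bool.rec (motive := fun _ => Bool) (lF [T_bi, T_e, T_b, T_ci, T_b, T_b, T_e, T_bi, T_bi] M (Nat.sub (T_c u) (Nat.mod (T_c u) M)) (Nat.mod (T_c u) M) u) (lS MG [T_c, T_di, T_f, T_di, T_c, T_di] M (Nat.sub (T_c u) (Nat.mod (T_c u) M)) (nat_lit 40) (Nat.mod (T_c u) M) u) (Nat.ble (nat_lit 27) j)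
noncomputable def dp_c_17 (j u : ℕ) : Bool :=
  Bool.rec (motive := fun _ => Bool) (lF [T_fi, T_bi, T_di, T_c, T_bi, T_d, T_fi] M (Nat.sub (T_c u) (Nat.mod (T_c u) M)) (Nat.mod (T_c u) M) u) (dp_c_16 j u) (Nat.ble (nat_lit 26) j)
noncomputable def dp_c_18 (j u : ℕ) : Bool :=
  Bool.rec (motive := fun _ => Bool) (dp_c_15 j u) (dp_c_17 j u) (Nat.ble (nat_lit 25) j)
noncomputable def dp_c_19 (j u : ℕ) : Bool :=
  Bool.rec (motive := fun _ => Bool) (lF [T_bi, T_ei, T_b, T_ci, T_b, T_b, T_ei, T_bi, T_bi] M (Nat.sub (T_c u) (Nat.mod (T_c u) M)) (Nat.mod (T_c u) M) u) (lF [T_e, T_bi, T_e, T_c, T_e, T_bi, T_z, T_e] M (Nat.sub (T_c u) (Nat.mod (T_c u) M)) (Nat.mod (T_c u) M) u) (Nat.ble (nat_lit 29) j)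
noncomputable def dp_c_20 (j u : ℕ) : Bool :=
  Bool.rec (motive := fun _ => Bool) (lF [T_e, T_bi, T_z, T_e, T_c, T_e, T_bi, T_e] M (Nat.sub (T_c u) (Nat.mod (T_c u) M)) (Nat.mod (T_c u) M) u) (lS MG [T_di, T_f, T_e, T_fi, T_d, T_ci, T_e] M (Nat.sub (T_c u) (Nat.mod (T_c u) M)) (nat_lit 40) (Nat.mod (T_c u) M) u) (Nat.ble (nat_lit 31) j)
noncomputable def dp_c_21 (j u : ℕ) : Bool :=
  Bool.rec (motive := fun _ => Bool) (dp_c_19 j u) (dp_c_20 j u) (Nat.ble (nat_lit 30) j)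
noncomputable def dp_c_22 (j u : ℕ) : Bool :=
  Bool.rec (motive := fun _ => Bool) (lF [T_b, T_d, T_ci, T_fi, T_fi, T_di, T_bi] M (Nat.sub (T_c u) (Nat.mod (T_c u) M)) (Nat.mod (T_c u) M) u) (lF [T_fi, T_di, T_ci, T_b, T_di, T_f, T_bi] M (Nat.sub (T_c u) (Nat.mod (T_c u) M)) (Nat.mod (T_c u) M) u) (Nat.ble (nat_lit 34) j)
noncomputable def dp_c_23 (j u : ℕ) : Bool :=
  Bool.rec (motive := fun _ => Bool) (lF [T_c, T_di, T_bi, T_c, T_c, T_di, T_bi] M (Nat.sub (T_c u) (Nat.mod (T_c u) M)) (Nat.mod (T_c u) M) u) (dp_c_22 j u) (Nat.ble (nat_lit 33) j)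
noncomputable def dp_c_24 (j u : ℕ) : Bool :=
  Bool.rec (motive := fun _ => Bool) (lF [T_d, T_c, T_bi, T_di, T_c, T_fi, T_b] M (Nat.sub (T_c u) (Nat.mod (T_c u) M)) (Nat.mod (T_c u) M) u) (lF [T_b, T_c, T_d, T_f, T_b, T_di, T_f] M (Nat.sub (T_c u) (Nat.mod (T_c u) M)) (Nat.mod (T_c u) M) u) (Nat.ble (nat_lit 37) j)
noncomputable def dp_c_25 (j u : ℕ) : Bool :=
  Bool.rec (motive := fun _ => Bool) (lF [T_bi, T_ci, T_bi, T_fi, T_d, T_d, T_b] M (Nat.sub (T_c u) (Nat.mod (T_c u) M)) (Nat.mod (T_c u) M) u) (dp_c_24 j u) (Nat.ble (nat_lit 36) j)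
noncomputable def dp_c_26 (j u : ℕ) : Bool :=
  Bool.rec (motive := fun _ => Bool) (dp_c_23 j u) (dp_c_25 j u) (Nat.ble (nat_lit 35) j)
noncomputable def dp_c_27 (j u : ℕ) : Bool :=
  Bool.rec (motive := fun _ => Bool) (dp_c_21 j u) (dp_c_26 j u) (Nat.ble (nat_lit 32) j)
noncomputable def dp_c_28 (j u : ℕ) : Bool :=
  Bool.rec (motive := fun _ => Bool) (dp_c_18 j u) (dp_c_27 j u) (Nat.ble (nat_lit 28) j)
noncomputable def dp_c_29 (j u : ℕ) : Bool :=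
  Bool.rec (motive := fun _ => Bool) (lF [T_di, T_b, T_c, T_di, T_c, T_d, T_bi] M (Nat.sub (T_c u) (Nat.mod (T_c u) M)) (Nat.mod (T_c u) M) u) (lF [T_di, T_di, T_fi, T_c, T_di, T_di, T_fi] M (Nat.sub (T_c u) (Nat.mod (T_c u) M)) (Nat.mod (T_c u) M) u) (Nat.ble (nat_lit 40) j)
noncomputable def dp_c_30 (j u : ℕ) : Bool :=
  Bool.rec (motive := fun _ => Bool) (lF [T_d, T_f, T_b, T_di, T_f, T_c, T_b] M (Nat.sub (T_c u) (Nat.mod (T_c u) M)) (Nat.mod (T_c u) M) u) (dp_c_29 j u) (Nat.ble (nat_lit 39) j)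
noncomputable def dp_c_31 (j u : ℕ) : Bool :=
  Bool.rec (motive := fun _ => Bool) (lF [T_bi, T_fi, T_c, T_d, T_d, T_bi, T_f] M (Nat.sub (T_c u) (Nat.mod (T_c u) M)) (Nat.mod (T_c u) M) u) (lS MG [T_bi, T_e, T_b, T_ci, T_b, T_b, T_e, T_bi, T_bi] M (Nat.sub (T_c u) (Nat.mod (T_c u) M)) (nat_lit 40) (Nat.mod (T_c u) M) u) (Nat.ble (nat_lit 42) j)
noncomputable def dp_c_32 (j u : ℕ) : Bool :=
  Bool.rec (motive := fun _ => Bool) (lF [T_fi, T_b, T_c, T_d, T_c, T_bi, T_di] M (Nat.sub (T_c u) (Nat.mod (T_c u) M)) (Nat.mod (T_c u) M) u) (lF [T_b, T_ci, T_bi, T_di, T_di, T_f, T_b] M (Nat.sub (T_c u) (Nat.mod (T_c u) M)) (Nat.mod (T_c u) M) u) (Nat.ble (nat_lit 44) j)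
noncomputable def dp_c_33 (j u : ℕ) : Bool :=
  Bool.rec (motive := fun _ => Bool) (dp_c_31 j u) (dp_c_32 j u) (Nat.ble (nat_lit 43) j)
noncomputable def dp_c_34 (j u : ℕ) : Bool :=
  Bool.rec (motive := fun _ => Bool) (dp_c_30 j u) (dp_c_33 j u) (Nat.ble (nat_lit 41) j)
noncomputable def dp_c_35 (j u : ℕ) : Bool :=
  Bool.rec (motive := fun _ => Bool) (lF [T_b, T_ci, T_di, T_c, T_b, T_ci, T_di] M (Nat.sub (T_c u) (Nat.mod (T_c u) M)) (Nat.mod (T_c u) M) u) (lF [T_d, T_bi, T_c, T_di, T_b, T_c, T_di] M (Nat.sub (T_c u) (Nat.mod (T_c u) M)) (Nat.mod (T_c u) M) u) (Nat.ble (nat_lit 46) j)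
noncomputable def dp_c_36 (j u : ℕ) : Bool :=
  Bool.rec (motive := fun _ => Bool) (lF [T_bi, T_di, T_ci, T_bi, T_di, T_fi, T_b] M (Nat.sub (T_c u) (Nat.mod (T_c u) M)) (Nat.mod (T_c u) M) u) (lF [T_d, T_e, T_d, T_fi, T_fi, T_ci, T_di, T_ei, T_ci, T_fi] M (Nat.sub (T_c u) (Nat.mod (T_c u) M)) (Nat.mod (T_c u) M) u) (Nat.ble (nat_lit 48) j)
noncomputable def dp_c_37 (j u : ℕ) : Bool :=
  Bool.rec (motive := fun _ => Bool) (dp_c_35 j u) (dp_c_36 j u) (Nat.ble (nat_lit 47) j)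
noncomputable def dp_c_38 (j u : ℕ) : Bool :=
  Bool.rec (motive := fun _ => Bool) (lF [T_bi, T_di, T_c, T_fi, T_b, T_c, T_d] M (Nat.sub (T_c u) (Nat.mod (T_c u) M)) (Nat.mod (T_c u) M) u) (lS MG [T_di, T_f, T_ei, T_fi, T_d, T_ci, T_ei] M (Nat.sub (T_c u) (Nat.mod (T_c u) M)) (nat_lit 40) (Nat.mod (T_c u) M) u) (Nat.ble (nat_lit 50) j)
noncomputable def dp_c_39 (j u : ℕ) : Bool :=
  Bool.rec (motive := fun _ => Bool) (lF [T_d, T_bi, T_c, T_fi, T_di, T_b, T_c] M (Nat.sub (T_c u) (Nat.mod (T_c u) M)) (Nat.mod (T_c u) M) u) (lF [T_di, T_bi, T_ci, T_b, T_d, T_f, T_f] M (Nat.sub (T_c u) (Nat.mod (T_c u) M)) (Nat.mod (T_c u) M) u) (Nat.ble (nat_lit 53) j)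
noncomputable def dp_c_40 (j u : ℕ) : Bool :=
  Bool.rec (motive := fun _ => Bool) (lF [T_d, T_d, T_bi, T_f, T_c, T_bi, T_fi] M (Nat.sub (T_c u) (Nat.mod (T_c u) M)) (Nat.mod (T_c u) M) u) (dp_c_39 j u) (Nat.ble (nat_lit 52) j)
noncomputable def dp_c_41 (j u : ℕ) : Bool :=
  Bool.rec (motive := fun _ => Bool) (dp_c_38 j u) (dp_c_40 j u) (Nat.ble (nat_lit 51) j)
noncomputable def dp_c_42 (j u : ℕ) : Bool :=
  Bool.rec (motive := fun _ => Bool) (dp_c_37 j u) (dp_c_41 j u) (Nat.ble (nat_lit 49) j)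
noncomputable def dp_c_43 (j u : ℕ) : Bool :=
  Bool.rec (motive := fun _ => Bool) (dp_c_34 j u) (dp_c_42 j u) (Nat.ble (nat_lit 45) j)
noncomputable def dp_c_44 (j u : ℕ) : Bool :=
  Bool.rec (motive := fun _ => Bool) (lF [T_di, T_c, T_d, T_bi, T_c, T_di, T_b] M (Nat.sub (T_c u) (Nat.mod (T_c u) M)) (Nat.mod (T_c u) M) u) (lF [T_fi, T_di, T_b, T_c, T_c, T_d, T_bi] M (Nat.sub (T_c u) (Nat.mod (T_c u) M)) (Nat.mod (T_c u) M) u) (Nat.ble (nat_lit 56) j)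
noncomputable def dp_c_45 (j u : ℕ) : Bool :=
  Bool.rec (motive := fun _ => Bool) (lF [T_bi, T_ci, T_d, T_c, T_bi, T_ci, T_d] M (Nat.sub (T_c u) (Nat.mod (T_c u) M)) (Nat.mod (T_c u) M) u) (dp_c_44 j u) (Nat.ble (nat_lit 55) j)
noncomputable def dp_c_46 (j u : ℕ) : Bool :=
  Bool.rec (motive := fun _ => Bool) (lF [T_fi, T_bi, T_c, T_f, T_b, T_fi, T_c] M (Nat.sub (T_c u) (Nat.mod (T_c u) M)) (Nat.mod (T_c u) M) u) (lF [T_di, T_bi, T_c, T_c, T_di, T_bi, T_c] M (Nat.sub (T_c u) (Nat.mod (T_c u) M)) (Nat.mod (T_c u) M) u) (Nat.ble (nat_lit 58) j)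
noncomputable def dp_c_47 (j u : ℕ) : Bool :=
  Bool.rec (motive := fun _ => Bool) (lF [T_bi, T_c, T_bi, T_c, T_bi, T_c, T_bi] M (Nat.sub (T_c u) (Nat.mod (T_c u) M)) (Nat.mod (T_c u) M) u) (lS MG [T_di, T_di, T_fi, T_c, T_di, T_di, T_fi] M (Nat.sub (T_c u) (Nat.mod (T_c u) M)) (nat_lit 40) (Nat.mod (T_c u) M) u) (Nat.ble (nat_lit 60) j)
noncomputable def dp_c_48 (j u : ℕ) : Bool :=
  Bool.rec (motive := fun _ => Bool) (dp_c_46 j u) (dp_c_47 j u) (Nat.ble (nat_lit 59) j)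
noncomputable def dp_c_49 (j u : ℕ) : Bool :=
  Bool.rec (motive := fun _ => Bool) (dp_c_45 j u) (dp_c_48 j u) (Nat.ble (nat_lit 57) j)
noncomputable def dp_c_50 (j u : ℕ) : Bool :=
  Bool.rec (motive := fun _ => Bool) (lS MG [T_b, T_c, T_d, T_f, T_b, T_di, T_f] M (Nat.sub (T_c u) (Nat.mod (T_c u) M)) (nat_lit 40) (Nat.mod (T_c u) M) u) (lF [T_f, T_b, T_fi, T_c, T_c, T_fi, T_bi] M (Nat.sub (T_c u) (Nat.mod (T_c u) M)) (Nat.mod (T_c u) M) u) (Nat.ble (nat_lit 62) j)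
noncomputable def dp_c_51 (j u : ℕ) : Bool :=
  Bool.rec (motive := fun _ => Bool) (lF [T_c, T_d, T_bi, T_c, T_fi, T_di, T_b] M (Nat.sub (T_c u) (Nat.mod (T_c u) M)) (Nat.mod (T_c u) M) u) (lF [T_d, T_b, T_ci, T_bi, T_f, T_d, T_b] M (Nat.sub (T_c u) (Nat.mod (T_c u) M)) (Nat.mod (T_c u) M) u) (Nat.ble (nat_lit 64) j)
noncomputable def dp_c_52 (j u : ℕ) : Bool :=
  Bool.rec (motive := fun _ => Bool) (dp_c_50 j u) (dp_c_51 j u) (Nat.ble (nat_lit 63) j)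
noncomputable def dp_c_53 (j u : ℕ) : Bool :=
  Bool.rec (motive := fun _ => Bool) (lS MG [T_b, T_ci, T_bi, T_di, T_di, T_f, T_b] M (Nat.sub (T_c u) (Nat.mod (T_c u) M)) (nat_lit 40) (Nat.mod (T_c u) M) u) (lS MG [T_d, T_bi, T_c, T_fi, T_di, T_b, T_c] M (Nat.sub (T_c u) (Nat.mod (T_c u) M)) (nat_lit 40) (Nat.mod (T_c u) M) u) (Nat.ble (nat_lit 66) j)
noncomputable def dp_c_54 (j u : ℕ) : Bool :=
  Bool.rec (motive := fun _ => Bool) (lS MG [T_di, T_bi, T_ci, T_b, T_d, T_f, T_f] M (Nat.sub (T_c u) (Nat.mod (T_c u) M)) (nat_lit 40) (Nat.mod (T_c u) M) u) (lF [T_d, T_ci, T_b, T_b, T_di, T_fi, T_bi, T_c] M (Nat.sub (T_c u) (Nat.mod (T_c u) M)) (Nat.mod (T_c u) M) u) (Nat.ble (nat_lit 68) j)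
noncomputable def dp_c_55 (j u : ℕ) : Bool :=
  Bool.rec (motive := fun _ => Bool) (dp_c_53 j u) (dp_c_54 j u) (Nat.ble (nat_lit 67) j)
noncomputable def dp_c_56 (j u : ℕ) : Bool :=
  Bool.rec (motive := fun _ => Bool) (dp_c_52 j u) (dp_c_55 j u) (Nat.ble (nat_lit 65) j)
noncomputable def dp_c_57 (j u : ℕ) : Bool :=
  Bool.rec (motive := fun _ => Bool) (dp_c_49 j u) (dp_c_56 j u) (Nat.ble (nat_lit 61) j)
noncomputable def dp_c_58 (j u : ℕ) : Bool :=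
  Bool.rec (motive := fun _ => Bool) (lF [T_di, T_b, T_f, T_c, T_di, T_b, T_f] M (Nat.sub (T_c u) (Nat.mod (T_c u) M)) (Nat.mod (T_c u) M) u) (lS MG [T_bi, T_fi, T_c, T_d, T_d, T_bi, T_f] M (Nat.sub (T_c u) (Nat.mod (T_c u) M)) (nat_lit 40) (Nat.mod (T_c u) M) u) (Nat.ble (nat_lit 71) j)
noncomputable def dp_c_59 (j u : ℕ) : Bool :=
  Bool.rec (motive := fun _ => Bool) (lF [T_b, T_f, T_d, T_d, T_b, T_fi, T_d] M (Nat.sub (T_c u) (Nat.mod (T_c u) M)) (Nat.mod (T_c u) M) u) (dp_c_58 j u) (Nat.ble (nat_lit 70) j)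
noncomputable def dp_c_60 (j u : ℕ) : Bool :=
  Bool.rec (motive := fun _ => Bool) (lS MG [T_fi, T_bi, T_di, T_c, T_bi, T_d, T_fi] M (Nat.sub (T_c u) (Nat.mod (T_c u) M)) (nat_lit 40) (Nat.mod (T_c u) M) u) (lS MG [T_b, T_f, T_d, T_d, T_b, T_fi, T_d] M (Nat.sub (T_c u) (Nat.mod (T_c u) M)) (nat_lit 40) (Nat.mod (T_c u) M) u) (Nat.ble (nat_lit 74) j)
noncomputable def dp_c_61 (j u : ℕ) : Bool :=
  Bool.rec (motive := fun _ => Bool) (lF [T_d, T_f, T_ci, T_b, T_fi, T_d, T_bi] M (Nat.sub (T_c u) (Nat.mod (T_c u) M)) (Nat.mod (T_c u) M) u) (dp_c_60 j u) (Nat.ble (nat_lit 73) j)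
noncomputable def dp_c_62 (j u : ℕ) : Bool :=
  Bool.rec (motive := fun _ => Bool) (dp_c_59 j u) (dp_c_61 j u) (Nat.ble (nat_lit 72) j)
noncomputable def dp_c_63 (j u : ℕ) : Bool :=
  Bool.rec (motive := fun _ => Bool) (lS MG [T_fi, T_di, T_b, T_c, T_c, T_d, T_bi] M (Nat.sub (T_c u) (Nat.mod (T_c u) M)) (nat_lit 40) (Nat.mod (T_c u) M) u) (lS MG [T_d, T_f, T_b, T_di, T_f, T_c, T_b] M (Nat.sub (T_c u) (Nat.mod (T_c u) M)) (nat_lit 40) (Nat.mod (T_c u) M) u) (Nat.ble (nat_lit 77) j)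
noncomputable def dp_c_64 (j u : ℕ) : Bool :=
  Bool.rec (motive := fun _ => Bool) (lS MG [T_bi, T_d, T_fi, T_c, T_fi, T_bi, T_di] M (Nat.sub (T_c u) (Nat.mod (T_c u) M)) (nat_lit 40) (Nat.mod (T_c u) M) u) (dp_c_63 j u) (Nat.ble (nat_lit 76) j)
noncomputable def dp_c_65 (j u : ℕ) : Bool :=
  Bool.rec (motive := fun _ => Bool) (lS MG [T_di, T_b, T_c, T_di, T_c, T_d, T_bi] M (Nat.sub (T_c u) (Nat.mod (T_c u) M)) (nat_lit 40) (Nat.mod (T_c u) M) u) (lS MG [T_bi, T_ei, T_b, T_ci, T_b, T_b, T_ei, T_bi, T_bi] M (Nat.sub (T_c u) (Nat.mod (T_c u) M)) (nat_lit 40) (Nat.mod (T_c u) M) u) (Nat.ble (nat_lit 79) j)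
noncomputable def dp_c_66 (j u : ℕ) : Bool :=
  Bool.rec (motive := fun _ => Bool) (lS MG [T_f, T_b, T_fi, T_c, T_c, T_fi, T_bi] M (Nat.sub (T_c u) (Nat.mod (T_c u) M)) (nat_lit 40) (Nat.mod (T_c u) M) u) (lS MG [T_di, T_b, T_f, T_c, T_di, T_b, T_f] M (Nat.sub (T_c u) (Nat.mod (T_c u) M)) (nat_lit 40) (Nat.mod (T_c u) M) u) (Nat.ble (nat_lit 81) j)
noncomputable def dp_c_67 (j u : ℕ) : Bool :=
  Bool.rec (motive := fun _ => Bool) (dp_c_65 j u) (dp_c_66 j u) (Nat.ble (nat_lit 80) j)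
noncomputable def dp_c_68 (j u : ℕ) : Bool :=
  Bool.rec (motive := fun _ => Bool) (dp_c_64 j u) (dp_c_67 j u) (Nat.ble (nat_lit 78) j)
noncomputable def dp_c_69 (j u : ℕ) : Bool :=
  Bool.rec (motive := fun _ => Bool) (dp_c_62 j u) (dp_c_68 j u) (Nat.ble (nat_lit 75) j)
noncomputable def dp_c_70 (j u : ℕ) : Bool :=
  Bool.rec (motive := fun _ => Bool) (lS MG [T_c, T_di, T_bi, T_c, T_c, T_di, T_bi] M (Nat.sub (T_c u) (Nat.mod (T_c u) M)) (nat_lit 40) (Nat.mod (T_c u) M) u) (lS MG [T_c, T_fi, T_bi, T_c, T_f, T_b, T_fi] M (Nat.sub (T_c u) (Nat.mod (T_c u) M)) (nat_lit 40) (Nat.mod (T_c u) M) u) (Nat.ble (nat_lit 83) j)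
noncomputable def dp_c_71 (j u : ℕ) : Bool :=
  Bool.rec (motive := fun _ => Bool) (lS MG [T_bi, T_di, T_ci, T_bi, T_di, T_fi, T_b] M (Nat.sub (T_c u) (Nat.mod (T_c u) M)) (nat_lit 40) (Nat.mod (T_c u) M) u) (lF [T_e, T_ci, T_bi, T_di, T_c, T_ei, T_ci, T_d, T_b] M (Nat.sub (T_c u) (Nat.mod (T_c u) M)) (Nat.mod (T_c u) M) u) (Nat.ble (nat_lit 85) j)
noncomputable def dp_c_72 (j u : ℕ) : Bool :=
  Bool.rec (motive := fun _ => Bool) (dp_c_70 j u) (dp_c_71 j u) (Nat.ble (nat_lit 84) j)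
noncomputable def dp_c_73 (j u : ℕ) : Bool :=
  Bool.rec (motive := fun _ => Bool) (lS MG [T_fi, T_b, T_c, T_d, T_c, T_bi, T_di] M (Nat.sub (T_c u) (Nat.mod (T_c u) M)) (nat_lit 40) (Nat.mod (T_c u) M) u) (lS MG [T_bi, T_c, T_bi, T_c, T_bi, T_c, T_bi] M (Nat.sub (T_c u) (Nat.mod (T_c u) M)) (nat_lit 40) (Nat.mod (T_c u) M) u) (Nat.ble (nat_lit 87) j)
noncomputable def dp_c_74 (j u : ℕ) : Bool :=
  Bool.rec (motive := fun _ => Bool) (lF [T_bi, T_d, T_fi, T_c, T_fi, T_bi, T_di] M (Nat.sub (T_c u) (Nat.mod (T_c u) M)) (Nat.mod (T_c u) M) u) (lF [T_c, T_d, T_ci, T_b, T_b, T_di, T_fi, T_bi] M (Nat.sub (T_c u) (Nat.mod (T_c u) M)) (Nat.mod (T_c u) M) u) (Nat.ble (nat_lit 91) j)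
noncomputable def dp_c_75 (j u : ℕ) : Bool :=
  Bool.rec (motive := fun _ => Bool) (lH [] [] M (Nat.sub (T_c u) (Nat.mod (T_c u) M)) (Nat.mod (T_c u) M) u) (dp_c_74 j u) (Nat.ble (nat_lit 90) j)
noncomputable def dp_c_76 (j u : ℕ) : Bool :=
  Bool.rec (motive := fun _ => Bool) (lF [T_bi, T_ci, T_b, T_b, T_di, T_f, T_b, T_d] M (Nat.sub (T_c u) (Nat.mod (T_c u) M)) (Nat.mod (T_c u) M) u) (dp_c_75 j u) (Nat.ble (nat_lit 89) j)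
noncomputable def dp_c_77 (j u : ℕ) : Bool :=
  Bool.rec (motive := fun _ => Bool) (dp_c_73 j u) (dp_c_76 j u) (Nat.ble (nat_lit 88) j)
noncomputable def dp_c_78 (j u : ℕ) : Bool :=
  Bool.rec (motive := fun _ => Bool) (dp_c_72 j u) (dp_c_77 j u) (Nat.ble (nat_lit 86) j)
noncomputable def dp_c_79 (j u : ℕ) : Bool :=
  Bool.rec (motive := fun _ => Bool) (lF [T_f, T_ci, T_b, T_d, T_ci, T_f, T_c, T_di, T_bi] M (Nat.sub (T_c u) (Nat.mod (T_c u) M)) (Nat.mod (T_c u) M) u) (lS MG [T_d, T_f, T_ci, T_b, T_fi, T_d, T_bi] M (Nat.sub (T_c u) (Nat.mod (T_c u) M)) (nat_lit 40) (Nat.mod (T_c u) M) u) (Nat.ble (nat_lit 93) j)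
noncomputable def dp_c_80 (j u : ℕ) : Bool :=
  Bool.rec (motive := fun _ => Bool) (lF [T_f, T_f, T_di, T_ei, T_di, T_ci, T_f, T_c, T_e, T_d] M (Nat.sub (T_c u) (Nat.mod (T_c u) M)) (Nat.mod (T_c u) M) u) (lS MG [T_di, T_bi, T_c, T_fi, T_ci, T_b, T_d, T_ci, T_fi] M (Nat.sub (T_c u) (Nat.mod (T_c u) M)) (nat_lit 40) (Nat.mod (T_c u) M) u) (Nat.ble (nat_lit 95) j)
noncomputable def dp_c_81 (j u : ℕ) : Bool :=
  Bool.rec (motive := fun _ => Bool) (dp_c_79 j u) (dp_c_80 j u) (Nat.ble (nat_lit 94) j)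
noncomputable def dp_c_82 (j u : ℕ) : Bool :=
  Bool.rec (motive := fun _ => Bool) (lF [T_e, T_d, T_c, T_f, T_f, T_di, T_ei, T_di, T_ci, T_f] M (Nat.sub (T_c u) (Nat.mod (T_c u) M)) (Nat.mod (T_c u) M) u) (lS MG [T_bi, T_ci, T_d, T_c, T_bi, T_ci, T_d] M (Nat.sub (T_c u) (Nat.mod (T_c u) M)) (nat_lit 40) (Nat.mod (T_c u) M) u) (Nat.ble (nat_lit 97) j)
noncomputable def dp_c_83 (j u : ℕ) : Bool :=
  Bool.rec (motive := fun _ => Bool) (lF [T_e, T_ci, T_d, T_b, T_c, T_ei, T_ci, T_bi, T_di] M (Nat.sub (T_c u) (Nat.mod (T_c u) M)) (Nat.mod (T_c u) M) u) (lS MG [T_ei, T_ci, T_bi, T_di, T_c, T_e, T_ci, T_d, T_b] M (Nat.sub (T_c u) (Nat.mod (T_c u) M)) (nat_lit 40) (Nat.mod (T_c u) M) u) (Nat.ble (nat_lit 100) j)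
noncomputable def dp_c_84 (j u : ℕ) : Bool :=
  Bool.rec (motive := fun _ => Bool) (lS MG [T_bi, T_bi, T_bi, T_fi, T_ci, T_d, T_b, T_b] M (Nat.sub (T_c u) (Nat.mod (T_c u) M)) (nat_lit 40) (Nat.mod (T_c u) M) u) (dp_c_83 j u) (Nat.ble (nat_lit 99) j)
noncomputable def dp_c_85 (j u : ℕ) : Bool :=
  Bool.rec (motive := fun _ => Bool) (dp_c_82 j u) (dp_c_84 j u) (Nat.ble (nat_lit 98) j)
noncomputable def dp_c_86 (j u : ℕ) : Bool :=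
  Bool.rec (motive := fun _ => Bool) (dp_c_81 j u) (dp_c_85 j u) (Nat.ble (nat_lit 96) j)
noncomputable def dp_c_87 (j u : ℕ) : Bool :=
  Bool.rec (motive := fun _ => Bool) (lS MG [T_d, T_d, T_bi, T_f, T_c, T_bi, T_fi] M (Nat.sub (T_c u) (Nat.mod (T_c u) M)) (nat_lit 40) (Nat.mod (T_c u) M) u) (lS MG [T_c, T_d, T_bi, T_c, T_fi, T_di, T_b] M (Nat.sub (T_c u) (Nat.mod (T_c u) M)) (nat_lit 40) (Nat.mod (T_c u) M) u) (Nat.ble (nat_lit 102) j)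
noncomputable def dp_c_88 (j u : ℕ) : Bool :=
  Bool.rec (motive := fun _ => Bool) (lF [T_c, T_fi, T_bi, T_c, T_f, T_b, T_fi] M (Nat.sub (T_c u) (Nat.mod (T_c u) M)) (Nat.mod (T_c u) M) u) (lS MG [T_d, T_c, T_bi, T_di, T_c, T_fi, T_b] M (Nat.sub (T_c u) (Nat.mod (T_c u) M)) (nat_lit 40) (Nat.mod (T_c u) M) u) (Nat.ble (nat_lit 104) j)
noncomputable def dp_c_89 (j u : ℕ) : Bool :=
  Bool.rec (motive := fun _ => Bool) (dp_c_87 j u) (dp_c_88 j u) (Nat.ble (nat_lit 103) j)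
noncomputable def dp_c_90 (j u : ℕ) : Bool :=
  Bool.rec (motive := fun _ => Bool) (lS MG [T_bi, T_ci, T_bi, T_fi, T_d, T_d, T_b] M (Nat.sub (T_c u) (Nat.mod (T_c u) M)) (nat_lit 40) (Nat.mod (T_c u) M) u) (lS MG [T_e, T_ci, T_d, T_b, T_c, T_ei, T_ci, T_bi, T_di] M (Nat.sub (T_c u) (Nat.mod (T_c u) M)) (nat_lit 40) (Nat.mod (T_c u) M) u) (Nat.ble (nat_lit 106) j)
noncomputable def dp_c_91 (j u : ℕ) : Bool :=
  Bool.rec (motive := fun _ => Bool) (lS MG [T_di, T_bi, T_c, T_c, T_di, T_bi, T_c] M (Nat.sub (T_c u) (Nat.mod (T_c u) M)) (nat_lit 40) (Nat.mod (T_c u) M) u) (lF [T_ei, T_ci, T_d, T_b, T_c, T_e, T_ci, T_bi, T_di] M (Nat.sub (T_c u) (Nat.mod (T_c u) M)) (Nat.mod (T_c u) M) u) (Nat.ble (nat_lit 109) j)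
noncomputable def dp_c_92 (j u : ℕ) : Bool :=
  Bool.rec (motive := fun _ => Bool) (lS MG [T_b, T_ci, T_di, T_c, T_b, T_ci, T_di] M (Nat.sub (T_c u) (Nat.mod (T_c u) M)) (nat_lit 40) (Nat.mod (T_c u) M) u) (dp_c_91 j u) (Nat.ble (nat_lit 108) j)
noncomputable def dp_c_93 (j u : ℕ) : Bool :=
  Bool.rec (motive := fun _ => Bool) (dp_c_90 j u) (dp_c_92 j u) (Nat.ble (nat_lit 107) j)
noncomputable def dp_c_94 (j u : ℕ) : Bool :=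
  Bool.rec (motive := fun _ => Bool) (dp_c_89 j u) (dp_c_93 j u) (Nat.ble (nat_lit 105) j)
noncomputable def dp_c_95 (j u : ℕ) : Bool :=
  Bool.rec (motive := fun _ => Bool) (dp_c_86 j u) (dp_c_94 j u) (Nat.ble (nat_lit 101) j)
noncomputable def dp_c_96 (j u : ℕ) : Bool :=
  Bool.rec (motive := fun _ => Bool) (dp_c_78 j u) (dp_c_95 j u) (Nat.ble (nat_lit 92) j)
noncomputable def dp_c_97 (j u : ℕ) : Bool :=
  Bool.rec (motive := fun _ => Bool) (dp_c_69 j u) (dp_c_96 j u) (Nat.ble (nat_lit 82) j)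
noncomputable def dp_c_98 (j u : ℕ) : Bool :=
  Bool.rec (motive := fun _ => Bool) (dp_c_57 j u) (dp_c_97 j u) (Nat.ble (nat_lit 69) j)
noncomputable def dp_c_99 (j u : ℕ) : Bool :=
  Bool.rec (motive := fun _ => Bool) (dp_c_43 j u) (dp_c_98 j u) (Nat.ble (nat_lit 54) j)
noncomputable def dp_c_100 (j u : ℕ) : Bool :=
  Bool.rec (motive := fun _ => Bool) (dp_c_28 j u) (dp_c_99 j u) (Nat.ble (nat_lit 38) j)
noncomputable def dp_c_101 (j u : ℕ) : Bool :=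
  Bool.rec (motive := fun _ => Bool) (dp_c_14 j u) (dp_c_100 j u) (Nat.ble (nat_lit 23) j)
noncomputable def dp_c_102 (j u : ℕ) : Bool :=
  Bool.rec (motive := fun _ => Bool) (dp_c_6 j u) (dp_c_101 j u) (Nat.ble (nat_lit 14) j)
noncomputable def dp_c_103 (j u : ℕ) : Bool :=
  Bool.rec (motive := fun _ => Bool) (dp_c_1 j u) (dp_c_102 j u) (Nat.ble (nat_lit 8) j)
noncomputable def dp_c_104 (j u : ℕ) : Bool :=
  Bool.rec (motive := fun _ => Bool) (Bool.rec (motive := fun _ => Bool) (lS MG [T_ci] M (Nat.sub (T_c u) (Nat.mod (T_c u) M)) (nat_lit 40) (Nat.mod (T_c u) M) u) (lF3 T_zi T_ci T_z M (Nat.sub (T_c u) (Nat.mod (T_c u) M)) (Nat.mod (T_c u) M) u) (Nat.ble (nat_lit 4) j)) (dp_c_103 j u) (Nat.ble (nat_lit 5) j)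
noncomputable def disp_c (j u : ℕ) : Bool :=
  Bool.rec (motive := fun _ => Bool) (Bool.rec (motive := fun _ => Bool) (lF1 T_ci M (Nat.sub (T_c u) (Nat.mod (T_c u) M)) (Nat.mod (T_c u) M) u) (Bool.rec (motive := fun _ => Bool) (lDef P (nat_lit 4) (Nat.mod (T_c u) M) u) (lDef P (nat_lit 5) u (Nat.mod (T_c u) M)) (Nat.ble (nat_lit 2) j)) (Nat.ble (nat_lit 1) j)) (dp_c_104 j u) (Nat.ble (nat_lit 3) j)
noncomputable def chk_c (j u : ℕ) : Bool :=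
  Bool.rec (motive := fun _ => Bool) (disp_c j u) (Nat.ble (Nat.succ (MG u)) A) (Nat.ble A (T_c u))
noncomputable def dp_ci_0 (j u : ℕ) : Bool :=
  Bool.rec (motive := fun _ => Bool) (lS MG [T_z, T_c, T_zi] M (Nat.sub (T_ci u) (Nat.mod (T_ci u) M)) (nat_lit 40) (Nat.mod (T_ci u) M) u) (lF [T_d, T_fi, T_d, T_ci, T_ci, T_d] M (Nat.sub (T_ci u) (Nat.mod (T_ci u) M)) (Nat.mod (T_ci u) M) u) (Nat.ble (nat_lit 9) j)
noncomputable def dp_ci_1 (j u : ℕ) : Bool :=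
  Bool.rec (motive := fun _ => Bool) (lF [T_ci, T_ci, T_ci, T_ci] M (Nat.sub (T_ci u) (Nat.mod (T_ci u) M)) (Nat.mod (T_ci u) M) u) (dp_ci_0 j u) (Nat.ble (nat_lit 8) j)
noncomputable def dp_ci_2 (j u : ℕ) : Bool :=
  Bool.rec (motive := fun _ => Bool) (lF [T_fi, T_ci, T_fi, T_ci, T_fi] M (Nat.sub (T_ci u) (Nat.mod (T_ci u) M)) (Nat.mod (T_ci u) M) u) (dp_ci_1 j u) (Nat.ble (nat_lit 7) j)
noncomputable def dp_ci_3 (j u : ℕ) : Bool :=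
  Bool.rec (motive := fun _ => Bool) (lF [T_b, T_c, T_f, T_d, T_b, T_d] M (Nat.sub (T_ci u) (Nat.mod (T_ci u) M)) (Nat.mod (T_ci u) M) u) (lF [T_d, T_ci, T_d, T_fi, T_d, T_ci] M (Nat.sub (T_ci u) (Nat.mod (T_ci u) M)) (Nat.mod (T_ci u) M) u) (Nat.ble (nat_lit 12) j)
noncomputable def dp_ci_4 (j u : ℕ) : Bool :=
  Bool.rec (motive := fun _ => Bool) (lF [T_bi, T_c, T_di, T_bi, T_di, T_fi] M (Nat.sub (T_ci u) (Nat.mod (T_ci u) M)) (Nat.mod (T_ci u) M) u) (dp_ci_3 j u) (Nat.ble (nat_lit 11) j)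
noncomputable def dp_ci_5 (j u : ℕ) : Bool :=
  Bool.rec (motive := fun _ => Bool) (lF [T_ci, T_d, T_ci, T_d, T_fi, T_d] M (Nat.sub (T_ci u) (Nat.mod (T_ci u) M)) (Nat.mod (T_ci u) M) u) (lS MG [T_fi, T_ci, T_fi, T_ci, T_fi] M (Nat.sub (T_ci u) (Nat.mod (T_ci u) M)) (nat_lit 40) (Nat.mod (T_ci u) M) u) (Nat.ble (nat_lit 14) j)
noncomputable def dp_ci_6 (j u : ℕ) : Bool :=
  Bool.rec (motive := fun _ => Bool) (lS MG [T_zi, T_c, T_z] M (Nat.sub (T_ci u) (Nat.mod (T_ci u) M)) (nat_lit 40) (Nat.mod (T_ci u) M) u) (lS MG [T_ci, T_ci, T_ci, T_ci] M (Nat.sub (T_ci u) (Nat.mod (T_ci u) M)) (nat_lit 40) (Nat.mod (T_ci u) M) u) (Nat.ble (nat_lit 16) j)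
noncomputable def dp_ci_7 (j u : ℕ) : Bool :=
  Bool.rec (motive := fun _ => Bool) (dp_ci_5 j u) (dp_ci_6 j u) (Nat.ble (nat_lit 15) j)
noncomputable def dp_ci_8 (j u : ℕ) : Bool :=
  Bool.rec (motive := fun _ => Bool) (dp_ci_4 j u) (dp_ci_7 j u) (Nat.ble (nat_lit 13) j)
noncomputable def dp_ci_9 (j u : ℕ) : Bool :=
  Bool.rec (motive := fun _ => Bool) (lS MG [T_d, T_fi, T_d, T_ci, T_ci, T_d] M (Nat.sub (T_ci u) (Nat.mod (T_ci u) M)) (nat_lit 40) (Nat.mod (T_ci u) M) u) (lS MG [T_b, T_c, T_f, T_d, T_b, T_d] M (Nat.sub (T_ci u) (Nat.mod (T_ci u) M)) (nat_lit 40) (Nat.mod (T_ci u) M) u) (Nat.ble (nat_lit 20) j)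
noncomputable def dp_ci_10 (j u : ℕ) : Bool :=
  Bool.rec (motive := fun _ => Bool) (lS MG [T_ei, T_zi, T_b, T_ei, T_ci, T_ei, T_b, T_ei] M (Nat.sub (T_ci u) (Nat.mod (T_ci u) M)) (nat_lit 40) (Nat.mod (T_ci u) M) u) (dp_ci_9 j u) (Nat.ble (nat_lit 19) j)
noncomputable def dp_ci_11 (j u : ℕ) : Bool :=
  Bool.rec (motive := fun _ => Bool) (lS MG [T_ei, T_b, T_ei, T_ci, T_ei, T_zi, T_b, T_ei] M (Nat.sub (T_ci u) (Nat.mod (T_ci u) M)) (nat_lit 40) (Nat.mod (T_ci u) M) u) (dp_ci_10 j u) (Nat.ble (nat_lit 18) j)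
noncomputable def dp_ci_12 (j u : ℕ) : Bool :=
  Bool.rec (motive := fun _ => Bool) (lF [T_b, T_b, T_ei, T_bi, T_bi, T_c, T_bi, T_ei, T_b] M (Nat.sub (T_ci u) (Nat.mod (T_ci u) M)) (Nat.mod (T_ci u) M) u) (lF [T_e, T_c, T_di, T_f, T_e, T_fi, T_d] M (Nat.sub (T_ci u) (Nat.mod (T_ci u) M)) (Nat.mod (T_ci u) M) u) (Nat.ble (nat_lit 22) j)
noncomputable def dp_ci_13 (j u : ℕ) : Bool :=
  Bool.rec (motive := fun _ => Bool) (lS MG [T_bi, T_c, T_di, T_bi, T_di, T_fi] M (Nat.sub (T_ci u) (Nat.mod (T_ci u) M)) (nat_lit 40) (Nat.mod (T_ci u) M) u) (lS MG [T_e, T_c, T_di, T_f, T_e, T_fi, T_d] M (Nat.sub (T_ci u) (Nat.mod (T_ci u) M)) (nat_lit 40) (Nat.mod (T_ci u) M) u) (Nat.ble (nat_lit 24) j)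
noncomputable def dp_ci_14 (j u : ℕ) : Bool :=
  Bool.rec (motive := fun _ => Bool) (dp_ci_12 j u) (dp_ci_13 j u) (Nat.ble (nat_lit 23) j)
noncomputable def dp_ci_15 (j u : ℕ) : Bool :=
  Bool.rec (motive := fun _ => Bool) (lF [T_b, T_b, T_e, T_bi, T_bi, T_c, T_bi, T_e, T_b] M (Nat.sub (T_ci u) (Nat.mod (T_ci u) M)) (Nat.mod (T_ci u) M) u) (lS MG [T_d, T_ci, T_d, T_fi, T_d, T_ci] M (Nat.sub (T_ci u) (Nat.mod (T_ci u) M)) (nat_lit 40) (Nat.mod (T_ci u) M) u) (Nat.ble (nat_lit 26) j)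
noncomputable def dp_ci_16 (j u : ℕ) : Bool :=
  Bool.rec (motive := fun _ => Bool) (lF [T_f, T_di, T_b, T_ci, T_d, T_b, T_f] M (Nat.sub (T_ci u) (Nat.mod (T_ci u) M)) (Nat.mod (T_ci u) M) u) (lF [T_ei, T_zi, T_b, T_ei, T_ci, T_ei, T_b, T_ei] M (Nat.sub (T_ci u) (Nat.mod (T_ci u) M)) (Nat.mod (T_ci u) M) u) (Nat.ble (nat_lit 28) j)
noncomputable def dp_ci_17 (j u : ℕ) : Bool :=
  Bool.rec (motive := fun _ => Bool) (dp_ci_15 j u) (dp_ci_16 j u) (Nat.ble (nat_lit 27) j)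
noncomputable def dp_ci_18 (j u : ℕ) : Bool :=
  Bool.rec (motive := fun _ => Bool) (dp_ci_14 j u) (dp_ci_17 j u) (Nat.ble (nat_lit 25) j)
noncomputable def dp_ci_19 (j u : ℕ) : Bool :=
  Bool.rec (motive := fun _ => Bool) (dp_ci_11 j u) (dp_ci_18 j u) (Nat.ble (nat_lit 21) j)
noncomputable def dp_ci_20 (j u : ℕ) : Bool :=
  Bool.rec (motive := fun _ => Bool) (lS MG [T_ci, T_d, T_ci, T_d, T_fi, T_d] M (Nat.sub (T_ci u) (Nat.mod (T_ci u) M)) (nat_lit 40) (Nat.mod (T_ci u) M) u) (lF [T_ei, T_c, T_di, T_f, T_ei, T_fi, T_d] M (Nat.sub (T_ci u) (Nat.mod (T_ci u) M)) (Nat.mod (T_ci u) M) u) (Nat.ble (nat_lit 30) j)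
noncomputable def dp_ci_21 (j u : ℕ) : Bool :=
  Bool.rec (motive := fun _ => Bool) (lF [T_ei, T_b, T_ei, T_ci, T_ei, T_zi, T_b, T_ei] M (Nat.sub (T_ci u) (Nat.mod (T_ci u) M)) (Nat.mod (T_ci u) M) u) (lF [T_fi, T_d, T_bi, T_fi, T_di, T_ci, T_bi] M (Nat.sub (T_ci u) (Nat.mod (T_ci u) M)) (Nat.mod (T_ci u) M) u) (Nat.ble (nat_lit 32) j)
noncomputable def dp_ci_22 (j u : ℕ) : Bool :=
  Bool.rec (motive := fun _ => Bool) (lF [T_f, T_b, T_ci, T_fi, T_b, T_di, T_di] M (Nat.sub (T_ci u) (Nat.mod (T_ci u) M)) (Nat.mod (T_ci u) M) u) (lF [T_d, T_ci, T_bi, T_d, T_ci, T_b, T_di] M (Nat.sub (T_ci u) (Nat.mod (T_ci u) M)) (Nat.mod (T_ci u) M) u) (Nat.ble (nat_lit 34) j)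
noncomputable def dp_ci_23 (j u : ℕ) : Bool :=
  Bool.rec (motive := fun _ => Bool) (dp_ci_21 j u) (dp_ci_22 j u) (Nat.ble (nat_lit 33) j)
noncomputable def dp_ci_24 (j u : ℕ) : Bool :=
  Bool.rec (motive := fun _ => Bool) (dp_ci_20 j u) (dp_ci_23 j u) (Nat.ble (nat_lit 31) j)
noncomputable def dp_ci_25 (j u : ℕ) : Bool :=
  Bool.rec (motive := fun _ => Bool) (lF [T_d, T_c, T_bi, T_ci, T_d, T_c, T_bi] M (Nat.sub (T_ci u) (Nat.mod (T_ci u) M)) (Nat.mod (T_ci u) M) u) (lS MG [T_ei, T_c, T_di, T_f, T_ei, T_fi, T_d] M (Nat.sub (T_ci u) (Nat.mod (T_ci u) M)) (nat_lit 40) (Nat.mod (T_ci u) M) u) (Nat.ble (nat_lit 36) j)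
noncomputable def dp_ci_26 (j u : ℕ) : Bool :=
  Bool.rec (motive := fun _ => Bool) (lF [T_di, T_f, T_bi, T_di, T_di, T_fi, T_bi] M (Nat.sub (T_ci u) (Nat.mod (T_ci u) M)) (Nat.mod (T_ci u) M) u) (lF [T_bi, T_f, T_d, T_b, T_c, T_d, T_b] M (Nat.sub (T_ci u) (Nat.mod (T_ci u) M)) (Nat.mod (T_ci u) M) u) (Nat.ble (nat_lit 39) j)
noncomputable def dp_ci_27 (j u : ℕ) : Bool :=
  Bool.rec (motive := fun _ => Bool) (lF [T_fi, T_fi, T_di, T_bi, T_c, T_b, T_d] M (Nat.sub (T_ci u) (Nat.mod (T_ci u) M)) (Nat.mod (T_ci u) M) u) (dp_ci_26 j u) (Nat.ble (nat_lit 38) j)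
noncomputable def dp_ci_28 (j u : ℕ) : Bool :=
  Bool.rec (motive := fun _ => Bool) (dp_ci_25 j u) (dp_ci_27 j u) (Nat.ble (nat_lit 37) j)
noncomputable def dp_ci_29 (j u : ℕ) : Bool :=
  Bool.rec (motive := fun _ => Bool) (lF [T_b, T_ci, T_b, T_ci, T_b, T_ci, T_b] M (Nat.sub (T_ci u) (Nat.mod (T_ci u) M)) (Nat.mod (T_ci u) M) u) (lF [T_b, T_fi, T_d, T_bi, T_c, T_d, T_f] M (Nat.sub (T_ci u) (Nat.mod (T_ci u) M)) (Nat.mod (T_ci u) M) u) (Nat.ble (nat_lit 42) j)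
noncomputable def dp_ci_30 (j u : ℕ) : Bool :=
  Bool.rec (motive := fun _ => Bool) (lF [T_bi, T_f, T_ci, T_d, T_b, T_ci, T_di] M (Nat.sub (T_ci u) (Nat.mod (T_ci u) M)) (Nat.mod (T_ci u) M) u) (dp_ci_29 j u) (Nat.ble (nat_lit 41) j)
noncomputable def dp_ci_31 (j u : ℕ) : Bool :=
  Bool.rec (motive := fun _ => Bool) (lF [T_di, T_c, T_b, T_ci, T_di, T_c, T_b] M (Nat.sub (T_ci u) (Nat.mod (T_ci u) M)) (Nat.mod (T_ci u) M) u) (lF [T_bi, T_fi, T_d, T_d, T_b, T_c, T_bi] M (Nat.sub (T_ci u) (Nat.mod (T_ci u) M)) (Nat.mod (T_ci u) M) u) (Nat.ble (nat_lit 45) j)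
noncomputable def dp_ci_32 (j u : ℕ) : Bool :=
  Bool.rec (motive := fun _ => Bool) (lF [T_d, T_b, T_f, T_ci, T_f, T_di, T_b] M (Nat.sub (T_ci u) (Nat.mod (T_ci u) M)) (Nat.mod (T_ci u) M) u) (dp_ci_31 j u) (Nat.ble (nat_lit 44) j)
noncomputable def dp_ci_33 (j u : ℕ) : Bool :=
  Bool.rec (motive := fun _ => Bool) (dp_ci_30 j u) (dp_ci_32 j u) (Nat.ble (nat_lit 43) j)
noncomputable def dp_ci_34 (j u : ℕ) : Bool :=
  Bool.rec (motive := fun _ => Bool) (dp_ci_28 j u) (dp_ci_33 j u) (Nat.ble (nat_lit 40) j)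
noncomputable def dp_ci_35 (j u : ℕ) : Bool :=
  Bool.rec (motive := fun _ => Bool) (dp_ci_24 j u) (dp_ci_34 j u) (Nat.ble (nat_lit 35) j)
noncomputable def dp_ci_36 (j u : ℕ) : Bool :=
  Bool.rec (motive := fun _ => Bool) (lF [T_f, T_d, T_d, T_ci, T_f, T_d, T_d] M (Nat.sub (T_ci u) (Nat.mod (T_ci u) M)) (Nat.mod (T_ci u) M) u) (lF [T_bi, T_d, T_f, T_ci, T_b, T_di, T_ci] M (Nat.sub (T_ci u) (Nat.mod (T_ci u) M)) (Nat.mod (T_ci u) M) u) (Nat.ble (nat_lit 48) j)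
noncomputable def dp_ci_37 (j u : ℕ) : Bool :=
  Bool.rec (motive := fun _ => Bool) (lF [T_bi, T_di, T_di, T_f, T_b, T_c, T_b] M (Nat.sub (T_ci u) (Nat.mod (T_ci u) M)) (Nat.mod (T_ci u) M) u) (dp_ci_36 j u) (Nat.ble (nat_lit 47) j)
noncomputable def dp_ci_38 (j u : ℕ) : Bool :=
  Bool.rec (motive := fun _ => Bool) (lF [T_b, T_d, T_ci, T_ci, T_b, T_d, T_ci] M (Nat.sub (T_ci u) (Nat.mod (T_ci u) M)) (Nat.mod (T_ci u) M) u) (lF [T_f, T_c, T_e, T_d, T_c, T_f, T_f, T_di, T_ei, T_di] M (Nat.sub (T_ci u) (Nat.mod (T_ci u) M)) (Nat.mod (T_ci u) M) u) (Nat.ble (nat_lit 50) j)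
noncomputable def dp_ci_39 (j u : ℕ) : Bool :=
  Bool.rec (motive := fun _ => Bool) (lF [T_di, T_ci, T_bi, T_f, T_ci, T_d, T_b] M (Nat.sub (T_ci u) (Nat.mod (T_ci u) M)) (Nat.mod (T_ci u) M) u) (lF [T_b, T_d, T_f, T_f, T_c, T_di, T_bi] M (Nat.sub (T_ci u) (Nat.mod (T_ci u) M)) (Nat.mod (T_ci u) M) u) (Nat.ble (nat_lit 52) j)
noncomputable def dp_ci_40 (j u : ℕ) : Bool :=
  Bool.rec (motive := fun _ => Bool) (dp_ci_38 j u) (dp_ci_39 j u) (Nat.ble (nat_lit 51) j)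
noncomputable def dp_ci_41 (j u : ℕ) : Bool :=
  Bool.rec (motive := fun _ => Bool) (dp_ci_37 j u) (dp_ci_40 j u) (Nat.ble (nat_lit 49) j)
noncomputable def dp_ci_42 (j u : ℕ) : Bool :=
  Bool.rec (motive := fun _ => Bool) (lF [T_bi, T_d, T_ci, T_b, T_di, T_ci, T_d] M (Nat.sub (T_ci u) (Nat.mod (T_ci u) M)) (Nat.mod (T_ci u) M) u) (lF [T_bi, T_ci, T_fi, T_d, T_bi, T_fi, T_di] M (Nat.sub (T_ci u) (Nat.mod (T_ci u) M)) (Nat.mod (T_ci u) M) u) (Nat.ble (nat_lit 54) j)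
noncomputable def dp_ci_43 (j u : ℕ) : Bool :=
  Bool.rec (motive := fun _ => Bool) (lF [T_ci, T_bi, T_d, T_f, T_ci, T_b, T_di] M (Nat.sub (T_ci u) (Nat.mod (T_ci u) M)) (Nat.mod (T_ci u) M) u) (lS MG [T_fi, T_d, T_bi, T_fi, T_di, T_ci, T_bi] M (Nat.sub (T_ci u) (Nat.mod (T_ci u) M)) (nat_lit 40) (Nat.mod (T_ci u) M) u) (Nat.ble (nat_lit 56) j)
noncomputable def dp_ci_44 (j u : ℕ) : Bool :=
  Bool.rec (motive := fun _ => Bool) (dp_ci_42 j u) (dp_ci_43 j u) (Nat.ble (nat_lit 55) j)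
noncomputable def dp_ci_45 (j u : ℕ) : Bool :=
  Bool.rec (motive := fun _ => Bool) (lF [T_b, T_di, T_ci, T_d, T_ci, T_bi, T_d] M (Nat.sub (T_ci u) (Nat.mod (T_ci u) M)) (Nat.mod (T_ci u) M) u) (lF [T_b, T_f, T_ci, T_ci, T_f, T_bi, T_fi] M (Nat.sub (T_ci u) (Nat.mod (T_ci u) M)) (Nat.mod (T_ci u) M) u) (Nat.ble (nat_lit 58) j)
noncomputable def dp_ci_46 (j u : ℕ) : Bool :=
  Bool.rec (motive := fun _ => Bool) (lF [T_fi, T_b, T_di, T_di, T_ci, T_f, T_b] M (Nat.sub (T_ci u) (Nat.mod (T_ci u) M)) (Nat.mod (T_ci u) M) u) (lF [T_b, T_di, T_ci, T_ci, T_bi, T_d, T_f] M (Nat.sub (T_ci u) (Nat.mod (T_ci u) M)) (Nat.mod (T_ci u) M) u) (Nat.ble (nat_lit 61) j)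
noncomputable def dp_ci_47 (j u : ℕ) : Bool :=
  Bool.rec (motive := fun _ => Bool) (lS MG [T_b, T_b, T_e, T_bi, T_bi, T_c, T_bi, T_e, T_b] M (Nat.sub (T_ci u) (Nat.mod (T_ci u) M)) (nat_lit 40) (Nat.mod (T_ci u) M) u) (dp_ci_46 j u) (Nat.ble (nat_lit 60) j)
noncomputable def dp_ci_48 (j u : ℕ) : Bool :=
  Bool.rec (motive := fun _ => Bool) (dp_ci_45 j u) (dp_ci_47 j u) (Nat.ble (nat_lit 59) j)
noncomputable def dp_ci_49 (j u : ℕ) : Bool :=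
  Bool.rec (motive := fun _ => Bool) (dp_ci_44 j u) (dp_ci_48 j u) (Nat.ble (nat_lit 57) j)
noncomputable def dp_ci_50 (j u : ℕ) : Bool :=
  Bool.rec (motive := fun _ => Bool) (dp_ci_41 j u) (dp_ci_49 j u) (Nat.ble (nat_lit 53) j)
noncomputable def dp_ci_51 (j u : ℕ) : Bool :=
  Bool.rec (motive := fun _ => Bool) (lS MG [T_b, T_di, T_f, T_bi, T_c, T_fi, T_di] M (Nat.sub (T_ci u) (Nat.mod (T_ci u) M)) (nat_lit 40) (Nat.mod (T_ci u) M) u) (lS MG [T_fi, T_fi, T_di, T_bi, T_c, T_b, T_d] M (Nat.sub (T_ci u) (Nat.mod (T_ci u) M)) (nat_lit 40) (Nat.mod (T_ci u) M) u) (Nat.ble (nat_lit 64) j)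
noncomputable def dp_ci_52 (j u : ℕ) : Bool :=
  Bool.rec (motive := fun _ => Bool) (lF [T_b, T_di, T_f, T_bi, T_c, T_fi, T_di] M (Nat.sub (T_ci u) (Nat.mod (T_ci u) M)) (Nat.mod (T_ci u) M) u) (dp_ci_51 j u) (Nat.ble (nat_lit 63) j)
noncomputable def dp_ci_53 (j u : ℕ) : Bool :=
  Bool.rec (motive := fun _ => Bool) (lF [T_d, T_b, T_ci, T_di, T_ci, T_bi, T_f] M (Nat.sub (T_ci u) (Nat.mod (T_ci u) M)) (Nat.mod (T_ci u) M) u) (lS MG [T_b, T_ci, T_b, T_ci, T_b, T_ci, T_b] M (Nat.sub (T_ci u) (Nat.mod (T_ci u) M)) (nat_lit 40) (Nat.mod (T_ci u) M) u) (Nat.ble (nat_lit 67) j)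
noncomputable def dp_ci_54 (j u : ℕ) : Bool :=
  Bool.rec (motive := fun _ => Bool) (lF [T_bi, T_di, T_fi, T_b, T_c, T_bi, T_di] M (Nat.sub (T_ci u) (Nat.mod (T_ci u) M)) (Nat.mod (T_ci u) M) u) (dp_ci_53 j u) (Nat.ble (nat_lit 66) j)
noncomputable def dp_ci_55 (j u : ℕ) : Bool :=
  Bool.rec (motive := fun _ => Bool) (dp_ci_52 j u) (dp_ci_54 j u) (Nat.ble (nat_lit 65) j)
noncomputable def dp_ci_56 (j u : ℕ) : Bool :=
  Bool.rec (motive := fun _ => Bool) (lF [T_fi, T_bi, T_d, T_ci, T_fi, T_bi, T_d] M (Nat.sub (T_ci u) (Nat.mod (T_ci u) M)) (Nat.mod (T_ci u) M) u) (lS MG [T_bi, T_f, T_d, T_b, T_c, T_d, T_b] M (Nat.sub (T_ci u) (Nat.mod (T_ci u) M)) (nat_lit 40) (Nat.mod (T_ci u) M) u) (Nat.ble (nat_lit 69) j)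
noncomputable def dp_ci_57 (j u : ℕ) : Bool :=
  Bool.rec (motive := fun _ => Bool) (lF [T_ci, T_b, T_d, T_ci, T_ci, T_b, T_d] M (Nat.sub (T_ci u) (Nat.mod (T_ci u) M)) (Nat.mod (T_ci u) M) u) (lF [T_d, T_b, T_c, T_ei, T_ci, T_bi, T_di, T_c, T_e] M (Nat.sub (T_ci u) (Nat.mod (T_ci u) M)) (Nat.mod (T_ci u) M) u) (Nat.ble (nat_lit 71) j)
noncomputable def dp_ci_58 (j u : ℕ) : Bool :=
  Bool.rec (motive := fun _ => Bool) (dp_ci_56 j u) (dp_ci_57 j u) (Nat.ble (nat_lit 70) j)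
noncomputable def dp_ci_59 (j u : ℕ) : Bool :=
  Bool.rec (motive := fun _ => Bool) (lS MG [T_bi, T_di, T_di, T_f, T_b, T_c, T_b] M (Nat.sub (T_ci u) (Nat.mod (T_ci u) M)) (nat_lit 40) (Nat.mod (T_ci u) M) u) (lS MG [T_d, T_b, T_ci, T_di, T_ci, T_bi, T_f] M (Nat.sub (T_ci u) (Nat.mod (T_ci u) M)) (nat_lit 40) (Nat.mod (T_ci u) M) u) (Nat.ble (nat_lit 73) j)
noncomputable def dp_ci_60 (j u : ℕ) : Bool :=
  Bool.rec (motive := fun _ => Bool) (lS MG [T_bi, T_di, T_fi, T_b, T_c, T_bi, T_di] M (Nat.sub (T_ci u) (Nat.mod (T_ci u) M)) (nat_lit 40) (Nat.mod (T_ci u) M) u) (lS MG [T_b, T_fi, T_d, T_bi, T_c, T_d, T_f] M (Nat.sub (T_ci u) (Nat.mod (T_ci u) M)) (nat_lit 40) (Nat.mod (T_ci u) M) u) (Nat.ble (nat_lit 76) j)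
noncomputable def dp_ci_61 (j u : ℕ) : Bool :=
  Bool.rec (motive := fun _ => Bool) (lS MG [T_b, T_d, T_ci, T_ci, T_b, T_d, T_ci] M (Nat.sub (T_ci u) (Nat.mod (T_ci u) M)) (nat_lit 40) (Nat.mod (T_ci u) M) u) (dp_ci_60 j u) (Nat.ble (nat_lit 75) j)
noncomputable def dp_ci_62 (j u : ℕ) : Bool :=
  Bool.rec (motive := fun _ => Bool) (dp_ci_59 j u) (dp_ci_61 j u) (Nat.ble (nat_lit 74) j)
noncomputable def dp_ci_63 (j u : ℕ) : Bool :=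
  Bool.rec (motive := fun _ => Bool) (dp_ci_58 j u) (dp_ci_62 j u) (Nat.ble (nat_lit 72) j)
noncomputable def dp_ci_64 (j u : ℕ) : Bool :=
  Bool.rec (motive := fun _ => Bool) (dp_ci_55 j u) (dp_ci_63 j u) (Nat.ble (nat_lit 68) j)
noncomputable def dp_ci_65 (j u : ℕ) : Bool :=
  Bool.rec (motive := fun _ => Bool) (lS MG [T_di, T_ci, T_bi, T_f, T_ci, T_d, T_b] M (Nat.sub (T_ci u) (Nat.mod (T_ci u) M)) (nat_lit 40) (Nat.mod (T_ci u) M) u) (lS MG [T_f, T_di, T_b, T_ci, T_d, T_b, T_f] M (Nat.sub (T_ci u) (Nat.mod (T_ci u) M)) (nat_lit 40) (Nat.mod (T_ci u) M) u) (Nat.ble (nat_lit 78) j)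
noncomputable def dp_ci_66 (j u : ℕ) : Bool :=
  Bool.rec (motive := fun _ => Bool) (lS MG [T_bi, T_d, T_ci, T_b, T_di, T_ci, T_d] M (Nat.sub (T_ci u) (Nat.mod (T_ci u) M)) (nat_lit 40) (Nat.mod (T_ci u) M) u) (lS MG [T_ci, T_bi, T_d, T_f, T_ci, T_b, T_di] M (Nat.sub (T_ci u) (Nat.mod (T_ci u) M)) (nat_lit 40) (Nat.mod (T_ci u) M) u) (Nat.ble (nat_lit 81) j)
noncomputable def dp_ci_67 (j u : ℕ) : Bool :=
  Bool.rec (motive := fun _ => Bool) (lF [T_ci, T_f, T_bi, T_fi, T_ci, T_b, T_f] M (Nat.sub (T_ci u) (Nat.mod (T_ci u) M)) (Nat.mod (T_ci u) M) u) (dp_ci_66 j u) (Nat.ble (nat_lit 80) j)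
noncomputable def dp_ci_68 (j u : ℕ) : Bool :=
  Bool.rec (motive := fun _ => Bool) (dp_ci_65 j u) (dp_ci_67 j u) (Nat.ble (nat_lit 79) j)
noncomputable def dp_ci_69 (j u : ℕ) : Bool :=
  Bool.rec (motive := fun _ => Bool) (lS MG [T_b, T_f, T_ci, T_ci, T_f, T_bi, T_fi] M (Nat.sub (T_ci u) (Nat.mod (T_ci u) M)) (nat_lit 40) (Nat.mod (T_ci u) M) u) (lS MG [T_d, T_c, T_bi, T_ci, T_d, T_c, T_bi] M (Nat.sub (T_ci u) (Nat.mod (T_ci u) M)) (nat_lit 40) (Nat.mod (T_ci u) M) u) (Nat.ble (nat_lit 84) j)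
noncomputable def dp_ci_70 (j u : ℕ) : Bool :=
  Bool.rec (motive := fun _ => Bool) (lF [T_f, T_bi, T_fi, T_ci, T_b, T_f, T_ci] M (Nat.sub (T_ci u) (Nat.mod (T_ci u) M)) (Nat.mod (T_ci u) M) u) (dp_ci_69 j u) (Nat.ble (nat_lit 83) j)
noncomputable def dp_ci_71 (j u : ℕ) : Bool :=
  Bool.rec (motive := fun _ => Bool) (lS MG [T_f, T_b, T_ci, T_fi, T_b, T_di, T_di] M (Nat.sub (T_ci u) (Nat.mod (T_ci u) M)) (nat_lit 40) (Nat.mod (T_ci u) M) u) (lS MG [T_bi, T_d, T_f, T_ci, T_b, T_di, T_ci] M (Nat.sub (T_ci u) (Nat.mod (T_ci u) M)) (nat_lit 40) (Nat.mod (T_ci u) M) u) (Nat.ble (nat_lit 86) j)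
noncomputable def dp_ci_72 (j u : ℕ) : Bool :=
  Bool.rec (motive := fun _ => Bool) (lS MG [T_b, T_d, T_f, T_f, T_c, T_di, T_bi] M (Nat.sub (T_ci u) (Nat.mod (T_ci u) M)) (nat_lit 40) (Nat.mod (T_ci u) M) u) (lS MG [T_bi, T_ci, T_fi, T_d, T_bi, T_fi, T_di] M (Nat.sub (T_ci u) (Nat.mod (T_ci u) M)) (nat_lit 40) (Nat.mod (T_ci u) M) u) (Nat.ble (nat_lit 88) j)
noncomputable def dp_ci_73 (j u : ℕ) : Bool :=
  Bool.rec (motive := fun _ => Bool) (dp_ci_71 j u) (dp_ci_72 j u) (Nat.ble (nat_lit 87) j)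
noncomputable def dp_ci_74 (j u : ℕ) : Bool :=
  Bool.rec (motive := fun _ => Bool) (dp_ci_70 j u) (dp_ci_73 j u) (Nat.ble (nat_lit 85) j)
noncomputable def dp_ci_75 (j u : ℕ) : Bool :=
  Bool.rec (motive := fun _ => Bool) (dp_ci_68 j u) (dp_ci_74 j u) (Nat.ble (nat_lit 82) j)
noncomputable def dp_ci_76 (j u : ℕ) : Bool :=
  Bool.rec (motive := fun _ => Bool) (lS MG [T_b, T_di, T_ci, T_d, T_ci, T_bi, T_d] M (Nat.sub (T_ci u) (Nat.mod (T_ci u) M)) (nat_lit 40) (Nat.mod (T_ci u) M) u) (lS MG [T_d, T_b, T_f, T_ci, T_f, T_di, T_b] M (Nat.sub (T_ci u) (Nat.mod (T_ci u) M)) (nat_lit 40) (Nat.mod (T_ci u) M) u) (Nat.ble (nat_lit 91) j)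
noncomputable def dp_ci_77 (j u : ℕ) : Bool :=
  Bool.rec (motive := fun _ => Bool) (lS MG [T_bi, T_f, T_ci, T_d, T_b, T_ci, T_di] M (Nat.sub (T_ci u) (Nat.mod (T_ci u) M)) (nat_lit 40) (Nat.mod (T_ci u) M) u) (dp_ci_76 j u) (Nat.ble (nat_lit 90) j)
noncomputable def dp_ci_78 (j u : ℕ) : Bool :=
  Bool.rec (motive := fun _ => Bool) (lS MG [T_di, T_f, T_bi, T_di, T_di, T_fi, T_bi] M (Nat.sub (T_ci u) (Nat.mod (T_ci u) M)) (nat_lit 40) (Nat.mod (T_ci u) M) u) (lS MG [T_f, T_d, T_d, T_ci, T_f, T_d, T_d] M (Nat.sub (T_ci u) (Nat.mod (T_ci u) M)) (nat_lit 40) (Nat.mod (T_ci u) M) u) (Nat.ble (nat_lit 93) j)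
noncomputable def dp_ci_79 (j u : ℕ) : Bool :=
  Bool.rec (motive := fun _ => Bool) (lS MG [T_ci, T_f, T_bi, T_fi, T_ci, T_b, T_f] M (Nat.sub (T_ci u) (Nat.mod (T_ci u) M)) (nat_lit 40) (Nat.mod (T_ci u) M) u) (lF [T_bi, T_f, T_b, T_c, T_di, T_bi, T_di, T_b, T_d] M (Nat.sub (T_ci u) (Nat.mod (T_ci u) M)) (Nat.mod (T_ci u) M) u) (Nat.ble (nat_lit 96) j)
noncomputable def dp_ci_80 (j u : ℕ) : Bool :=
  Bool.rec (motive := fun _ => Bool) (lF [T_bi, T_di, T_c, T_ei, T_ci, T_d, T_b, T_c, T_e] M (Nat.sub (T_ci u) (Nat.mod (T_ci u) M)) (Nat.mod (T_ci u) M) u) (dp_ci_79 j u) (Nat.ble (nat_lit 95) j)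
noncomputable def dp_ci_81 (j u : ℕ) : Bool :=
  Bool.rec (motive := fun _ => Bool) (dp_ci_78 j u) (dp_ci_80 j u) (Nat.ble (nat_lit 94) j)
noncomputable def dp_ci_82 (j u : ℕ) : Bool :=
  Bool.rec (motive := fun _ => Bool) (dp_ci_77 j u) (dp_ci_81 j u) (Nat.ble (nat_lit 92) j)
noncomputable def dp_ci_83 (j u : ℕ) : Bool :=
  Bool.rec (motive := fun _ => Bool) (lF [T_di, T_ei, T_ci, T_fi, T_c, T_d, T_e, T_d, T_fi, T_fi] M (Nat.sub (T_ci u) (Nat.mod (T_ci u) M)) (Nat.mod (T_ci u) M) u) (lS MG [T_d, T_b, T_c, T_ei, T_ci, T_bi, T_di, T_c, T_e] M (Nat.sub (T_ci u) (Nat.mod (T_ci u) M)) (nat_lit 40) (Nat.mod (T_ci u) M) u) (Nat.ble (nat_lit 99) j)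
noncomputable def dp_ci_84 (j u : ℕ) : Bool :=
  Bool.rec (motive := fun _ => Bool) (lS MG [T_d, T_b, T_c, T_e, T_ci, T_bi, T_di, T_c, T_ei] M (Nat.sub (T_ci u) (Nat.mod (T_ci u) M)) (nat_lit 40) (Nat.mod (T_ci u) M) u) (dp_ci_83 j u) (Nat.ble (nat_lit 98) j)
noncomputable def dp_ci_85 (j u : ℕ) : Bool :=
  Bool.rec (motive := fun _ => Bool) (lF [T_ei, T_di, T_c, T_d, T_ci, T_ci, T_e, T_di, T_f, T_b] M (Nat.sub (T_ci u) (Nat.mod (T_ci u) M)) (Nat.mod (T_ci u) M) u) (lS MG [T_b, T_b, T_ei, T_bi, T_bi, T_c, T_bi, T_ei, T_b] M (Nat.sub (T_ci u) (Nat.mod (T_ci u) M)) (nat_lit 40) (Nat.mod (T_ci u) M) u) (Nat.ble (nat_lit 101) j)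
noncomputable def dp_ci_86 (j u : ℕ) : Bool :=
  Bool.rec (motive := fun _ => Bool) (lF [T_ci, T_b, T_f, T_d, T_bi, T_bi, T_c, T_di] M (Nat.sub (T_ci u) (Nat.mod (T_ci u) M)) (Nat.mod (T_ci u) M) u) (lS MG [T_d, T_ci, T_bi, T_d, T_ci, T_b, T_di] M (Nat.sub (T_ci u) (Nat.mod (T_ci u) M)) (nat_lit 40) (Nat.mod (T_ci u) M) u) (Nat.ble (nat_lit 103) j)
noncomputable def dp_ci_87 (j u : ℕ) : Bool :=
  Bool.rec (motive := fun _ => Bool) (dp_ci_85 j u) (dp_ci_86 j u) (Nat.ble (nat_lit 102) j)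
noncomputable def dp_ci_88 (j u : ℕ) : Bool :=
  Bool.rec (motive := fun _ => Bool) (dp_ci_84 j u) (dp_ci_87 j u) (Nat.ble (nat_lit 100) j)
noncomputable def dp_ci_89 (j u : ℕ) : Bool :=
  Bool.rec (motive := fun _ => Bool) (lS MG [T_bi, T_di, T_c, T_e, T_ci, T_d, T_b, T_c, T_ei] M (Nat.sub (T_ci u) (Nat.mod (T_ci u) M)) (nat_lit 40) (Nat.mod (T_ci u) M) u) (lS MG [T_bi, T_di, T_c, T_ei, T_ci, T_d, T_b, T_c, T_e] M (Nat.sub (T_ci u) (Nat.mod (T_ci u) M)) (nat_lit 40) (Nat.mod (T_ci u) M) u) (Nat.ble (nat_lit 106) j)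
noncomputable def dp_ci_90 (j u : ℕ) : Bool :=
  Bool.rec (motive := fun _ => Bool) (lS MG [T_fi, T_bi, T_d, T_ci, T_fi, T_bi, T_d] M (Nat.sub (T_ci u) (Nat.mod (T_ci u) M)) (nat_lit 40) (Nat.mod (T_ci u) M) u) (dp_ci_89 j u) (Nat.ble (nat_lit 105) j)
noncomputable def dp_ci_91 (j u : ℕ) : Bool :=
  Bool.rec (motive := fun _ => Bool) (lS MG [T_ci, T_b, T_f, T_d, T_bi, T_bi, T_c, T_di] M (Nat.sub (T_ci u) (Nat.mod (T_ci u) M)) (nat_lit 40) (Nat.mod (T_ci u) M) u) (lS MG [T_fi, T_b, T_di, T_di, T_ci, T_f, T_b] M (Nat.sub (T_ci u) (Nat.mod (T_ci u) M)) (nat_lit 40) (Nat.mod (T_ci u) M) u) (Nat.ble (nat_lit 108) j)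
noncomputable def dp_ci_92 (j u : ℕ) : Bool :=
  Bool.rec (motive := fun _ => Bool) (lS MG [T_f, T_bi, T_fi, T_ci, T_b, T_f, T_ci] M (Nat.sub (T_ci u) (Nat.mod (T_ci u) M)) (nat_lit 40) (Nat.mod (T_ci u) M) u) (lS MG [T_ci, T_b, T_d, T_ci, T_ci, T_b, T_d] M (Nat.sub (T_ci u) (Nat.mod (T_ci u) M)) (nat_lit 40) (Nat.mod (T_ci u) M) u) (Nat.ble (nat_lit 110) j)
noncomputable def dp_ci_93 (j u : ℕ) : Bool :=
  Bool.rec (motive := fun _ => Bool) (dp_ci_91 j u) (dp_ci_92 j u) (Nat.ble (nat_lit 109) j)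
noncomputable def dp_ci_94 (j u : ℕ) : Bool :=
  Bool.rec (motive := fun _ => Bool) (dp_ci_90 j u) (dp_ci_93 j u) (Nat.ble (nat_lit 107) j)
noncomputable def dp_ci_95 (j u : ℕ) : Bool :=
  Bool.rec (motive := fun _ => Bool) (dp_ci_88 j u) (dp_ci_94 j u) (Nat.ble (nat_lit 104) j)
noncomputable def dp_ci_96 (j u : ℕ) : Bool :=
  Bool.rec (motive := fun _ => Bool) (dp_ci_82 j u) (dp_ci_95 j u) (Nat.ble (nat_lit 97) j)
noncomputable def dp_ci_97 (j u : ℕ) : Bool :=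
  Bool.rec (motive := fun _ => Bool) (dp_ci_75 j u) (dp_ci_96 j u) (Nat.ble (nat_lit 89) j)
noncomputable def dp_ci_98 (j u : ℕ) : Bool :=
  Bool.rec (motive := fun _ => Bool) (dp_ci_64 j u) (dp_ci_97 j u) (Nat.ble (nat_lit 77) j)
noncomputable def dp_ci_99 (j u : ℕ) : Bool :=
  Bool.rec (motive := fun _ => Bool) (dp_ci_50 j u) (dp_ci_98 j u) (Nat.ble (nat_lit 62) j)
noncomputable def dp_ci_100 (j u : ℕ) : Bool :=
  Bool.rec (motive := fun _ => Bool) (dp_ci_35 j u) (dp_ci_99 j u) (Nat.ble (nat_lit 46) j)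
noncomputable def dp_ci_101 (j u : ℕ) : Bool :=
  Bool.rec (motive := fun _ => Bool) (dp_ci_19 j u) (dp_ci_100 j u) (Nat.ble (nat_lit 29) j)
noncomputable def dp_ci_102 (j u : ℕ) : Bool :=
  Bool.rec (motive := fun _ => Bool) (dp_ci_8 j u) (dp_ci_101 j u) (Nat.ble (nat_lit 17) j)
noncomputable def dp_ci_103 (j u : ℕ) : Bool :=
  Bool.rec (motive := fun _ => Bool) (dp_ci_2 j u) (dp_ci_102 j u) (Nat.ble (nat_lit 10) j)
noncomputable def dp_ci_104 (j u : ℕ) : Bool :=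
  Bool.rec (motive := fun _ => Bool) (Bool.rec (motive := fun _ => Bool) (lS MG [T_c] M (Nat.sub (T_ci u) (Nat.mod (T_ci u) M)) (nat_lit 40) (Nat.mod (T_ci u) M) u) (Bool.rec (motive := fun _ => Bool) (lF3 T_zi T_c T_z M (Nat.sub (T_ci u) (Nat.mod (T_ci u) M)) (Nat.mod (T_ci u) M) u) (lF3 T_z T_c T_zi M (Nat.sub (T_ci u) (Nat.mod (T_ci u) M)) (Nat.mod (T_ci u) M) u) (Nat.ble (nat_lit 5) j)) (Nat.ble (nat_lit 4) j)) (dp_ci_103 j u) (Nat.ble (nat_lit 6) j)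
noncomputable def disp_ci (j u : ℕ) : Bool :=
  Bool.rec (motive := fun _ => Bool) (Bool.rec (motive := fun _ => Bool) (lF1 T_c M (Nat.sub (T_ci u) (Nat.mod (T_ci u) M)) (Nat.mod (T_ci u) M) u) (Bool.rec (motive := fun _ => Bool) (lDef P (nat_lit 4) u (Nat.mod (T_ci u) M)) (lDef P (nat_lit 5) (Nat.mod (T_ci u) M) u) (Nat.ble (nat_lit 2) j)) (Nat.ble (nat_lit 1) j)) (dp_ci_104 j u) (Nat.ble (nat_lit 3) j)
noncomputable def chk_ci (j u : ℕ) : Bool :=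
  Bool.rec (motive := fun _ => Bool) (disp_ci j u) (Nat.ble (Nat.succ (MG u)) A) (Nat.ble A (T_ci u))
noncomputable def dp_f_0 (j u : ℕ) : Bool :=
  Bool.rec (motive := fun _ => Bool) (lF [T_di, T_di, T_f, T_f, T_d] M (Nat.sub (T_f u) (Nat.mod (T_f u) M)) (Nat.mod (T_f u) M) u) (lS MG [T_zi, T_fi, T_z] M (Nat.sub (T_f u) (Nat.mod (T_f u) M)) (nat_lit 40) (Nat.mod (T_f u) M) u) (Nat.ble (nat_lit 8) j)
noncomputable def dp_f_1 (j u : ℕ) : Bool :=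
  Bool.rec (motive := fun _ => Bool) (lF [T_f, T_f, T_f, T_f] M (Nat.sub (T_f u) (Nat.mod (T_f u) M)) (Nat.mod (T_f u) M) u) (dp_f_0 j u) (Nat.ble (nat_lit 7) j)
noncomputable def dp_f_2 (j u : ℕ) : Bool :=
  Bool.rec (motive := fun _ => Bool) (lF [T_c, T_f, T_c, T_f, T_c] M (Nat.sub (T_f u) (Nat.mod (T_f u) M)) (Nat.mod (T_f u) M) u) (lF [T_f, T_bi, T_f, T_f, T_bi] M (Nat.sub (T_f u) (Nat.mod (T_f u) M)) (Nat.mod (T_f u) M) u) (Nat.ble (nat_lit 10) j)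
noncomputable def dp_f_3 (j u : ℕ) : Bool :=
  Bool.rec (motive := fun _ => Bool) (lF [T_bi, T_f, T_f, T_bi, T_f] M (Nat.sub (T_f u) (Nat.mod (T_f u) M)) (Nat.mod (T_f u) M) u) (lF [T_f, T_d, T_f, T_di, T_di] M (Nat.sub (T_f u) (Nat.mod (T_f u) M)) (Nat.mod (T_f u) M) u) (Nat.ble (nat_lit 13) j)
noncomputable def dp_f_4 (j u : ℕ) : Bool :=
  Bool.rec (motive := fun _ => Bool) (lF [T_d, T_f, T_di, T_di, T_f] M (Nat.sub (T_f u) (Nat.mod (T_f u) M)) (Nat.mod (T_f u) M) u) (dp_f_3 j u) (Nat.ble (nat_lit 12) j)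
noncomputable def dp_f_5 (j u : ℕ) : Bool :=
  Bool.rec (motive := fun _ => Bool) (dp_f_2 j u) (dp_f_4 j u) (Nat.ble (nat_lit 11) j)
noncomputable def dp_f_6 (j u : ℕ) : Bool :=
  Bool.rec (motive := fun _ => Bool) (lS MG [T_z, T_fi, T_zi] M (Nat.sub (T_f u) (Nat.mod (T_f u) M)) (nat_lit 40) (Nat.mod (T_f u) M) u) (lS MG [T_di, T_di, T_f, T_f, T_d] M (Nat.sub (T_f u) (Nat.mod (T_f u) M)) (nat_lit 40) (Nat.mod (T_f u) M) u) (Nat.ble (nat_lit 15) j)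
noncomputable def dp_f_7 (j u : ℕ) : Bool :=
  Bool.rec (motive := fun _ => Bool) (lF [T_d, T_b, T_d, T_ci, T_b, T_c] M (Nat.sub (T_f u) (Nat.mod (T_f u) M)) (Nat.mod (T_f u) M) u) (lS MG [T_c, T_f, T_c, T_f, T_c] M (Nat.sub (T_f u) (Nat.mod (T_f u) M)) (nat_lit 40) (Nat.mod (T_f u) M) u) (Nat.ble (nat_lit 17) j)
noncomputable def dp_f_8 (j u : ℕ) : Bool :=
  Bool.rec (motive := fun _ => Bool) (lS MG [T_bi, T_f, T_f, T_bi, T_f] M (Nat.sub (T_f u) (Nat.mod (T_f u) M)) (nat_lit 40) (Nat.mod (T_f u) M) u) (lS MG [T_f, T_bi, T_f, T_f, T_bi] M (Nat.sub (T_f u) (Nat.mod (T_f u) M)) (nat_lit 40) (Nat.mod (T_f u) M) u) (Nat.ble (nat_lit 20) j)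
noncomputable def dp_f_9 (j u : ℕ) : Bool :=
  Bool.rec (motive := fun _ => Bool) (lS MG [T_f, T_f, T_f, T_f] M (Nat.sub (T_f u) (Nat.mod (T_f u) M)) (nat_lit 40) (Nat.mod (T_f u) M) u) (dp_f_8 j u) (Nat.ble (nat_lit 19) j)
noncomputable def dp_f_10 (j u : ℕ) : Bool :=
  Bool.rec (motive := fun _ => Bool) (dp_f_7 j u) (dp_f_9 j u) (Nat.ble (nat_lit 18) j)
noncomputable def dp_f_11 (j u : ℕ) : Bool :=
  Bool.rec (motive := fun _ => Bool) (dp_f_6 j u) (dp_f_10 j u) (Nat.ble (nat_lit 16) j)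
noncomputable def dp_f_12 (j u : ℕ) : Bool :=
  Bool.rec (motive := fun _ => Bool) (lF [T_e, T_fi, T_d, T_ci, T_e, T_c, T_di] M (Nat.sub (T_f u) (Nat.mod (T_f u) M)) (Nat.mod (T_f u) M) u) (lF [T_di, T_c, T_di, T_c, T_c, T_di] M (Nat.sub (T_f u) (Nat.mod (T_f u) M)) (Nat.mod (T_f u) M) u) (Nat.ble (nat_lit 22) j)
noncomputable def dp_f_13 (j u : ℕ) : Bool :=
  Bool.rec (motive := fun _ => Bool) (lS MG [T_e, T_fi, T_d, T_ci, T_e, T_c, T_di] M (Nat.sub (T_f u) (Nat.mod (T_f u) M)) (nat_lit 40) (Nat.mod (T_f u) M) u) (lF [T_di, T_f, T_di, T_di, T_fi, T_d] M (Nat.sub (T_f u) (Nat.mod (T_f u) M)) (Nat.mod (T_f u) M) u) (Nat.ble (nat_lit 24) j)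
noncomputable def dp_f_14 (j u : ℕ) : Bool :=
  Bool.rec (motive := fun _ => Bool) (dp_f_12 j u) (dp_f_13 j u) (Nat.ble (nat_lit 23) j)
noncomputable def dp_f_15 (j u : ℕ) : Bool :=
  Bool.rec (motive := fun _ => Bool) (lF [T_d, T_d, T_fi, T_d, T_fi, T_di] M (Nat.sub (T_f u) (Nat.mod (T_f u) M)) (Nat.mod (T_f u) M) u) (lS MG [T_f, T_d, T_f, T_di, T_di] M (Nat.sub (T_f u) (Nat.mod (T_f u) M)) (nat_lit 40) (Nat.mod (T_f u) M) u) (Nat.ble (nat_lit 26) j)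
noncomputable def dp_f_16 (j u : ℕ) : Bool :=
  Bool.rec (motive := fun _ => Bool) (lF [T_di, T_di, T_fi, T_d, T_f, T_di] M (Nat.sub (T_f u) (Nat.mod (T_f u) M)) (Nat.mod (T_f u) M) u) (lF [T_d, T_d, T_ci, T_f, T_d, T_d, T_ci] M (Nat.sub (T_f u) (Nat.mod (T_f u) M)) (Nat.mod (T_f u) M) u) (Nat.ble (nat_lit 29) j)
noncomputable def dp_f_17 (j u : ℕ) : Bool :=
  Bool.rec (motive := fun _ => Bool) (lS MG [T_d, T_f, T_di, T_di, T_f] M (Nat.sub (T_f u) (Nat.mod (T_f u) M)) (nat_lit 40) (Nat.mod (T_f u) M) u) (dp_f_16 j u) (Nat.ble (nat_lit 28) j)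
noncomputable def dp_f_18 (j u : ℕ) : Bool :=
  Bool.rec (motive := fun _ => Bool) (dp_f_15 j u) (dp_f_17 j u) (Nat.ble (nat_lit 27) j)
noncomputable def dp_f_19 (j u : ℕ) : Bool :=
  Bool.rec (motive := fun _ => Bool) (dp_f_14 j u) (dp_f_18 j u) (Nat.ble (nat_lit 25) j)
noncomputable def dp_f_20 (j u : ℕ) : Bool :=
  Bool.rec (motive := fun _ => Bool) (lF [T_ei, T_fi, T_d, T_ci, T_ei, T_c, T_di] M (Nat.sub (T_f u) (Nat.mod (T_f u) M)) (Nat.mod (T_f u) M) u) (lS MG [T_ei, T_fi, T_d, T_ci, T_ei, T_c, T_di] M (Nat.sub (T_f u) (Nat.mod (T_f u) M)) (nat_lit 40) (Nat.mod (T_f u) M) u) (Nat.ble (nat_lit 31) j)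
noncomputable def dp_f_21 (j u : ℕ) : Bool :=
  Bool.rec (motive := fun _ => Bool) (lF [T_b, T_c, T_b, T_ci, T_bi, T_di, T_di] M (Nat.sub (T_f u) (Nat.mod (T_f u) M)) (Nat.mod (T_f u) M) u) (lS MG [T_d, T_b, T_d, T_ci, T_b, T_c] M (Nat.sub (T_f u) (Nat.mod (T_f u) M)) (nat_lit 40) (Nat.mod (T_f u) M) u) (Nat.ble (nat_lit 33) j)
noncomputable def dp_f_22 (j u : ℕ) : Bool :=
  Bool.rec (motive := fun _ => Bool) (dp_f_20 j u) (dp_f_21 j u) (Nat.ble (nat_lit 32) j)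
noncomputable def dp_f_23 (j u : ℕ) : Bool :=
  Bool.rec (motive := fun _ => Bool) (lF [T_b, T_ci, T_fi, T_b, T_di, T_di, T_ci] M (Nat.sub (T_f u) (Nat.mod (T_f u) M)) (Nat.mod (T_f u) M) u) (lF [T_c, T_di, T_bi, T_ci, T_b, T_d, T_f] M (Nat.sub (T_f u) (Nat.mod (T_f u) M)) (Nat.mod (T_f u) M) u) (Nat.ble (nat_lit 36) j)
noncomputable def dp_f_24 (j u : ℕ) : Bool :=
  Bool.rec (motive := fun _ => Bool) (lF [T_ci, T_f, T_di, T_b, T_ci, T_d, T_b] M (Nat.sub (T_f u) (Nat.mod (T_f u) M)) (Nat.mod (T_f u) M) u) (dp_f_23 j u) (Nat.ble (nat_lit 35) j)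
noncomputable def dp_f_25 (j u : ℕ) : Bool :=
  Bool.rec (motive := fun _ => Bool) (lF [T_bi, T_fi, T_ci, T_b, T_f, T_ci, T_ci] M (Nat.sub (T_f u) (Nat.mod (T_f u) M)) (Nat.mod (T_f u) M) u) (lF [T_ci, T_b, T_di, T_ci, T_ci, T_bi, T_d] M (Nat.sub (T_f u) (Nat.mod (T_f u) M)) (Nat.mod (T_f u) M) u) (Nat.ble (nat_lit 39) j)
noncomputable def dp_f_26 (j u : ℕ) : Bool :=
  Bool.rec (motive := fun _ => Bool) (lF [T_ci, T_d, T_b, T_ci, T_di, T_ci, T_bi] M (Nat.sub (T_f u) (Nat.mod (T_f u) M)) (Nat.mod (T_f u) M) u) (dp_f_25 j u) (Nat.ble (nat_lit 38) j)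
noncomputable def dp_f_27 (j u : ℕ) : Bool :=
  Bool.rec (motive := fun _ => Bool) (dp_f_24 j u) (dp_f_26 j u) (Nat.ble (nat_lit 37) j)
noncomputable def dp_f_28 (j u : ℕ) : Bool :=
  Bool.rec (motive := fun _ => Bool) (dp_f_22 j u) (dp_f_27 j u) (Nat.ble (nat_lit 34) j)
noncomputable def dp_f_29 (j u : ℕ) : Bool :=
  Bool.rec (motive := fun _ => Bool) (lF [T_c, T_bi, T_fi, T_c, T_d, T_d, T_bi] M (Nat.sub (T_f u) (Nat.mod (T_f u) M)) (Nat.mod (T_f u) M) u) (lF [T_b, T_ci, T_ei, T_di, T_c, T_d, T_ci, T_ci, T_e, T_di] M (Nat.sub (T_f u) (Nat.mod (T_f u) M)) (Nat.mod (T_f u) M) u) (Nat.ble (nat_lit 41) j)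
noncomputable def dp_f_30 (j u : ℕ) : Bool :=
  Bool.rec (motive := fun _ => Bool) (lS MG [T_di, T_c, T_di, T_c, T_c, T_di] M (Nat.sub (T_f u) (Nat.mod (T_f u) M)) (nat_lit 40) (Nat.mod (T_f u) M) u) (lF [T_di, T_b, T_ci, T_d, T_b, T_f, T_ci] M (Nat.sub (T_f u) (Nat.mod (T_f u) M)) (Nat.mod (T_f u) M) u) (Nat.ble (nat_lit 43) j)
noncomputable def dp_f_31 (j u : ℕ) : Bool :=
  Bool.rec (motive := fun _ => Bool) (dp_f_29 j u) (dp_f_30 j u) (Nat.ble (nat_lit 42) j)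
noncomputable def dp_f_32 (j u : ℕ) : Bool :=
  Bool.rec (motive := fun _ => Bool) (lF [T_b, T_di, T_f, T_c, T_b, T_c, T_d] M (Nat.sub (T_f u) (Nat.mod (T_f u) M)) (Nat.mod (T_f u) M) u) (lF [T_c, T_di, T_b, T_f, T_c, T_di, T_b] M (Nat.sub (T_f u) (Nat.mod (T_f u) M)) (Nat.mod (T_f u) M) u) (Nat.ble (nat_lit 45) j)
noncomputable def dp_f_33 (j u : ℕ) : Bool :=
  Bool.rec (motive := fun _ => Bool) (lF [T_d, T_b, T_c, T_d, T_b, T_ci, T_bi] M (Nat.sub (T_f u) (Nat.mod (T_f u) M)) (Nat.mod (T_f u) M) u) (lF [T_c, T_e, T_d, T_c, T_f, T_f, T_di, T_ei, T_di, T_ci] M (Nat.sub (T_f u) (Nat.mod (T_f u) M)) (Nat.mod (T_f u) M) u) (Nat.ble (nat_lit 48) j)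
noncomputable def dp_f_34 (j u : ℕ) : Bool :=
  Bool.rec (motive := fun _ => Bool) (lF [T_bi, T_di, T_di, T_fi, T_bi, T_ci, T_di] M (Nat.sub (T_f u) (Nat.mod (T_f u) M)) (Nat.mod (T_f u) M) u) (dp_f_33 j u) (Nat.ble (nat_lit 47) j)
noncomputable def dp_f_35 (j u : ℕ) : Bool :=
  Bool.rec (motive := fun _ => Bool) (dp_f_32 j u) (dp_f_34 j u) (Nat.ble (nat_lit 46) j)
noncomputable def dp_f_36 (j u : ℕ) : Bool :=
  Bool.rec (motive := fun _ => Bool) (dp_f_31 j u) (dp_f_35 j u) (Nat.ble (nat_lit 44) j)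
noncomputable def dp_f_37 (j u : ℕ) : Bool :=
  Bool.rec (motive := fun _ => Bool) (lS MG [T_di, T_f, T_di, T_di, T_fi, T_d] M (Nat.sub (T_f u) (Nat.mod (T_f u) M)) (nat_lit 40) (Nat.mod (T_f u) M) u) (lF [T_c, T_b, T_c, T_d, T_f, T_b, T_di] M (Nat.sub (T_f u) (Nat.mod (T_f u) M)) (Nat.mod (T_f u) M) u) (Nat.ble (nat_lit 50) j)
noncomputable def dp_f_38 (j u : ℕ) : Bool :=
  Bool.rec (motive := fun _ => Bool) (lS MG [T_c, T_di, T_b, T_f, T_c, T_di, T_b] M (Nat.sub (T_f u) (Nat.mod (T_f u) M)) (nat_lit 40) (Nat.mod (T_f u) M) u) (lS MG [T_c, T_di, T_bi, T_ci, T_b, T_d, T_f] M (Nat.sub (T_f u) (Nat.mod (T_f u) M)) (nat_lit 40) (Nat.mod (T_f u) M) u) (Nat.ble (nat_lit 52) j)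
noncomputable def dp_f_39 (j u : ℕ) : Bool :=
  Bool.rec (motive := fun _ => Bool) (dp_f_37 j u) (dp_f_38 j u) (Nat.ble (nat_lit 51) j)
noncomputable def dp_f_40 (j u : ℕ) : Bool :=
  Bool.rec (motive := fun _ => Bool) (lS MG [T_ci, T_b, T_di, T_ci, T_ci, T_bi, T_d] M (Nat.sub (T_f u) (Nat.mod (T_f u) M)) (nat_lit 40) (Nat.mod (T_f u) M) u) (lF [T_f, T_c, T_di, T_bi, T_ci, T_b, T_d] M (Nat.sub (T_f u) (Nat.mod (T_f u) M)) (Nat.mod (T_f u) M) u) (Nat.ble (nat_lit 54) j)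
noncomputable def dp_f_41 (j u : ℕ) : Bool :=
  Bool.rec (motive := fun _ => Bool) (lS MG [T_ci, T_f, T_di, T_b, T_ci, T_d, T_b] M (Nat.sub (T_f u) (Nat.mod (T_f u) M)) (nat_lit 40) (Nat.mod (T_f u) M) u) (lS MG [T_bi, T_di, T_di, T_fi, T_bi, T_ci, T_di] M (Nat.sub (T_f u) (Nat.mod (T_f u) M)) (nat_lit 40) (Nat.mod (T_f u) M) u) (Nat.ble (nat_lit 57) j)
noncomputable def dp_f_42 (j u : ℕ) : Bool :=
  Bool.rec (motive := fun _ => Bool) (lF [T_f, T_di, T_ei, T_di, T_ci, T_f, T_c, T_e, T_d, T_c] M (Nat.sub (T_f u) (Nat.mod (T_f u) M)) (Nat.mod (T_f u) M) u) (dp_f_41 j u) (Nat.ble (nat_lit 56) j)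
noncomputable def dp_f_43 (j u : ℕ) : Bool :=
  Bool.rec (motive := fun _ => Bool) (dp_f_40 j u) (dp_f_42 j u) (Nat.ble (nat_lit 55) j)
noncomputable def dp_f_44 (j u : ℕ) : Bool :=
  Bool.rec (motive := fun _ => Bool) (dp_f_39 j u) (dp_f_43 j u) (Nat.ble (nat_lit 53) j)
noncomputable def dp_f_45 (j u : ℕ) : Bool :=
  Bool.rec (motive := fun _ => Bool) (lS MG [T_di, T_b, T_ci, T_d, T_b, T_f, T_ci] M (Nat.sub (T_f u) (Nat.mod (T_f u) M)) (nat_lit 40) (Nat.mod (T_f u) M) u) (lS MG [T_di, T_di, T_fi, T_d, T_f, T_di] M (Nat.sub (T_f u) (Nat.mod (T_f u) M)) (nat_lit 40) (Nat.mod (T_f u) M) u) (Nat.ble (nat_lit 60) j)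
noncomputable def dp_f_46 (j u : ℕ) : Bool :=
  Bool.rec (motive := fun _ => Bool) (lS MG [T_d, T_d, T_ci, T_f, T_d, T_d, T_ci] M (Nat.sub (T_f u) (Nat.mod (T_f u) M)) (nat_lit 40) (Nat.mod (T_f u) M) u) (dp_f_45 j u) (Nat.ble (nat_lit 59) j)
noncomputable def dp_f_47 (j u : ℕ) : Bool :=
  Bool.rec (motive := fun _ => Bool) (lF [T_b, T_fi, T_c, T_c, T_fi, T_bi, T_c] M (Nat.sub (T_f u) (Nat.mod (T_f u) M)) (Nat.mod (T_f u) M) u) (lF [T_d, T_d, T_b, T_fi, T_d, T_c, T_b] M (Nat.sub (T_f u) (Nat.mod (T_f u) M)) (Nat.mod (T_f u) M) u) (Nat.ble (nat_lit 62) j)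
noncomputable def dp_f_48 (j u : ℕ) : Bool :=
  Bool.rec (motive := fun _ => Bool) (lS MG [T_b, T_ci, T_ei, T_di, T_c, T_d, T_ci, T_ci, T_e, T_di] M (Nat.sub (T_f u) (Nat.mod (T_f u) M)) (nat_lit 40) (Nat.mod (T_f u) M) u) (lF [T_bi, T_c, T_fi, T_di, T_ci, T_b, T_di] M (Nat.sub (T_f u) (Nat.mod (T_f u) M)) (Nat.mod (T_f u) M) u) (Nat.ble (nat_lit 64) j)
noncomputable def dp_f_49 (j u : ℕ) : Bool :=
  Bool.rec (motive := fun _ => Bool) (dp_f_47 j u) (dp_f_48 j u) (Nat.ble (nat_lit 63) j)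
noncomputable def dp_f_50 (j u : ℕ) : Bool :=
  Bool.rec (motive := fun _ => Bool) (dp_f_46 j u) (dp_f_49 j u) (Nat.ble (nat_lit 61) j)
noncomputable def dp_f_51 (j u : ℕ) : Bool :=
  Bool.rec (motive := fun _ => Bool) (lS MG [T_ci, T_b, T_fi, T_d, T_bi, T_c, T_d] M (Nat.sub (T_f u) (Nat.mod (T_f u) M)) (nat_lit 40) (Nat.mod (T_f u) M) u) (lF [T_ci, T_ci, T_f, T_bi, T_fi, T_ci, T_b] M (Nat.sub (T_f u) (Nat.mod (T_f u) M)) (Nat.mod (T_f u) M) u) (Nat.ble (nat_lit 66) j)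
noncomputable def dp_f_52 (j u : ℕ) : Bool :=
  Bool.rec (motive := fun _ => Bool) (lH [] [] M (Nat.sub (T_f u) (Nat.mod (T_f u) M)) (Nat.mod (T_f u) M) u) (lS MG [T_bi, T_fi, T_ci, T_b, T_f, T_ci, T_ci] M (Nat.sub (T_f u) (Nat.mod (T_f u) M)) (nat_lit 40) (Nat.mod (T_f u) M) u) (Nat.ble (nat_lit 68) j)
noncomputable def dp_f_53 (j u : ℕ) : Bool :=
  Bool.rec (motive := fun _ => Bool) (lS MG [T_b, T_fi, T_c, T_c, T_fi, T_bi, T_c] M (Nat.sub (T_f u) (Nat.mod (T_f u) M)) (nat_lit 40) (Nat.mod (T_f u) M) u) (lF [T_ci, T_b, T_fi, T_d, T_bi, T_c, T_d] M (Nat.sub (T_f u) (Nat.mod (T_f u) M)) (Nat.mod (T_f u) M) u) (Nat.ble (nat_lit 70) j)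
noncomputable def dp_f_54 (j u : ℕ) : Bool :=
  Bool.rec (motive := fun _ => Bool) (dp_f_52 j u) (dp_f_53 j u) (Nat.ble (nat_lit 69) j)
noncomputable def dp_f_55 (j u : ℕ) : Bool :=
  Bool.rec (motive := fun _ => Bool) (dp_f_51 j u) (dp_f_54 j u) (Nat.ble (nat_lit 67) j)
noncomputable def dp_f_56 (j u : ℕ) : Bool :=
  Bool.rec (motive := fun _ => Bool) (lS MG [T_b, T_ci, T_fi, T_b, T_di, T_di, T_ci] M (Nat.sub (T_f u) (Nat.mod (T_f u) M)) (nat_lit 40) (Nat.mod (T_f u) M) u) (lF [T_bi, T_bi, T_bi, T_fi, T_di, T_bi, T_fi, T_d] M (Nat.sub (T_f u) (Nat.mod (T_f u) M)) (Nat.mod (T_f u) M) u) (Nat.ble (nat_lit 72) j)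
noncomputable def dp_f_57 (j u : ℕ) : Bool :=
  Bool.rec (motive := fun _ => Bool) (lS MG [T_f, T_c, T_di, T_bi, T_ci, T_b, T_d] M (Nat.sub (T_f u) (Nat.mod (T_f u) M)) (nat_lit 40) (Nat.mod (T_f u) M) u) (lF [T_di, T_ei, T_di, T_ci, T_f, T_c, T_e, T_d, T_c, T_f] M (Nat.sub (T_f u) (Nat.mod (T_f u) M)) (Nat.mod (T_f u) M) u) (Nat.ble (nat_lit 74) j)
noncomputable def dp_f_58 (j u : ℕ) : Bool :=
  Bool.rec (motive := fun _ => Bool) (dp_f_56 j u) (dp_f_57 j u) (Nat.ble (nat_lit 73) j)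
noncomputable def dp_f_59 (j u : ℕ) : Bool :=
  Bool.rec (motive := fun _ => Bool) (lS MG [T_d, T_d, T_b, T_fi, T_d, T_c, T_b] M (Nat.sub (T_f u) (Nat.mod (T_f u) M)) (nat_lit 40) (Nat.mod (T_f u) M) u) (lS MG [T_d, T_d, T_fi, T_d, T_fi, T_di] M (Nat.sub (T_f u) (Nat.mod (T_f u) M)) (nat_lit 40) (Nat.mod (T_f u) M) u) (Nat.ble (nat_lit 76) j)
noncomputable def dp_f_60 (j u : ℕ) : Bool :=
  Bool.rec (motive := fun _ => Bool) (lS MG [T_ci, T_d, T_b, T_ci, T_di, T_ci, T_bi] M (Nat.sub (T_f u) (Nat.mod (T_f u) M)) (nat_lit 40) (Nat.mod (T_f u) M) u) (lS MG [T_c, T_b, T_c, T_d, T_f, T_b, T_di] M (Nat.sub (T_f u) (Nat.mod (T_f u) M)) (nat_lit 40) (Nat.mod (T_f u) M) u) (Nat.ble (nat_lit 78) j)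
noncomputable def dp_f_61 (j u : ℕ) : Bool :=
  Bool.rec (motive := fun _ => Bool) (dp_f_59 j u) (dp_f_60 j u) (Nat.ble (nat_lit 77) j)
noncomputable def dp_f_62 (j u : ℕ) : Bool :=
  Bool.rec (motive := fun _ => Bool) (dp_f_58 j u) (dp_f_61 j u) (Nat.ble (nat_lit 75) j)
noncomputable def dp_f_63 (j u : ℕ) : Bool :=
  Bool.rec (motive := fun _ => Bool) (dp_f_55 j u) (dp_f_62 j u) (Nat.ble (nat_lit 71) j)
noncomputable def dp_f_64 (j u : ℕ) : Bool :=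
  Bool.rec (motive := fun _ => Bool) (dp_f_50 j u) (dp_f_63 j u) (Nat.ble (nat_lit 65) j)
noncomputable def dp_f_65 (j u : ℕ) : Bool :=
  Bool.rec (motive := fun _ => Bool) (dp_f_44 j u) (dp_f_64 j u) (Nat.ble (nat_lit 58) j)
noncomputable def dp_f_66 (j u : ℕ) : Bool :=
  Bool.rec (motive := fun _ => Bool) (dp_f_36 j u) (dp_f_65 j u) (Nat.ble (nat_lit 49) j)
noncomputable def dp_f_67 (j u : ℕ) : Bool :=
  Bool.rec (motive := fun _ => Bool) (dp_f_28 j u) (dp_f_66 j u) (Nat.ble (nat_lit 40) j)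
noncomputable def dp_f_68 (j u : ℕ) : Bool :=
  Bool.rec (motive := fun _ => Bool) (dp_f_19 j u) (dp_f_67 j u) (Nat.ble (nat_lit 30) j)
noncomputable def dp_f_69 (j u : ℕ) : Bool :=
  Bool.rec (motive := fun _ => Bool) (dp_f_11 j u) (dp_f_68 j u) (Nat.ble (nat_lit 21) j)
noncomputable def dp_f_70 (j u : ℕ) : Bool :=
  Bool.rec (motive := fun _ => Bool) (dp_f_5 j u) (dp_f_69 j u) (Nat.ble (nat_lit 14) j)
noncomputable def dp_f_71 (j u : ℕ) : Bool :=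
  Bool.rec (motive := fun _ => Bool) (Bool.rec (motive := fun _ => Bool) (lF3 T_z T_fi T_zi M (Nat.sub (T_f u) (Nat.mod (T_f u) M)) (Nat.mod (T_f u) M) u) (dp_f_1 j u) (Nat.ble (nat_lit 6) j)) (dp_f_70 j u) (Nat.ble (nat_lit 9) j)
noncomputable def dp_f_72 (j u : ℕ) : Bool :=
  Bool.rec (motive := fun _ => Bool) (Bool.rec (motive := fun _ => Bool) (lS MG [T_fi] M (Nat.sub (T_f u) (Nat.mod (T_f u) M)) (nat_lit 40) (Nat.mod (T_f u) M) u) (lF3 T_zi T_fi T_z M (Nat.sub (T_f u) (Nat.mod (T_f u) M)) (Nat.mod (T_f u) M) u) (Nat.ble (nat_lit 4) j)) (dp_f_71 j u) (Nat.ble (nat_lit 5) j)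
noncomputable def disp_f (j u : ℕ) : Bool :=
  Bool.rec (motive := fun _ => Bool) (Bool.rec (motive := fun _ => Bool) (lF1 T_fi M (Nat.sub (T_f u) (Nat.mod (T_f u) M)) (Nat.mod (T_f u) M) u) (Bool.rec (motive := fun _ => Bool) (lDef P (nat_lit 6) (Nat.mod (T_f u) M) u) (lDef P (nat_lit 7) u (Nat.mod (T_f u) M)) (Nat.ble (nat_lit 2) j)) (Nat.ble (nat_lit 1) j)) (dp_f_72 j u) (Nat.ble (nat_lit 3) j)
noncomputable def chk_f (j u : ℕ) : Bool :=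
  Bool.rec (motive := fun _ => Bool) (disp_f j u) (Nat.ble (Nat.succ (MG u)) A) (Nat.ble A (T_f u))
noncomputable def dp_fi_0 (j u : ℕ) : Bool :=
  Bool.rec (motive := fun _ => Bool) (lF [T_di, T_fi, T_fi, T_d, T_d] M (Nat.sub (T_fi u) (Nat.mod (T_fi u) M)) (Nat.mod (T_fi u) M) u) (lS MG [T_z, T_f, T_zi] M (Nat.sub (T_fi u) (Nat.mod (T_fi u) M)) (nat_lit 40) (Nat.mod (T_fi u) M) u) (Nat.ble (nat_lit 8) j)
noncomputable def dp_fi_1 (j u : ℕ) : Bool :=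
  Bool.rec (motive := fun _ => Bool) (lF [T_fi, T_fi, T_fi, T_fi] M (Nat.sub (T_fi u) (Nat.mod (T_fi u) M)) (Nat.mod (T_fi u) M) u) (dp_fi_0 j u) (Nat.ble (nat_lit 7) j)
noncomputable def dp_fi_2 (j u : ℕ) : Bool :=
  Bool.rec (motive := fun _ => Bool) (lF [T_ci, T_fi, T_ci, T_fi, T_ci] M (Nat.sub (T_fi u) (Nat.mod (T_fi u) M)) (Nat.mod (T_fi u) M) u) (lF [T_fi, T_b, T_fi, T_fi, T_b] M (Nat.sub (T_fi u) (Nat.mod (T_fi u) M)) (Nat.mod (T_fi u) M) u) (Nat.ble (nat_lit 10) j)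
noncomputable def dp_fi_3 (j u : ℕ) : Bool :=
  Bool.rec (motive := fun _ => Bool) (lF [T_fi, T_d, T_d, T_fi, T_di] M (Nat.sub (T_fi u) (Nat.mod (T_fi u) M)) (Nat.mod (T_fi u) M) u) (lF [T_d, T_d, T_fi, T_di, T_fi] M (Nat.sub (T_fi u) (Nat.mod (T_fi u) M)) (Nat.mod (T_fi u) M) u) (Nat.ble (nat_lit 13) j)
noncomputable def dp_fi_4 (j u : ℕ) : Bool :=
  Bool.rec (motive := fun _ => Bool) (lF [T_b, T_fi, T_fi, T_b, T_fi] M (Nat.sub (T_fi u) (Nat.mod (T_fi u) M)) (Nat.mod (T_fi u) M) u) (dp_fi_3 j u) (Nat.ble (nat_lit 12) j)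
noncomputable def dp_fi_5 (j u : ℕ) : Bool :=
  Bool.rec (motive := fun _ => Bool) (dp_fi_2 j u) (dp_fi_4 j u) (Nat.ble (nat_lit 11) j)
noncomputable def dp_fi_6 (j u : ℕ) : Bool :=
  Bool.rec (motive := fun _ => Bool) (lF [T_ci, T_bi, T_c, T_di, T_bi, T_di] M (Nat.sub (T_fi u) (Nat.mod (T_fi u) M)) (Nat.mod (T_fi u) M) u) (lS MG [T_fi, T_fi, T_fi, T_fi] M (Nat.sub (T_fi u) (Nat.mod (T_fi u) M)) (nat_lit 40) (Nat.mod (T_fi u) M) u) (Nat.ble (nat_lit 16) j)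
noncomputable def dp_fi_7 (j u : ℕ) : Bool :=
  Bool.rec (motive := fun _ => Bool) (lS MG [T_zi, T_f, T_z] M (Nat.sub (T_fi u) (Nat.mod (T_fi u) M)) (nat_lit 40) (Nat.mod (T_fi u) M) u) (dp_fi_6 j u) (Nat.ble (nat_lit 15) j)
noncomputable def dp_fi_8 (j u : ℕ) : Bool :=
  Bool.rec (motive := fun _ => Bool) (lF [T_d, T_ci, T_ci, T_d, T_ci, T_d] M (Nat.sub (T_fi u) (Nat.mod (T_fi u) M)) (Nat.mod (T_fi u) M) u) (lS MG [T_ci, T_fi, T_ci, T_fi, T_ci] M (Nat.sub (T_fi u) (Nat.mod (T_fi u) M)) (nat_lit 40) (Nat.mod (T_fi u) M) u) (Nat.ble (nat_lit 19) j)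
noncomputable def dp_fi_9 (j u : ℕ) : Bool :=
  Bool.rec (motive := fun _ => Bool) (lS MG [T_di, T_fi, T_fi, T_d, T_d] M (Nat.sub (T_fi u) (Nat.mod (T_fi u) M)) (nat_lit 40) (Nat.mod (T_fi u) M) u) (dp_fi_8 j u) (Nat.ble (nat_lit 18) j)
noncomputable def dp_fi_10 (j u : ℕ) : Bool :=
  Bool.rec (motive := fun _ => Bool) (lS MG [T_b, T_fi, T_fi, T_b, T_fi] M (Nat.sub (T_fi u) (Nat.mod (T_fi u) M)) (nat_lit 40) (Nat.mod (T_fi u) M) u) (lF [T_d, T_ci, T_ei, T_c, T_di, T_f, T_ei] M (Nat.sub (T_fi u) (Nat.mod (T_fi u) M)) (Nat.mod (T_fi u) M) u) (Nat.ble (nat_lit 22) j)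
noncomputable def dp_fi_11 (j u : ℕ) : Bool :=
  Bool.rec (motive := fun _ => Bool) (lS MG [T_fi, T_b, T_fi, T_fi, T_b] M (Nat.sub (T_fi u) (Nat.mod (T_fi u) M)) (nat_lit 40) (Nat.mod (T_fi u) M) u) (dp_fi_10 j u) (Nat.ble (nat_lit 21) j)
noncomputable def dp_fi_12 (j u : ℕ) : Bool :=
  Bool.rec (motive := fun _ => Bool) (dp_fi_9 j u) (dp_fi_11 j u) (Nat.ble (nat_lit 20) j)
noncomputable def dp_fi_13 (j u : ℕ) : Bool :=
  Bool.rec (motive := fun _ => Bool) (dp_fi_7 j u) (dp_fi_12 j u) (Nat.ble (nat_lit 17) j)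
noncomputable def dp_fi_14 (j u : ℕ) : Bool :=
  Bool.rec (motive := fun _ => Bool) (lF [T_di, T_f, T_d, T_d, T_fi, T_d] M (Nat.sub (T_fi u) (Nat.mod (T_fi u) M)) (Nat.mod (T_fi u) M) u) (lF [T_d, T_ci, T_e, T_c, T_di, T_f, T_e] M (Nat.sub (T_fi u) (Nat.mod (T_fi u) M)) (Nat.mod (T_fi u) M) u) (Nat.ble (nat_lit 24) j)
noncomputable def dp_fi_15 (j u : ℕ) : Bool :=
  Bool.rec (motive := fun _ => Bool) (lF [T_d, T_f, T_di, T_f, T_di, T_di] M (Nat.sub (T_fi u) (Nat.mod (T_fi u) M)) (Nat.mod (T_fi u) M) u) (lS MG [T_d, T_ci, T_ei, T_c, T_di, T_f, T_ei] M (Nat.sub (T_fi u) (Nat.mod (T_fi u) M)) (nat_lit 40) (Nat.mod (T_fi u) M) u) (Nat.ble (nat_lit 26) j)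
noncomputable def dp_fi_16 (j u : ℕ) : Bool :=
  Bool.rec (motive := fun _ => Bool) (dp_fi_14 j u) (dp_fi_15 j u) (Nat.ble (nat_lit 25) j)
noncomputable def dp_fi_17 (j u : ℕ) : Bool :=
  Bool.rec (motive := fun _ => Bool) (lF [T_d, T_fi, T_di, T_f, T_d, T_d] M (Nat.sub (T_fi u) (Nat.mod (T_fi u) M)) (Nat.mod (T_fi u) M) u) (lS MG [T_d, T_d, T_fi, T_di, T_fi] M (Nat.sub (T_fi u) (Nat.mod (T_fi u) M)) (nat_lit 40) (Nat.mod (T_fi u) M) u) (Nat.ble (nat_lit 28) j)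
noncomputable def dp_fi_18 (j u : ℕ) : Bool :=
  Bool.rec (motive := fun _ => Bool) (lS MG [T_ci, T_bi, T_c, T_di, T_bi, T_di] M (Nat.sub (T_fi u) (Nat.mod (T_fi u) M)) (nat_lit 40) (Nat.mod (T_fi u) M) u) (lS MG [T_d, T_ci, T_e, T_c, T_di, T_f, T_e] M (Nat.sub (T_fi u) (Nat.mod (T_fi u) M)) (nat_lit 40) (Nat.mod (T_fi u) M) u) (Nat.ble (nat_lit 31) j)
noncomputable def dp_fi_19 (j u : ℕ) : Bool :=
  Bool.rec (motive := fun _ => Bool) (lS MG [T_fi, T_d, T_d, T_fi, T_di] M (Nat.sub (T_fi u) (Nat.mod (T_fi u) M)) (nat_lit 40) (Nat.mod (T_fi u) M) u) (dp_fi_18 j u) (Nat.ble (nat_lit 30) j)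
noncomputable def dp_fi_20 (j u : ℕ) : Bool :=
  Bool.rec (motive := fun _ => Bool) (dp_fi_17 j u) (dp_fi_19 j u) (Nat.ble (nat_lit 29) j)
noncomputable def dp_fi_21 (j u : ℕ) : Bool :=
  Bool.rec (motive := fun _ => Bool) (dp_fi_16 j u) (dp_fi_20 j u) (Nat.ble (nat_lit 27) j)
noncomputable def dp_fi_22 (j u : ℕ) : Bool :=
  Bool.rec (motive := fun _ => Bool) (lF [T_bi, T_d, T_ci, T_fi, T_bi, T_d, T_ci] M (Nat.sub (T_fi u) (Nat.mod (T_fi u) M)) (Nat.mod (T_fi u) M) u) (lF [T_c, T_di, T_di, T_fi, T_c, T_di, T_di] M (Nat.sub (T_fi u) (Nat.mod (T_fi u) M)) (Nat.mod (T_fi u) M) u) (Nat.ble (nat_lit 33) j)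
noncomputable def dp_fi_23 (j u : ℕ) : Bool :=
  Bool.rec (motive := fun _ => Bool) (lF [T_bi, T_di, T_c, T_bi, T_d, T_fi, T_c] M (Nat.sub (T_fi u) (Nat.mod (T_fi u) M)) (Nat.mod (T_fi u) M) u) (lF [T_c, T_fi, T_bi, T_di, T_c, T_bi, T_d] M (Nat.sub (T_fi u) (Nat.mod (T_fi u) M)) (Nat.mod (T_fi u) M) u) (Nat.ble (nat_lit 36) j)
noncomputable def dp_fi_24 (j u : ℕ) : Bool :=
  Bool.rec (motive := fun _ => Bool) (lF [T_c, T_d, T_e, T_d, T_fi, T_fi, T_ci, T_di, T_ei, T_ci] M (Nat.sub (T_fi u) (Nat.mod (T_fi u) M)) (Nat.mod (T_fi u) M) u) (dp_fi_23 j u) (Nat.ble (nat_lit 35) j)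
noncomputable def dp_fi_25 (j u : ℕ) : Bool :=
  Bool.rec (motive := fun _ => Bool) (dp_fi_22 j u) (dp_fi_24 j u) (Nat.ble (nat_lit 34) j)
noncomputable def dp_fi_26 (j u : ℕ) : Bool :=
  Bool.rec (motive := fun _ => Bool) (lF [T_d, T_c, T_b, T_f, T_d, T_d, T_b] M (Nat.sub (T_fi u) (Nat.mod (T_fi u) M)) (Nat.mod (T_fi u) M) u) (lF [T_d, T_d, T_b, T_c, T_bi, T_ci, T_bi] M (Nat.sub (T_fi u) (Nat.mod (T_fi u) M)) (Nat.mod (T_fi u) M) u) (Nat.ble (nat_lit 38) j)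
noncomputable def dp_fi_27 (j u : ℕ) : Bool :=
  Bool.rec (motive := fun _ => Bool) (lF [T_bi, T_ci, T_di, T_f, T_bi, T_di, T_di] M (Nat.sub (T_fi u) (Nat.mod (T_fi u) M)) (Nat.mod (T_fi u) M) u) (lF [T_fi, T_di, T_bi, T_c, T_b, T_d, T_ci] M (Nat.sub (T_fi u) (Nat.mod (T_fi u) M)) (Nat.mod (T_fi u) M) u) (Nat.ble (nat_lit 40) j)
noncomputable def dp_fi_28 (j u : ℕ) : Bool :=
  Bool.rec (motive := fun _ => Bool) (dp_fi_26 j u) (dp_fi_27 j u) (Nat.ble (nat_lit 39) j)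
noncomputable def dp_fi_29 (j u : ℕ) : Bool :=
  Bool.rec (motive := fun _ => Bool) (lF [T_di, T_ci, T_b, T_di, T_f, T_bi, T_c] M (Nat.sub (T_fi u) (Nat.mod (T_fi u) M)) (Nat.mod (T_fi u) M) u) (lF [T_c, T_d, T_d, T_bi, T_f, T_c, T_bi] M (Nat.sub (T_fi u) (Nat.mod (T_fi u) M)) (Nat.mod (T_fi u) M) u) (Nat.ble (nat_lit 42) j)
noncomputable def dp_fi_30 (j u : ℕ) : Bool :=
  Bool.rec (motive := fun _ => Bool) (lF [T_bi, T_c, T_f, T_b, T_fi, T_c, T_c] M (Nat.sub (T_fi u) (Nat.mod (T_fi u) M)) (Nat.mod (T_fi u) M) u) (lF [T_b, T_c, T_d, T_c, T_bi, T_di, T_c] M (Nat.sub (T_fi u) (Nat.mod (T_fi u) M)) (Nat.mod (T_fi u) M) u) (Nat.ble (nat_lit 45) j)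
noncomputable def dp_fi_31 (j u : ℕ) : Bool :=
  Bool.rec (motive := fun _ => Bool) (lS MG [T_d, T_f, T_di, T_f, T_di, T_di] M (Nat.sub (T_fi u) (Nat.mod (T_fi u) M)) (nat_lit 40) (Nat.mod (T_fi u) M) u) (dp_fi_30 j u) (Nat.ble (nat_lit 44) j)
noncomputable def dp_fi_32 (j u : ℕ) : Bool :=
  Bool.rec (motive := fun _ => Bool) (dp_fi_29 j u) (dp_fi_31 j u) (Nat.ble (nat_lit 43) j)
noncomputable def dp_fi_33 (j u : ℕ) : Bool :=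
  Bool.rec (motive := fun _ => Bool) (dp_fi_28 j u) (dp_fi_32 j u) (Nat.ble (nat_lit 41) j)
noncomputable def dp_fi_34 (j u : ℕ) : Bool :=
  Bool.rec (motive := fun _ => Bool) (dp_fi_25 j u) (dp_fi_33 j u) (Nat.ble (nat_lit 37) j)
noncomputable def dp_fi_35 (j u : ℕ) : Bool :=
  Bool.rec (motive := fun _ => Bool) (lF [T_c, T_c, T_fi, T_bi, T_c, T_f, T_b] M (Nat.sub (T_fi u) (Nat.mod (T_fi u) M)) (Nat.mod (T_fi u) M) u) (lS MG [T_d, T_fi, T_di, T_f, T_d, T_d] M (Nat.sub (T_fi u) (Nat.mod (T_fi u) M)) (nat_lit 40) (Nat.mod (T_fi u) M) u) (Nat.ble (nat_lit 47) j)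
noncomputable def dp_fi_36 (j u : ℕ) : Bool :=
  Bool.rec (motive := fun _ => Bool) (lF [T_di, T_b, T_c, T_c, T_d, T_bi, T_c] M (Nat.sub (T_fi u) (Nat.mod (T_fi u) M)) (Nat.mod (T_fi u) M) u) (lF [T_ci, T_b, T_f, T_ci, T_ci, T_f, T_bi] M (Nat.sub (T_fi u) (Nat.mod (T_fi u) M)) (Nat.mod (T_fi u) M) u) (Nat.ble (nat_lit 50) j)
noncomputable def dp_fi_37 (j u : ℕ) : Bool :=
  Bool.rec (motive := fun _ => Bool) (lS MG [T_di, T_ci, T_bi, T_ci, T_fi, T_d, T_bi] M (Nat.sub (T_fi u) (Nat.mod (T_fi u) M)) (nat_lit 40) (Nat.mod (T_fi u) M) u) (dp_fi_36 j u) (Nat.ble (nat_lit 49) j)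
noncomputable def dp_fi_38 (j u : ℕ) : Bool :=
  Bool.rec (motive := fun _ => Bool) (dp_fi_35 j u) (dp_fi_37 j u) (Nat.ble (nat_lit 48) j)
noncomputable def dp_fi_39 (j u : ℕ) : Bool :=
  Bool.rec (motive := fun _ => Bool) (lF [T_di, T_bi, T_c, T_b, T_d, T_ci, T_fi] M (Nat.sub (T_fi u) (Nat.mod (T_fi u) M)) (Nat.mod (T_fi u) M) u) (lS MG [T_di, T_f, T_d, T_d, T_fi, T_d] M (Nat.sub (T_fi u) (Nat.mod (T_fi u) M)) (nat_lit 40) (Nat.mod (T_fi u) M) u) (Nat.ble (nat_lit 53) j)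
noncomputable def dp_fi_40 (j u : ℕ) : Bool :=
  Bool.rec (motive := fun _ => Bool) (lF [T_d, T_bi, T_c, T_d, T_f, T_ci, T_b] M (Nat.sub (T_fi u) (Nat.mod (T_fi u) M)) (Nat.mod (T_fi u) M) u) (dp_fi_39 j u) (Nat.ble (nat_lit 52) j)
noncomputable def dp_fi_41 (j u : ℕ) : Bool :=
  Bool.rec (motive := fun _ => Bool) (lF [T_b, T_c, T_bi, T_di, T_ci, T_bi, T_di] M (Nat.sub (T_fi u) (Nat.mod (T_fi u) M)) (Nat.mod (T_fi u) M) u) (lF [T_d, T_ei, T_c, T_c, T_di, T_ci, T_d, T_e, T_c, T_bi] M (Nat.sub (T_fi u) (Nat.mod (T_fi u) M)) (Nat.mod (T_fi u) M) u) (Nat.ble (nat_lit 55) j)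
noncomputable def dp_fi_42 (j u : ℕ) : Bool :=
  Bool.rec (motive := fun _ => Bool) (lF [T_b, T_di, T_di, T_ci, T_f, T_b, T_ci] M (Nat.sub (T_fi u) (Nat.mod (T_fi u) M)) (Nat.mod (T_fi u) M) u) (lF [T_d, T_bi, T_fi, T_di, T_ci, T_bi, T_ci] M (Nat.sub (T_fi u) (Nat.mod (T_fi u) M)) (Nat.mod (T_fi u) M) u) (Nat.ble (nat_lit 57) j)
noncomputable def dp_fi_43 (j u : ℕ) : Bool :=
  Bool.rec (motive := fun _ => Bool) (dp_fi_41 j u) (dp_fi_42 j u) (Nat.ble (nat_lit 56) j)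
noncomputable def dp_fi_44 (j u : ℕ) : Bool :=
  Bool.rec (motive := fun _ => Bool) (dp_fi_40 j u) (dp_fi_43 j u) (Nat.ble (nat_lit 54) j)
noncomputable def dp_fi_45 (j u : ℕ) : Bool :=
  Bool.rec (motive := fun _ => Bool) (dp_fi_38 j u) (dp_fi_44 j u) (Nat.ble (nat_lit 51) j)
noncomputable def dp_fi_46 (j u : ℕ) : Bool :=
  Bool.rec (motive := fun _ => Bool) (lF [T_di, T_ci, T_bi, T_ci, T_fi, T_d, T_bi] M (Nat.sub (T_fi u) (Nat.mod (T_fi u) M)) (Nat.mod (T_fi u) M) u) (lS MG [T_d, T_ci, T_ci, T_d, T_ci, T_d] M (Nat.sub (T_fi u) (Nat.mod (T_fi u) M)) (nat_lit 40) (Nat.mod (T_fi u) M) u) (Nat.ble (nat_lit 59) j)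
noncomputable def dp_fi_47 (j u : ℕ) : Bool :=
  Bool.rec (motive := fun _ => Bool) (lS MG [T_c, T_di, T_di, T_fi, T_c, T_di, T_di] M (Nat.sub (T_fi u) (Nat.mod (T_fi u) M)) (nat_lit 40) (Nat.mod (T_fi u) M) u) (lS MG [T_b, T_di, T_di, T_ci, T_f, T_b, T_ci] M (Nat.sub (T_fi u) (Nat.mod (T_fi u) M)) (nat_lit 40) (Nat.mod (T_fi u) M) u) (Nat.ble (nat_lit 61) j)
noncomputable def dp_fi_48 (j u : ℕ) : Bool :=
  Bool.rec (motive := fun _ => Bool) (dp_fi_46 j u) (dp_fi_47 j u) (Nat.ble (nat_lit 60) j)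
noncomputable def dp_fi_49 (j u : ℕ) : Bool :=
  Bool.rec (motive := fun _ => Bool) (lS MG [T_b, T_c, T_d, T_c, T_bi, T_di, T_c] M (Nat.sub (T_fi u) (Nat.mod (T_fi u) M)) (nat_lit 40) (Nat.mod (T_fi u) M) u) (lS MG [T_c, T_c, T_fi, T_bi, T_c, T_f, T_b] M (Nat.sub (T_fi u) (Nat.mod (T_fi u) M)) (nat_lit 40) (Nat.mod (T_fi u) M) u) (Nat.ble (nat_lit 63) j)
noncomputable def dp_fi_50 (j u : ℕ) : Bool :=
  Bool.rec (motive := fun _ => Bool) (lS MG [T_bi, T_d, T_ci, T_fi, T_bi, T_d, T_ci] M (Nat.sub (T_fi u) (Nat.mod (T_fi u) M)) (nat_lit 40) (Nat.mod (T_fi u) M) u) (lS MG [T_ci, T_b, T_f, T_ci, T_ci, T_f, T_bi] M (Nat.sub (T_fi u) (Nat.mod (T_fi u) M)) (nat_lit 40) (Nat.mod (T_fi u) M) u) (Nat.ble (nat_lit 66) j)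
noncomputable def dp_fi_51 (j u : ℕ) : Bool :=
  Bool.rec (motive := fun _ => Bool) (lS MG [T_fi, T_di, T_bi, T_c, T_b, T_d, T_ci] M (Nat.sub (T_fi u) (Nat.mod (T_fi u) M)) (nat_lit 40) (Nat.mod (T_fi u) M) u) (dp_fi_50 j u) (Nat.ble (nat_lit 65) j)
noncomputable def dp_fi_52 (j u : ℕ) : Bool :=
  Bool.rec (motive := fun _ => Bool) (dp_fi_49 j u) (dp_fi_51 j u) (Nat.ble (nat_lit 64) j)
noncomputable def dp_fi_53 (j u : ℕ) : Bool :=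
  Bool.rec (motive := fun _ => Bool) (dp_fi_48 j u) (dp_fi_52 j u) (Nat.ble (nat_lit 62) j)
noncomputable def dp_fi_54 (j u : ℕ) : Bool :=
  Bool.rec (motive := fun _ => Bool) (lS MG [T_bi, T_di, T_c, T_bi, T_d, T_fi, T_c] M (Nat.sub (T_fi u) (Nat.mod (T_fi u) M)) (nat_lit 40) (Nat.mod (T_fi u) M) u) (lS MG [T_d, T_d, T_b, T_c, T_bi, T_ci, T_bi] M (Nat.sub (T_fi u) (Nat.mod (T_fi u) M)) (nat_lit 40) (Nat.mod (T_fi u) M) u) (Nat.ble (nat_lit 69) j)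
noncomputable def dp_fi_55 (j u : ℕ) : Bool :=
  Bool.rec (motive := fun _ => Bool) (lS MG [T_d, T_c, T_b, T_f, T_d, T_d, T_b] M (Nat.sub (T_fi u) (Nat.mod (T_fi u) M)) (nat_lit 40) (Nat.mod (T_fi u) M) u) (dp_fi_54 j u) (Nat.ble (nat_lit 68) j)
noncomputable def dp_fi_56 (j u : ℕ) : Bool :=
  Bool.rec (motive := fun _ => Bool) (lF [T_ci, T_di, T_ei, T_ci, T_fi, T_c, T_d, T_e, T_d, T_fi] M (Nat.sub (T_fi u) (Nat.mod (T_fi u) M)) (Nat.mod (T_fi u) M) u) (lS MG [T_d, T_ei, T_c, T_c, T_di, T_ci, T_d, T_e, T_c, T_bi] M (Nat.sub (T_fi u) (Nat.mod (T_fi u) M)) (nat_lit 40) (Nat.mod (T_fi u) M) u) (Nat.ble (nat_lit 72) j)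
noncomputable def dp_fi_57 (j u : ℕ) : Bool :=
  Bool.rec (motive := fun _ => Bool) (lS MG [T_di, T_b, T_c, T_c, T_d, T_bi, T_c] M (Nat.sub (T_fi u) (Nat.mod (T_fi u) M)) (nat_lit 40) (Nat.mod (T_fi u) M) u) (dp_fi_56 j u) (Nat.ble (nat_lit 71) j)
noncomputable def dp_fi_58 (j u : ℕ) : Bool :=
  Bool.rec (motive := fun _ => Bool) (dp_fi_55 j u) (dp_fi_57 j u) (Nat.ble (nat_lit 70) j)
noncomputable def dp_fi_59 (j u : ℕ) : Bool :=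
  Bool.rec (motive := fun _ => Bool) (lF [T_b, T_c, T_di, T_bi, T_d, T_b, T_d, T_ci, T_bi] M (Nat.sub (T_fi u) (Nat.mod (T_fi u) M)) (Nat.mod (T_fi u) M) u) (lS MG [T_bi, T_ci, T_di, T_f, T_bi, T_di, T_di] M (Nat.sub (T_fi u) (Nat.mod (T_fi u) M)) (nat_lit 40) (Nat.mod (T_fi u) M) u) (Nat.ble (nat_lit 74) j)
noncomputable def dp_fi_60 (j u : ℕ) : Bool :=
  Bool.rec (motive := fun _ => Bool) (lS MG [T_c, T_d, T_d, T_bi, T_f, T_c, T_bi] M (Nat.sub (T_fi u) (Nat.mod (T_fi u) M)) (nat_lit 40) (Nat.mod (T_fi u) M) u) (lS MG [T_c, T_fi, T_bi, T_di, T_c, T_bi, T_d] M (Nat.sub (T_fi u) (Nat.mod (T_fi u) M)) (nat_lit 40) (Nat.mod (T_fi u) M) u) (Nat.ble (nat_lit 77) j)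
noncomputable def dp_fi_61 (j u : ℕ) : Bool :=
  Bool.rec (motive := fun _ => Bool) (lS MG [T_di, T_ci, T_b, T_di, T_f, T_bi, T_c] M (Nat.sub (T_fi u) (Nat.mod (T_fi u) M)) (nat_lit 40) (Nat.mod (T_fi u) M) u) (dp_fi_60 j u) (Nat.ble (nat_lit 76) j)
noncomputable def dp_fi_62 (j u : ℕ) : Bool :=
  Bool.rec (motive := fun _ => Bool) (dp_fi_59 j u) (dp_fi_61 j u) (Nat.ble (nat_lit 75) j)
noncomputable def dp_fi_63 (j u : ℕ) : Bool :=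
  Bool.rec (motive := fun _ => Bool) (lF [T_d, T_bi, T_bi, T_c, T_b, T_ci, T_di, T_bi] M (Nat.sub (T_fi u) (Nat.mod (T_fi u) M)) (Nat.mod (T_fi u) M) u) (lF [T_di, T_bi, T_fi, T_d, T_f, T_bi, T_bi, T_bi] M (Nat.sub (T_fi u) (Nat.mod (T_fi u) M)) (Nat.mod (T_fi u) M) u) (Nat.ble (nat_lit 79) j)
noncomputable def dp_fi_64 (j u : ℕ) : Bool :=
  Bool.rec (motive := fun _ => Bool) (lF [T_d, T_f, T_bi, T_bi, T_bi, T_fi, T_di, T_bi] M (Nat.sub (T_fi u) (Nat.mod (T_fi u) M)) (Nat.mod (T_fi u) M) u) (lS MG [T_di, T_bi, T_c, T_b, T_d, T_ci, T_fi] M (Nat.sub (T_fi u) (Nat.mod (T_fi u) M)) (nat_lit 40) (Nat.mod (T_fi u) M) u) (Nat.ble (nat_lit 81) j)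
noncomputable def dp_fi_65 (j u : ℕ) : Bool :=
  Bool.rec (motive := fun _ => Bool) (dp_fi_63 j u) (dp_fi_64 j u) (Nat.ble (nat_lit 80) j)
noncomputable def dp_fi_66 (j u : ℕ) : Bool :=
  Bool.rec (motive := fun _ => Bool) (lF [T_bi, T_c, T_c, T_d, T_ci, T_b, T_b, T_di] M (Nat.sub (T_fi u) (Nat.mod (T_fi u) M)) (Nat.mod (T_fi u) M) u) (lS MG [T_c, T_d, T_e, T_d, T_fi, T_fi, T_ci, T_di, T_ei, T_ci] M (Nat.sub (T_fi u) (Nat.mod (T_fi u) M)) (nat_lit 40) (Nat.mod (T_fi u) M) u) (Nat.ble (nat_lit 83) j)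
noncomputable def dp_fi_67 (j u : ℕ) : Bool :=
  Bool.rec (motive := fun _ => Bool) (lS MG [T_bi, T_c, T_c, T_d, T_ci, T_b, T_b, T_di] M (Nat.sub (T_fi u) (Nat.mod (T_fi u) M)) (nat_lit 40) (Nat.mod (T_fi u) M) u) (lF [T_di, T_f, T_b, T_d, T_f, T_b, T_b, T_b] M (Nat.sub (T_fi u) (Nat.mod (T_fi u) M)) (Nat.mod (T_fi u) M) u) (Nat.ble (nat_lit 85) j)
noncomputable def dp_fi_68 (j u : ℕ) : Bool :=
  Bool.rec (motive := fun _ => Bool) (dp_fi_66 j u) (dp_fi_67 j u) (Nat.ble (nat_lit 84) j)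
noncomputable def dp_fi_69 (j u : ℕ) : Bool :=
  Bool.rec (motive := fun _ => Bool) (dp_fi_65 j u) (dp_fi_68 j u) (Nat.ble (nat_lit 82) j)
noncomputable def dp_fi_70 (j u : ℕ) : Bool :=
  Bool.rec (motive := fun _ => Bool) (dp_fi_62 j u) (dp_fi_69 j u) (Nat.ble (nat_lit 78) j)
noncomputable def dp_fi_71 (j u : ℕ) : Bool :=
  Bool.rec (motive := fun _ => Bool) (dp_fi_58 j u) (dp_fi_70 j u) (Nat.ble (nat_lit 73) j)
noncomputable def dp_fi_72 (j u : ℕ) : Bool :=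
  Bool.rec (motive := fun _ => Bool) (dp_fi_53 j u) (dp_fi_71 j u) (Nat.ble (nat_lit 67) j)
noncomputable def dp_fi_73 (j u : ℕ) : Bool :=
  Bool.rec (motive := fun _ => Bool) (dp_fi_45 j u) (dp_fi_72 j u) (Nat.ble (nat_lit 58) j)
noncomputable def dp_fi_74 (j u : ℕ) : Bool :=
  Bool.rec (motive := fun _ => Bool) (dp_fi_34 j u) (dp_fi_73 j u) (Nat.ble (nat_lit 46) j)
noncomputable def dp_fi_75 (j u : ℕ) : Bool :=
  Bool.rec (motive := fun _ => Bool) (dp_fi_21 j u) (dp_fi_74 j u) (Nat.ble (nat_lit 32) j)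
noncomputable def dp_fi_76 (j u : ℕ) : Bool :=
  Bool.rec (motive := fun _ => Bool) (dp_fi_13 j u) (dp_fi_75 j u) (Nat.ble (nat_lit 23) j)
noncomputable def dp_fi_77 (j u : ℕ) : Bool :=
  Bool.rec (motive := fun _ => Bool) (dp_fi_5 j u) (dp_fi_76 j u) (Nat.ble (nat_lit 14) j)
noncomputable def dp_fi_78 (j u : ℕ) : Bool :=
  Bool.rec (motive := fun _ => Bool) (Bool.rec (motive := fun _ => Bool) (lF3 T_z T_f T_zi M (Nat.sub (T_fi u) (Nat.mod (T_fi u) M)) (Nat.mod (T_fi u) M) u) (dp_fi_1 j u) (Nat.ble (nat_lit 6) j)) (dp_fi_77 j u) (Nat.ble (nat_lit 9) j)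
noncomputable def dp_fi_79 (j u : ℕ) : Bool :=
  Bool.rec (motive := fun _ => Bool) (Bool.rec (motive := fun _ => Bool) (lS MG [T_f] M (Nat.sub (T_fi u) (Nat.mod (T_fi u) M)) (nat_lit 40) (Nat.mod (T_fi u) M) u) (lF3 T_zi T_f T_z M (Nat.sub (T_fi u) (Nat.mod (T_fi u) M)) (Nat.mod (T_fi u) M) u) (Nat.ble (nat_lit 4) j)) (dp_fi_78 j u) (Nat.ble (nat_lit 5) j)
noncomputable def disp_fi (j u : ℕ) : Bool :=
  Bool.rec (motive := fun _ => Bool) (Bool.rec (motive := fun _ => Bool) (lF1 T_f M (Nat.sub (T_fi u) (Nat.mod (T_fi u) M)) (Nat.mod (T_fi u) M) u) (Bool.rec (motive := fun _ => Bool) (lDef P (nat_lit 6) u (Nat.mod (T_fi u) M)) (lDef P (nat_lit 7) (Nat.mod (T_fi u) M) u) (Nat.ble (nat_lit 2) j)) (Nat.ble (nat_lit 1) j)) (dp_fi_79 j u) (Nat.ble (nat_lit 3) j)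
noncomputable def chk_fi (j u : ℕ) : Bool :=
  Bool.rec (motive := fun _ => Bool) (disp_fi j u) (Nat.ble (Nat.succ (MG u)) A) (Nat.ble A (T_fi u))
noncomputable def dp_e_0 (j u : ℕ) : Bool :=
  Bool.rec (motive := fun _ => Bool) (lF3 T_zi T_ei T_z M (Nat.sub (T_e u) (Nat.mod (T_e u) M)) (Nat.mod (T_e u) M) u) (lF [T_e, T_e, T_e, T_e] M (Nat.sub (T_e u) (Nat.mod (T_e u) M)) (Nat.mod (T_e u) M) u) (Nat.ble (nat_lit 5) j)
noncomputable def dp_e_1 (j u : ℕ) : Bool :=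
  Bool.rec (motive := fun _ => Bool) (lS MG [T_zi, T_ei, T_z] M (Nat.sub (T_e u) (Nat.mod (T_e u) M)) (nat_lit 40) (Nat.mod (T_e u) M) u) (lS MG [T_e, T_e, T_e, T_e] M (Nat.sub (T_e u) (Nat.mod (T_e u) M)) (nat_lit 40) (Nat.mod (T_e u) M) u) (Nat.ble (nat_lit 8) j)
noncomputable def dp_e_2 (j u : ℕ) : Bool :=
  Bool.rec (motive := fun _ => Bool) (lF3 T_z T_ei T_zi M (Nat.sub (T_e u) (Nat.mod (T_e u) M)) (Nat.mod (T_e u) M) u) (dp_e_1 j u) (Nat.ble (nat_lit 7) j)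
noncomputable def dp_e_3 (j u : ℕ) : Bool :=
  Bool.rec (motive := fun _ => Bool) (lS MG [T_fi, T_d, T_ci, T_e, T_c, T_di, T_f] M (Nat.sub (T_e u) (Nat.mod (T_e u) M)) (nat_lit 40) (Nat.mod (T_e u) M) u) (lF [T_fi, T_d, T_ci, T_e, T_c, T_di, T_f] M (Nat.sub (T_e u) (Nat.mod (T_e u) M)) (Nat.mod (T_e u) M) u) (Nat.ble (nat_lit 11) j)
noncomputable def dp_e_4 (j u : ℕ) : Bool :=
  Bool.rec (motive := fun _ => Bool) (lS MG [T_c, T_di, T_f, T_e, T_fi, T_d, T_ci] M (Nat.sub (T_e u) (Nat.mod (T_e u) M)) (nat_lit 40) (Nat.mod (T_e u) M) u) (dp_e_3 j u) (Nat.ble (nat_lit 10) j)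
noncomputable def dp_e_5 (j u : ℕ) : Bool :=
  Bool.rec (motive := fun _ => Bool) (lS MG [T_z, T_ei, T_zi] M (Nat.sub (T_e u) (Nat.mod (T_e u) M)) (nat_lit 40) (Nat.mod (T_e u) M) u) (lS MG [T_bi, T_e, T_c, T_e, T_bi, T_z, T_e, T_c] M (Nat.sub (T_e u) (Nat.mod (T_e u) M)) (nat_lit 40) (Nat.mod (T_e u) M) u) (Nat.ble (nat_lit 14) j)
noncomputable def dp_e_6 (j u : ℕ) : Bool :=
  Bool.rec (motive := fun _ => Bool) (lF [T_c, T_di, T_f, T_e, T_fi, T_d, T_ci] M (Nat.sub (T_e u) (Nat.mod (T_e u) M)) (Nat.mod (T_e u) M) u) (dp_e_5 j u) (Nat.ble (nat_lit 13) j)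
noncomputable def dp_e_7 (j u : ℕ) : Bool :=
  Bool.rec (motive := fun _ => Bool) (lS MG [T_c, T_e, T_bi, T_z, T_e, T_c, T_e, T_bi] M (Nat.sub (T_e u) (Nat.mod (T_e u) M)) (nat_lit 40) (Nat.mod (T_e u) M) u) (lS MG [T_c, T_e, T_bi, T_e, T_c, T_e, T_bi, T_z] M (Nat.sub (T_e u) (Nat.mod (T_e u) M)) (nat_lit 40) (Nat.mod (T_e u) M) u) (Nat.ble (nat_lit 16) j)
noncomputable def dp_e_8 (j u : ℕ) : Bool :=
  Bool.rec (motive := fun _ => Bool) (lS MG [T_bi, T_z, T_e, T_c, T_e, T_bi, T_e, T_c] M (Nat.sub (T_e u) (Nat.mod (T_e u) M)) (nat_lit 40) (Nat.mod (T_e u) M) u) (lF [T_bi, T_e, T_c, T_e, T_bi, T_z, T_e, T_c] M (Nat.sub (T_e u) (Nat.mod (T_e u) M)) (Nat.mod (T_e u) M) u) (Nat.ble (nat_lit 18) j)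
noncomputable def dp_e_9 (j u : ℕ) : Bool :=
  Bool.rec (motive := fun _ => Bool) (lF [T_c, T_e, T_bi, T_e, T_c, T_e, T_bi, T_z] M (Nat.sub (T_e u) (Nat.mod (T_e u) M)) (Nat.mod (T_e u) M) u) (lF [T_c, T_e, T_bi, T_z, T_e, T_c, T_e, T_bi] M (Nat.sub (T_e u) (Nat.mod (T_e u) M)) (Nat.mod (T_e u) M) u) (Nat.ble (nat_lit 20) j)
noncomputable def dp_e_10 (j u : ℕ) : Bool :=
  Bool.rec (motive := fun _ => Bool) (lF [T_bi, T_z, T_e, T_c, T_e, T_bi, T_e, T_c] M (Nat.sub (T_e u) (Nat.mod (T_e u) M)) (Nat.mod (T_e u) M) u) (lS MG [T_ci, T_bi, T_di, T_c, T_ei, T_ci, T_d, T_b, T_c] M (Nat.sub (T_e u) (Nat.mod (T_e u) M)) (nat_lit 40) (Nat.mod (T_e u) M) u) (Nat.ble (nat_lit 22) j)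
noncomputable def dp_e_11 (j u : ℕ) : Bool :=
  Bool.rec (motive := fun _ => Bool) (lS MG [T_c, T_bi, T_fi, T_d, T_ei, T_c, T_c, T_di, T_ci, T_d] M (Nat.sub (T_e u) (Nat.mod (T_e u) M)) (nat_lit 40) (Nat.mod (T_e u) M) u) (lF [T_di, T_f, T_b, T_ci, T_ei, T_di, T_c, T_d, T_ci, T_ci] M (Nat.sub (T_e u) (Nat.mod (T_e u) M)) (Nat.mod (T_e u) M) u) (Nat.ble (nat_lit 25) j)
noncomputable def dp_e_12 (j u : ℕ) : Bool :=
  Bool.rec (motive := fun _ => Bool) (lS MG [T_bi, T_bi, T_c, T_bi, T_e, T_b, T_ci, T_b, T_b] M (Nat.sub (T_e u) (Nat.mod (T_e u) M)) (nat_lit 40) (Nat.mod (T_e u) M) u) (dp_e_11 j u) (Nat.ble (nat_lit 24) j)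
noncomputable def dp_e_13 (j u : ℕ) : Bool :=
  Bool.rec (motive := fun _ => Bool) (lS MG [T_b, T_ci, T_b, T_b, T_e, T_bi, T_bi, T_c, T_bi] M (Nat.sub (T_e u) (Nat.mod (T_e u) M)) (nat_lit 40) (Nat.mod (T_e u) M) u) (lF [T_b, T_ci, T_b, T_b, T_e, T_bi, T_bi, T_c, T_bi] M (Nat.sub (T_e u) (Nat.mod (T_e u) M)) (Nat.mod (T_e u) M) u) (Nat.ble (nat_lit 27) j)
noncomputable def dp_e_14 (j u : ℕ) : Bool :=
  Bool.rec (motive := fun _ => Bool) (lS MG [T_d, T_fi, T_fi, T_ci, T_di, T_ei, T_ci, T_fi, T_c, T_d] M (Nat.sub (T_e u) (Nat.mod (T_e u) M)) (nat_lit 40) (Nat.mod (T_e u) M) u) (lF [T_ci, T_bi, T_di, T_c, T_ei, T_ci, T_d, T_b, T_c] M (Nat.sub (T_e u) (Nat.mod (T_e u) M)) (Nat.mod (T_e u) M) u) (Nat.ble (nat_lit 29) j)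
noncomputable def dp_e_15 (j u : ℕ) : Bool :=
  Bool.rec (motive := fun _ => Bool) (lF [T_d, T_c, T_f, T_f, T_di, T_ei, T_di, T_ci, T_f, T_c] M (Nat.sub (T_e u) (Nat.mod (T_e u) M)) (Nat.mod (T_e u) M) u) (lF [T_ci, T_d, T_b, T_c, T_ei, T_ci, T_bi, T_di, T_c] M (Nat.sub (T_e u) (Nat.mod (T_e u) M)) (Nat.mod (T_e u) M) u) (Nat.ble (nat_lit 32) j)
noncomputable def dp_e_16 (j u : ℕ) : Bool :=
  Bool.rec (motive := fun _ => Bool) (lF [T_bi, T_bi, T_c, T_bi, T_e, T_b, T_ci, T_b, T_b] M (Nat.sub (T_e u) (Nat.mod (T_e u) M)) (Nat.mod (T_e u) M) u) (dp_e_15 j u) (Nat.ble (nat_lit 31) j)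
noncomputable def dp_e_17 (j u : ℕ) : Bool :=
  Bool.rec (motive := fun _ => Bool) (dp_e_14 j u) (dp_e_16 j u) (Nat.ble (nat_lit 30) j)
noncomputable def dp_e_18 (j u : ℕ) : Bool :=
  Bool.rec (motive := fun _ => Bool) (dp_e_13 j u) (dp_e_17 j u) (Nat.ble (nat_lit 28) j)
noncomputable def dp_e_19 (j u : ℕ) : Bool :=
  Bool.rec (motive := fun _ => Bool) (dp_e_12 j u) (dp_e_18 j u) (Nat.ble (nat_lit 26) j)
noncomputable def dp_e_20 (j u : ℕ) : Bool :=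
  Bool.rec (motive := fun _ => Bool) (dp_e_10 j u) (dp_e_19 j u) (Nat.ble (nat_lit 23) j)
noncomputable def dp_e_21 (j u : ℕ) : Bool :=
  Bool.rec (motive := fun _ => Bool) (dp_e_9 j u) (dp_e_20 j u) (Nat.ble (nat_lit 21) j)
noncomputable def dp_e_22 (j u : ℕ) : Bool :=
  Bool.rec (motive := fun _ => Bool) (dp_e_8 j u) (dp_e_21 j u) (Nat.ble (nat_lit 19) j)
noncomputable def dp_e_23 (j u : ℕ) : Bool :=
  Bool.rec (motive := fun _ => Bool) (dp_e_7 j u) (dp_e_22 j u) (Nat.ble (nat_lit 17) j)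
noncomputable def dp_e_24 (j u : ℕ) : Bool :=
  Bool.rec (motive := fun _ => Bool) (dp_e_6 j u) (dp_e_23 j u) (Nat.ble (nat_lit 15) j)
noncomputable def dp_e_25 (j u : ℕ) : Bool :=
  Bool.rec (motive := fun _ => Bool) (dp_e_4 j u) (dp_e_24 j u) (Nat.ble (nat_lit 12) j)
noncomputable def dp_e_26 (j u : ℕ) : Bool :=
  Bool.rec (motive := fun _ => Bool) (dp_e_2 j u) (dp_e_25 j u) (Nat.ble (nat_lit 9) j)
noncomputable def dp_e_27 (j u : ℕ) : Bool :=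
  Bool.rec (motive := fun _ => Bool) (dp_e_0 j u) (dp_e_26 j u) (Nat.ble (nat_lit 6) j)
noncomputable def disp_e (j u : ℕ) : Bool :=
  Bool.rec (motive := fun _ => Bool) (Bool.rec (motive := fun _ => Bool) (lDef P (nat_lit 8) (Nat.mod (T_e u) M) u) (lDef P (nat_lit 9) u (Nat.mod (T_e u) M)) (Nat.ble (nat_lit 1) j)) (Bool.rec (motive := fun _ => Bool) (Bool.rec (motive := fun _ => Bool) (lF1 T_ei M (Nat.sub (T_e u) (Nat.mod (T_e u) M)) (Nat.mod (T_e u) M) u) (lS MG [T_ei] M (Nat.sub (T_e u) (Nat.mod (T_e u) M)) (nat_lit 40) (Nat.mod (T_e u) M) u) (Nat.ble (nat_lit 3) j)) (dp_e_27 j u) (Nat.ble (nat_lit 4) j)) (Nat.ble (nat_lit 2) j)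
noncomputable def chk_e (j u : ℕ) : Bool :=
  Bool.rec (motive := fun _ => Bool) (disp_e j u) (Nat.ble (Nat.succ (MG u)) A) (Nat.ble A (T_e u))
noncomputable def dp_ei_0 (j u : ℕ) : Bool :=
  Bool.rec (motive := fun _ => Bool) (lS MG [T_z, T_e, T_zi] M (Nat.sub (T_ei u) (Nat.mod (T_ei u) M)) (nat_lit 40) (Nat.mod (T_ei u) M) u) (lS MG [T_ei, T_ei, T_ei, T_ei] M (Nat.sub (T_ei u) (Nat.mod (T_ei u) M)) (nat_lit 40) (Nat.mod (T_ei u) M) u) (Nat.ble (nat_lit 7) j)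
noncomputable def dp_ei_1 (j u : ℕ) : Bool :=
  Bool.rec (motive := fun _ => Bool) (lF3 T_z T_e T_zi M (Nat.sub (T_ei u) (Nat.mod (T_ei u) M)) (Nat.mod (T_ei u) M) u) (dp_ei_0 j u) (Nat.ble (nat_lit 6) j)
noncomputable def dp_ei_2 (j u : ℕ) : Bool :=
  Bool.rec (motive := fun _ => Bool) (lS MG [T_fi, T_d, T_ci, T_ei, T_c, T_di, T_f] M (Nat.sub (T_ei u) (Nat.mod (T_ei u) M)) (nat_lit 40) (Nat.mod (T_ei u) M) u) (lS MG [T_c, T_di, T_f, T_ei, T_fi, T_d, T_ci] M (Nat.sub (T_ei u) (Nat.mod (T_ei u) M)) (nat_lit 40) (Nat.mod (T_ei u) M) u) (Nat.ble (nat_lit 10) j)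
noncomputable def dp_ei_3 (j u : ℕ) : Bool :=
  Bool.rec (motive := fun _ => Bool) (lF [T_ei, T_ei, T_ei, T_ei] M (Nat.sub (T_ei u) (Nat.mod (T_ei u) M)) (Nat.mod (T_ei u) M) u) (dp_ei_2 j u) (Nat.ble (nat_lit 9) j)
noncomputable def dp_ei_4 (j u : ℕ) : Bool :=
  Bool.rec (motive := fun _ => Bool) (lF [T_c, T_di, T_f, T_ei, T_fi, T_d, T_ci] M (Nat.sub (T_ei u) (Nat.mod (T_ei u) M)) (Nat.mod (T_ei u) M) u) (lS MG [T_zi, T_e, T_z] M (Nat.sub (T_ei u) (Nat.mod (T_ei u) M)) (nat_lit 40) (Nat.mod (T_ei u) M) u) (Nat.ble (nat_lit 13) j)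
noncomputable def dp_ei_5 (j u : ℕ) : Bool :=
  Bool.rec (motive := fun _ => Bool) (lF [T_fi, T_d, T_ci, T_ei, T_c, T_di, T_f] M (Nat.sub (T_ei u) (Nat.mod (T_ei u) M)) (Nat.mod (T_ei u) M) u) (dp_ei_4 j u) (Nat.ble (nat_lit 12) j)
noncomputable def dp_ei_6 (j u : ℕ) : Bool :=
  Bool.rec (motive := fun _ => Bool) (lS MG [T_b, T_ei, T_ci, T_ei, T_zi, T_b, T_ei, T_ci] M (Nat.sub (T_ei u) (Nat.mod (T_ei u) M)) (nat_lit 40) (Nat.mod (T_ei u) M) u) (lS MG [T_ci, T_ei, T_b, T_ei, T_ci, T_ei, T_zi, T_b] M (Nat.sub (T_ei u) (Nat.mod (T_ei u) M)) (nat_lit 40) (Nat.mod (T_ei u) M) u) (Nat.ble (nat_lit 15) j)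
noncomputable def dp_ei_7 (j u : ℕ) : Bool :=
  Bool.rec (motive := fun _ => Bool) (lS MG [T_zi, T_b, T_ei, T_ci, T_ei, T_b, T_ei, T_ci] M (Nat.sub (T_ei u) (Nat.mod (T_ei u) M)) (nat_lit 40) (Nat.mod (T_ei u) M) u) (lS MG [T_ci, T_ei, T_zi, T_b, T_ei, T_ci, T_ei, T_b] M (Nat.sub (T_ei u) (Nat.mod (T_ei u) M)) (nat_lit 40) (Nat.mod (T_ei u) M) u) (Nat.ble (nat_lit 17) j)
noncomputable def dp_ei_8 (j u : ℕ) : Bool :=
  Bool.rec (motive := fun _ => Bool) (lF [T_ci, T_ei, T_b, T_ei, T_ci, T_ei, T_zi, T_b] M (Nat.sub (T_ei u) (Nat.mod (T_ei u) M)) (Nat.mod (T_ei u) M) u) (lF [T_b, T_ei, T_ci, T_ei, T_zi, T_b, T_ei, T_ci] M (Nat.sub (T_ei u) (Nat.mod (T_ei u) M)) (Nat.mod (T_ei u) M) u) (Nat.ble (nat_lit 19) j)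
noncomputable def dp_ei_9 (j u : ℕ) : Bool :=
  Bool.rec (motive := fun _ => Bool) (lF [T_ci, T_ei, T_zi, T_b, T_ei, T_ci, T_ei, T_b] M (Nat.sub (T_ei u) (Nat.mod (T_ei u) M)) (Nat.mod (T_ei u) M) u) (lF [T_bi, T_bi, T_c, T_bi, T_ei, T_b, T_ci, T_b, T_b] M (Nat.sub (T_ei u) (Nat.mod (T_ei u) M)) (Nat.mod (T_ei u) M) u) (Nat.ble (nat_lit 21) j)
noncomputable def dp_ei_10 (j u : ℕ) : Bool :=
  Bool.rec (motive := fun _ => Bool) (lF [T_zi, T_b, T_ei, T_ci, T_ei, T_b, T_ei, T_ci] M (Nat.sub (T_ei u) (Nat.mod (T_ei u) M)) (Nat.mod (T_ei u) M) u) (lS MG [T_ci, T_bi, T_di, T_c, T_e, T_ci, T_d, T_b, T_c] M (Nat.sub (T_ei u) (Nat.mod (T_ei u) M)) (nat_lit 40) (Nat.mod (T_ei u) M) u) (Nat.ble (nat_lit 23) j)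
noncomputable def dp_ei_11 (j u : ℕ) : Bool :=
  Bool.rec (motive := fun _ => Bool) (lS MG [T_b, T_ci, T_b, T_b, T_ei, T_bi, T_bi, T_c, T_bi] M (Nat.sub (T_ei u) (Nat.mod (T_ei u) M)) (nat_lit 40) (Nat.mod (T_ei u) M) u) (lF [T_ci, T_d, T_b, T_c, T_e, T_ci, T_bi, T_di, T_c] M (Nat.sub (T_ei u) (Nat.mod (T_ei u) M)) (Nat.mod (T_ei u) M) u) (Nat.ble (nat_lit 25) j)
noncomputable def dp_ei_12 (j u : ℕ) : Bool :=
  Bool.rec (motive := fun _ => Bool) (lF [T_ci, T_bi, T_di, T_c, T_e, T_ci, T_d, T_b, T_c] M (Nat.sub (T_ei u) (Nat.mod (T_ei u) M)) (Nat.mod (T_ei u) M) u) (lS MG [T_di, T_c, T_d, T_ci, T_ci, T_e, T_di, T_f, T_b, T_ci] M (Nat.sub (T_ei u) (Nat.mod (T_ei u) M)) (nat_lit 40) (Nat.mod (T_ei u) M) u) (Nat.ble (nat_lit 28) j)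
noncomputable def dp_ei_13 (j u : ℕ) : Bool :=
  Bool.rec (motive := fun _ => Bool) (lS MG [T_ci, T_fi, T_c, T_d, T_e, T_d, T_fi, T_fi, T_ci, T_di] M (Nat.sub (T_ei u) (Nat.mod (T_ei u) M)) (nat_lit 40) (Nat.mod (T_ei u) M) u) (dp_ei_12 j u) (Nat.ble (nat_lit 27) j)
noncomputable def dp_ei_14 (j u : ℕ) : Bool :=
  Bool.rec (motive := fun _ => Bool) (dp_ei_11 j u) (dp_ei_13 j u) (Nat.ble (nat_lit 26) j)
noncomputable def dp_ei_15 (j u : ℕ) : Bool :=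
  Bool.rec (motive := fun _ => Bool) (dp_ei_10 j u) (dp_ei_14 j u) (Nat.ble (nat_lit 24) j)
noncomputable def dp_ei_16 (j u : ℕ) : Bool :=
  Bool.rec (motive := fun _ => Bool) (dp_ei_9 j u) (dp_ei_15 j u) (Nat.ble (nat_lit 22) j)
noncomputable def dp_ei_17 (j u : ℕ) : Bool :=
  Bool.rec (motive := fun _ => Bool) (dp_ei_8 j u) (dp_ei_16 j u) (Nat.ble (nat_lit 20) j)
noncomputable def dp_ei_18 (j u : ℕ) : Bool :=
  Bool.rec (motive := fun _ => Bool) (dp_ei_7 j u) (dp_ei_17 j u) (Nat.ble (nat_lit 18) j)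
noncomputable def dp_ei_19 (j u : ℕ) : Bool :=
  Bool.rec (motive := fun _ => Bool) (dp_ei_6 j u) (dp_ei_18 j u) (Nat.ble (nat_lit 16) j)
noncomputable def dp_ei_20 (j u : ℕ) : Bool :=
  Bool.rec (motive := fun _ => Bool) (dp_ei_5 j u) (dp_ei_19 j u) (Nat.ble (nat_lit 14) j)
noncomputable def dp_ei_21 (j u : ℕ) : Bool :=
  Bool.rec (motive := fun _ => Bool) (dp_ei_3 j u) (dp_ei_20 j u) (Nat.ble (nat_lit 11) j)
noncomputable def dp_ei_22 (j u : ℕ) : Bool :=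
  Bool.rec (motive := fun _ => Bool) (dp_ei_1 j u) (dp_ei_21 j u) (Nat.ble (nat_lit 8) j)
noncomputable def dp_ei_23 (j u : ℕ) : Bool :=
  Bool.rec (motive := fun _ => Bool) (Bool.rec (motive := fun _ => Bool) (lS MG [T_e] M (Nat.sub (T_ei u) (Nat.mod (T_ei u) M)) (nat_lit 40) (Nat.mod (T_ei u) M) u) (lF3 T_zi T_e T_z M (Nat.sub (T_ei u) (Nat.mod (T_ei u) M)) (Nat.mod (T_ei u) M) u) (Nat.ble (nat_lit 4) j)) (dp_ei_22 j u) (Nat.ble (nat_lit 5) j)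
noncomputable def disp_ei (j u : ℕ) : Bool :=
  Bool.rec (motive := fun _ => Bool) (Bool.rec (motive := fun _ => Bool) (lDef P (nat_lit 8) u (Nat.mod (T_ei u) M)) (lDef P (nat_lit 9) (Nat.mod (T_ei u) M) u) (Nat.ble (nat_lit 1) j)) (Bool.rec (motive := fun _ => Bool) (lF1 T_e M (Nat.sub (T_ei u) (Nat.mod (T_ei u) M)) (Nat.mod (T_ei u) M) u) (dp_ei_23 j u) (Nat.ble (nat_lit 3) j)) (Nat.ble (nat_lit 2) j)
noncomputable def chk_ei (j u : ℕ) : Bool :=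
  Bool.rec (motive := fun _ => Bool) (disp_ei j u) (Nat.ble (Nat.succ (MG u)) A) (Nat.ble A (T_ei u))
noncomputable def dp_z_0 (j u : ℕ) : Bool :=
  Bool.rec (motive := fun _ => Bool) (lDef P (nat_lit 11) u (Nat.mod (T_z u) M)) (lF3 T_ei T_zi T_e M (Nat.sub (T_z u) (Nat.mod (T_z u) M)) (Nat.mod (T_z u) M) u) (Nat.ble (nat_lit 4) j)
noncomputable def dp_z_1 (j u : ℕ) : Bool :=
  Bool.rec (motive := fun _ => Bool) (lF3 T_fi T_zi T_f M (Nat.sub (T_z u) (Nat.mod (T_z u) M)) (Nat.mod (T_z u) M) u) (lF3 T_ci T_zi T_c M (Nat.sub (T_z u) (Nat.mod (T_z u) M)) (Nat.mod (T_z u) M) u) (Nat.ble (nat_lit 7) j)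
noncomputable def dp_z_2 (j u : ℕ) : Bool :=
  Bool.rec (motive := fun _ => Bool) (lF3 T_e T_zi T_ei M (Nat.sub (T_z u) (Nat.mod (T_z u) M)) (Nat.mod (T_z u) M) u) (dp_z_1 j u) (Nat.ble (nat_lit 6) j)
noncomputable def dp_z_3 (j u : ℕ) : Bool :=
  Bool.rec (motive := fun _ => Bool) (lF3 T_d T_zi T_di M (Nat.sub (T_z u) (Nat.mod (T_z u) M)) (Nat.mod (T_z u) M) u) (lF3 T_bi T_zi T_b M (Nat.sub (T_z u) (Nat.mod (T_z u) M)) (Nat.mod (T_z u) M) u) (Nat.ble (nat_lit 10) j)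
noncomputable def dp_z_4 (j u : ℕ) : Bool :=
  Bool.rec (motive := fun _ => Bool) (lF3 T_c T_zi T_ci M (Nat.sub (T_z u) (Nat.mod (T_z u) M)) (Nat.mod (T_z u) M) u) (dp_z_3 j u) (Nat.ble (nat_lit 9) j)
noncomputable def dp_z_5 (j u : ℕ) : Bool :=
  Bool.rec (motive := fun _ => Bool) (dp_z_2 j u) (dp_z_4 j u) (Nat.ble (nat_lit 8) j)
noncomputable def dp_z_6 (j u : ℕ) : Bool :=
  Bool.rec (motive := fun _ => Bool) (lF3 T_di T_zi T_d M (Nat.sub (T_z u) (Nat.mod (T_z u) M)) (Nat.mod (T_z u) M) u) (lF3 T_b T_zi T_bi M (Nat.sub (T_z u) (Nat.mod (T_z u) M)) (Nat.mod (T_z u) M) u) (Nat.ble (nat_lit 12) j)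
noncomputable def dp_z_7 (j u : ℕ) : Bool :=
  Bool.rec (motive := fun _ => Bool) (lF3 T_f T_zi T_fi M (Nat.sub (T_z u) (Nat.mod (T_z u) M)) (Nat.mod (T_z u) M) u) (lS MG [T_ei, T_zi, T_e] M (Nat.sub (T_z u) (Nat.mod (T_z u) M)) (nat_lit 40) (Nat.mod (T_z u) M) u) (Nat.ble (nat_lit 14) j)
noncomputable def dp_z_8 (j u : ℕ) : Bool :=
  Bool.rec (motive := fun _ => Bool) (dp_z_6 j u) (dp_z_7 j u) (Nat.ble (nat_lit 13) j)
noncomputable def dp_z_9 (j u : ℕ) : Bool :=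
  Bool.rec (motive := fun _ => Bool) (lS MG [T_e, T_zi, T_ei] M (Nat.sub (T_z u) (Nat.mod (T_z u) M)) (nat_lit 40) (Nat.mod (T_z u) M) u) (lS MG [T_fi, T_zi, T_f] M (Nat.sub (T_z u) (Nat.mod (T_z u) M)) (nat_lit 40) (Nat.mod (T_z u) M) u) (Nat.ble (nat_lit 16) j)
noncomputable def dp_z_10 (j u : ℕ) : Bool :=
  Bool.rec (motive := fun _ => Bool) (lS MG [T_c, T_zi, T_ci] M (Nat.sub (T_z u) (Nat.mod (T_z u) M)) (nat_lit 40) (Nat.mod (T_z u) M) u) (lS MG [T_f, T_zi, T_fi] M (Nat.sub (T_z u) (Nat.mod (T_z u) M)) (nat_lit 40) (Nat.mod (T_z u) M) u) (Nat.ble (nat_lit 18) j)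
noncomputable def dp_z_11 (j u : ℕ) : Bool :=
  Bool.rec (motive := fun _ => Bool) (dp_z_9 j u) (dp_z_10 j u) (Nat.ble (nat_lit 17) j)
noncomputable def dp_z_12 (j u : ℕ) : Bool :=
  Bool.rec (motive := fun _ => Bool) (lS MG [T_di, T_zi, T_d] M (Nat.sub (T_z u) (Nat.mod (T_z u) M)) (nat_lit 40) (Nat.mod (T_z u) M) u) (lS MG [T_d, T_zi, T_di] M (Nat.sub (T_z u) (Nat.mod (T_z u) M)) (nat_lit 40) (Nat.mod (T_z u) M) u) (Nat.ble (nat_lit 20) j)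
noncomputable def dp_z_13 (j u : ℕ) : Bool :=
  Bool.rec (motive := fun _ => Bool) (lS MG [T_bi, T_zi, T_b] M (Nat.sub (T_z u) (Nat.mod (T_z u) M)) (nat_lit 40) (Nat.mod (T_z u) M) u) (lS MG [T_ci, T_zi, T_c] M (Nat.sub (T_z u) (Nat.mod (T_z u) M)) (nat_lit 40) (Nat.mod (T_z u) M) u) (Nat.ble (nat_lit 22) j)
noncomputable def dp_z_14 (j u : ℕ) : Bool :=
  Bool.rec (motive := fun _ => Bool) (lS MG [T_e, T_c, T_e, T_bi, T_e, T_c, T_e, T_bi] M (Nat.sub (T_z u) (Nat.mod (T_z u) M)) (nat_lit 40) (Nat.mod (T_z u) M) u) (lF [T_e, T_c, T_e, T_bi, T_e, T_c, T_e, T_bi] M (Nat.sub (T_z u) (Nat.mod (T_z u) M)) (Nat.mod (T_z u) M) u) (Nat.ble (nat_lit 25) j)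
noncomputable def dp_z_15 (j u : ℕ) : Bool :=
  Bool.rec (motive := fun _ => Bool) (lS MG [T_b, T_zi, T_bi] M (Nat.sub (T_z u) (Nat.mod (T_z u) M)) (nat_lit 40) (Nat.mod (T_z u) M) u) (dp_z_14 j u) (Nat.ble (nat_lit 24) j)
noncomputable def dp_z_16 (j u : ℕ) : Bool :=
  Bool.rec (motive := fun _ => Bool) (dp_z_13 j u) (dp_z_15 j u) (Nat.ble (nat_lit 23) j)
noncomputable def dp_z_17 (j u : ℕ) : Bool :=
  Bool.rec (motive := fun _ => Bool) (dp_z_12 j u) (dp_z_16 j u) (Nat.ble (nat_lit 21) j)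
noncomputable def dp_z_18 (j u : ℕ) : Bool :=
  Bool.rec (motive := fun _ => Bool) (dp_z_11 j u) (dp_z_17 j u) (Nat.ble (nat_lit 19) j)
noncomputable def dp_z_19 (j u : ℕ) : Bool :=
  Bool.rec (motive := fun _ => Bool) (dp_z_8 j u) (dp_z_18 j u) (Nat.ble (nat_lit 15) j)
noncomputable def dp_z_20 (j u : ℕ) : Bool :=
  Bool.rec (motive := fun _ => Bool) (dp_z_5 j u) (dp_z_19 j u) (Nat.ble (nat_lit 11) j)
noncomputable def dp_z_21 (j u : ℕ) : Bool :=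
  Bool.rec (motive := fun _ => Bool) (Bool.rec (motive := fun _ => Bool) (lS MG [T_zi] M (Nat.sub (T_z u) (Nat.mod (T_z u) M)) (nat_lit 40) (Nat.mod (T_z u) M) u) (dp_z_0 j u) (Nat.ble (nat_lit 3) j)) (dp_z_20 j u) (Nat.ble (nat_lit 5) j)
noncomputable def disp_z (j u : ℕ) : Bool :=
  Bool.rec (motive := fun _ => Bool) (Bool.rec (motive := fun _ => Bool) (lF1 T_zi M (Nat.sub (T_z u) (Nat.mod (T_z u) M)) (Nat.mod (T_z u) M) u) (lDef P (nat_lit 10) (Nat.mod (T_z u) M) u) (Nat.ble (nat_lit 1) j)) (dp_z_21 j u) (Nat.ble (nat_lit 2) j)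
noncomputable def chk_z (j u : ℕ) : Bool :=
  Bool.rec (motive := fun _ => Bool) (disp_z j u) (Nat.ble (Nat.succ (MG u)) A) (Nat.ble A (T_z u))
noncomputable def dp_zi_0 (j u : ℕ) : Bool :=
  Bool.rec (motive := fun _ => Bool) (lDef P (nat_lit 11) (Nat.mod (T_zi u) M) u) (lF3 T_ei T_z T_e M (Nat.sub (T_zi u) (Nat.mod (T_zi u) M)) (Nat.mod (T_zi u) M) u) (Nat.ble (nat_lit 4) j)
noncomputable def dp_zi_1 (j u : ℕ) : Bool :=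
  Bool.rec (motive := fun _ => Bool) (lF3 T_e T_z T_ei M (Nat.sub (T_zi u) (Nat.mod (T_zi u) M)) (Nat.mod (T_zi u) M) u) (lF3 T_fi T_z T_f M (Nat.sub (T_zi u) (Nat.mod (T_zi u) M)) (Nat.mod (T_zi u) M) u) (Nat.ble (nat_lit 6) j)
noncomputable def dp_zi_2 (j u : ℕ) : Bool :=
  Bool.rec (motive := fun _ => Bool) (lF3 T_d T_z T_di M (Nat.sub (T_zi u) (Nat.mod (T_zi u) M)) (Nat.mod (T_zi u) M) u) (lF3 T_di T_z T_d M (Nat.sub (T_zi u) (Nat.mod (T_zi u) M)) (Nat.mod (T_zi u) M) u) (Nat.ble (nat_lit 8) j)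
noncomputable def dp_zi_3 (j u : ℕ) : Bool :=
  Bool.rec (motive := fun _ => Bool) (lF3 T_bi T_z T_b M (Nat.sub (T_zi u) (Nat.mod (T_zi u) M)) (Nat.mod (T_zi u) M) u) (lF3 T_ci T_z T_c M (Nat.sub (T_zi u) (Nat.mod (T_zi u) M)) (Nat.mod (T_zi u) M) u) (Nat.ble (nat_lit 10) j)
noncomputable def dp_zi_4 (j u : ℕ) : Bool :=
  Bool.rec (motive := fun _ => Bool) (lF3 T_c T_z T_ci M (Nat.sub (T_zi u) (Nat.mod (T_zi u) M)) (Nat.mod (T_zi u) M) u) (lF3 T_f T_z T_fi M (Nat.sub (T_zi u) (Nat.mod (T_zi u) M)) (Nat.mod (T_zi u) M) u) (Nat.ble (nat_lit 12) j)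
noncomputable def dp_zi_5 (j u : ℕ) : Bool :=
  Bool.rec (motive := fun _ => Bool) (dp_zi_3 j u) (dp_zi_4 j u) (Nat.ble (nat_lit 11) j)
noncomputable def dp_zi_6 (j u : ℕ) : Bool :=
  Bool.rec (motive := fun _ => Bool) (lS MG [T_e, T_z, T_ei] M (Nat.sub (T_zi u) (Nat.mod (T_zi u) M)) (nat_lit 40) (Nat.mod (T_zi u) M) u) (lS MG [T_ei, T_z, T_e] M (Nat.sub (T_zi u) (Nat.mod (T_zi u) M)) (nat_lit 40) (Nat.mod (T_zi u) M) u) (Nat.ble (nat_lit 15) j)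
noncomputable def dp_zi_7 (j u : ℕ) : Bool :=
  Bool.rec (motive := fun _ => Bool) (lF3 T_b T_z T_bi M (Nat.sub (T_zi u) (Nat.mod (T_zi u) M)) (Nat.mod (T_zi u) M) u) (dp_zi_6 j u) (Nat.ble (nat_lit 14) j)
noncomputable def dp_zi_8 (j u : ℕ) : Bool :=
  Bool.rec (motive := fun _ => Bool) (lS MG [T_fi, T_z, T_f] M (Nat.sub (T_zi u) (Nat.mod (T_zi u) M)) (nat_lit 40) (Nat.mod (T_zi u) M) u) (lS MG [T_c, T_z, T_ci] M (Nat.sub (T_zi u) (Nat.mod (T_zi u) M)) (nat_lit 40) (Nat.mod (T_zi u) M) u) (Nat.ble (nat_lit 17) j)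
noncomputable def dp_zi_9 (j u : ℕ) : Bool :=
  Bool.rec (motive := fun _ => Bool) (lS MG [T_bi, T_z, T_b] M (Nat.sub (T_zi u) (Nat.mod (T_zi u) M)) (nat_lit 40) (Nat.mod (T_zi u) M) u) (lS MG [T_di, T_z, T_d] M (Nat.sub (T_zi u) (Nat.mod (T_zi u) M)) (nat_lit 40) (Nat.mod (T_zi u) M) u) (Nat.ble (nat_lit 19) j)
noncomputable def dp_zi_10 (j u : ℕ) : Bool :=
  Bool.rec (motive := fun _ => Bool) (dp_zi_8 j u) (dp_zi_9 j u) (Nat.ble (nat_lit 18) j)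
noncomputable def dp_zi_11 (j u : ℕ) : Bool :=
  Bool.rec (motive := fun _ => Bool) (lS MG [T_f, T_z, T_fi] M (Nat.sub (T_zi u) (Nat.mod (T_zi u) M)) (nat_lit 40) (Nat.mod (T_zi u) M) u) (lS MG [T_d, T_z, T_di] M (Nat.sub (T_zi u) (Nat.mod (T_zi u) M)) (nat_lit 40) (Nat.mod (T_zi u) M) u) (Nat.ble (nat_lit 21) j)
noncomputable def dp_zi_12 (j u : ℕ) : Bool :=
  Bool.rec (motive := fun _ => Bool) (lS MG [T_b, T_ei, T_ci, T_ei, T_b, T_ei, T_ci, T_ei] M (Nat.sub (T_zi u) (Nat.mod (T_zi u) M)) (nat_lit 40) (Nat.mod (T_zi u) M) u) (lF [T_b, T_ei, T_ci, T_ei, T_b, T_ei, T_ci, T_ei] M (Nat.sub (T_zi u) (Nat.mod (T_zi u) M)) (Nat.mod (T_zi u) M) u) (Nat.ble (nat_lit 25) j)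
noncomputable def dp_zi_13 (j u : ℕ) : Bool :=
  Bool.rec (motive := fun _ => Bool) (lS MG [T_ci, T_z, T_c] M (Nat.sub (T_zi u) (Nat.mod (T_zi u) M)) (nat_lit 40) (Nat.mod (T_zi u) M) u) (dp_zi_12 j u) (Nat.ble (nat_lit 24) j)
noncomputable def dp_zi_14 (j u : ℕ) : Bool :=
  Bool.rec (motive := fun _ => Bool) (lS MG [T_b, T_z, T_bi] M (Nat.sub (T_zi u) (Nat.mod (T_zi u) M)) (nat_lit 40) (Nat.mod (T_zi u) M) u) (dp_zi_13 j u) (Nat.ble (nat_lit 23) j)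
noncomputable def dp_zi_15 (j u : ℕ) : Bool :=
  Bool.rec (motive := fun _ => Bool) (dp_zi_11 j u) (dp_zi_14 j u) (Nat.ble (nat_lit 22) j)
noncomputable def dp_zi_16 (j u : ℕ) : Bool :=
  Bool.rec (motive := fun _ => Bool) (dp_zi_10 j u) (dp_zi_15 j u) (Nat.ble (nat_lit 20) j)
noncomputable def dp_zi_17 (j u : ℕ) : Bool :=
  Bool.rec (motive := fun _ => Bool) (dp_zi_7 j u) (dp_zi_16 j u) (Nat.ble (nat_lit 16) j)
noncomputable def dp_zi_18 (j u : ℕ) : Bool :=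
  Bool.rec (motive := fun _ => Bool) (dp_zi_5 j u) (dp_zi_17 j u) (Nat.ble (nat_lit 13) j)
noncomputable def dp_zi_19 (j u : ℕ) : Bool :=
  Bool.rec (motive := fun _ => Bool) (Bool.rec (motive := fun _ => Bool) (dp_zi_0 j u) (Bool.rec (motive := fun _ => Bool) (dp_zi_1 j u) (dp_zi_2 j u) (Nat.ble (nat_lit 7) j)) (Nat.ble (nat_lit 5) j)) (dp_zi_18 j u) (Nat.ble (nat_lit 9) j)
noncomputable def disp_zi (j u : ℕ) : Bool :=
  Bool.rec (motive := fun _ => Bool) (Bool.rec (motive := fun _ => Bool) (lDef P (nat_lit 10) u (Nat.mod (T_zi u) M)) (Bool.rec (motive := fun _ => Bool) (lF1 T_z M (Nat.sub (T_zi u) (Nat.mod (T_zi u) M)) (Nat.mod (T_zi u) M) u) (lS MG [T_z] M (Nat.sub (T_zi u) (Nat.mod (T_zi u) M)) (nat_lit 40) (Nat.mod (T_zi u) M) u) (Nat.ble (nat_lit 2) j)) (Nat.ble (nat_lit 1) j)) (dp_zi_19 j u) (Nat.ble (nat_lit 3) j)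
noncomputable def chk_zi (j u : ℕ) : Bool :=
  Bool.rec (motive := fun _ => Bool) (disp_zi j u) (Nat.ble (Nat.succ (MG u)) A) (Nat.ble A (T_zi u))
noncomputable def dM_0 (j z1 z2 u : ℕ) : Bool :=
  Bool.rec (motive := fun _ => Bool) (Bool.rec (motive := fun _ => Bool) (mCo MG T_z M (Nat.sub (MG u) (Nat.mod (MG u) M)) (nat_lit 40) z1 z2 u (Nat.mod (MG u) M)) (Bool.rec (motive := fun _ => Bool) (mCo MG T_ci M (Nat.sub (MG u) (Nat.mod (MG u) M)) (nat_lit 40) z1 z2 u (Nat.mod (MG u) M)) (mCo MG T_f M (Nat.sub (MG u) (Nat.mod (MG u) M)) (nat_lit 40) z1 z2 u (Nat.mod (MG u) M)) (Nat.ble (nat_lit 2) j)) (Nat.ble (nat_lit 1) j)) (Bool.rec (motive := fun _ => Bool) (Bool.rec (motive := fun _ => Bool) (mCo MG T_b M (Nat.sub (MG u) (Nat.mod (MG u) M)) (nat_lit 40) z1 z2 u (Nat.mod (MG u) M)) (mCo MG T_bi M (Nat.sub (MG u) (Nat.mod (MG u) M)) (nat_lit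 40) z1 z2 u (Nat.mod (MG u) M)) (Nat.ble (nat_lit 4) j)) (Bool.rec (motive := fun _ => Bool) (mCo MG T_di M (Nat.sub (MG u) (Nat.mod (MG u) M)) (nat_lit 40) z1 z2 u (Nat.mod (MG u) M)) (mCo MG T_d M (Nat.sub (MG u) (Nat.mod (MG u) M)) (nat_lit 40) z1 z2 u (Nat.mod (MG u) M)) (Nat.ble (nat_lit 6) j)) (Nat.ble (nat_lit 5) j)) (Nat.ble (nat_lit 3) j)
noncomputable def dM_1 (j z1 z2 u : ℕ) : Bool :=
  Bool.rec (motive := fun _ => Bool) (Bool.rec (motive := fun _ => Bool) (mCo MG T_c M (Nat.sub (MG u) (Nat.mod (MG u) M)) (nat_lit 40) z1 z2 u (Nat.mod (MG u) M)) (mCo MG T_e M (Nat.sub (MG u) (Nat.mod (MG u) M)) (nat_lit 40) z1 z2 u (Nat.mod (MG u) M)) (Nat.ble (nat_lit 8) j)) (Bool.rec (motive := fun _ => Bool) (mCo MG T_ei M (Nat.sub (MG u) (Nat.mod (MG u) M)) (nat_lit 40) z1 z2 u (Nat.mod (MG u) M)) (mCo MG T_fi M (Nat.sub (MG u) (Nat.mod (MG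 u) M)) (nat_lit 40) z1 z2 u (Nat.mod (MG u) M)) (Nat.ble (nat_lit 10) j)) (Nat.ble (nat_lit 9) j)
noncomputable def dM_2 (j z1 z2 u : ℕ) : Bool :=
  Bool.rec (motive := fun _ => Bool) (Bool.rec (motive := fun _ => Bool) (mRel MG [T_e, T_zi] [T_zi, T_e] M (Nat.sub (MG u) (Nat.mod (MG u) M)) (nat_lit 40) z1 u (Nat.mod (MG u) M)) (Bool.rec (motive := fun _ => Bool) (mRel MG [T_ei, T_z] [T_z, T_ei] M (Nat.sub (MG u) (Nat.mod (MG u) M)) (nat_lit 40) z1 u (Nat.mod (MG u) M)) (mRel MG [T_e, T_zi, T_ei] [T_zi] M (Nat.sub (MG u) (Nat.mod (MG u) M)) (nat_lit 40) z1 u (Nat.mod (MG u) M)) (Nat.ble (nat_lit 13) j)) (Nat.ble (nat_lit 12) j)) (Bool.rec (motive := fun _ => Bool) (Bool.rec (motive := fun _ => Bool) (mRel MG [T_ei, T_c, T_di, T_f, T_ei] [T_c, T_di, T_f] M (Nat.sub (MG u) (Nat.mod (MG u) M)) (nat_lit 40) z1 u (Nat.mod (MG u) M)) (mRel MG [T_e,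 T_c, T_di, T_f, T_e] [T_c, T_di, T_f] M (Nat.sub (MG u) (Nat.mod (MG u) M)) (nat_lit 40) z1 u (Nat.mod (MG u) M)) (Nat.ble (nat_lit 15) j)) (Bool.rec (motive := fun _ => Bool) (mRel MG [T_e, T_fi, T_d, T_ci, T_e] [T_fi, T_d, T_ci] M (Nat.sub (MG u) (Nat.mod (MG u) M)) (nat_lit 40) z1 u (Nat.mod (MG u) M)) (Bool.rec (motive := fun _ => Bool) (mRel MG [T_ei, T_z, T_e] [T_z] M (Nat.sub (MG u) (Nat.mod (MG u) M)) (nat_lit 40) z1 u (Nat.mod (MG u) M)) (mRel MG [T_ei, T_fi, T_d, T_ci, T_ei] [T_fi, T_d, T_ci] M (Nat.sub (MG u) (Nat.mod (MG u) M)) (nat_lit 40) z1 u (Nat.mod (MG u) M)) (Nat.ble (nat_lit 18) j)) (Nat.ble (nat_lit 17) j)) (Nat.ble (nat_lit 16) j)) (Nat.ble (nat_lit 14) j)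
noncomputable def dM_3 (j z1 z2 u : ℕ) : Bool :=
  Bool.rec (motive := fun _ => Bool) (Bool.rec (motive := fun _ => Bool) (Bool.rec (motive := fun _ => Bool) (mRel MG [T_e, T_c, T_di, T_f] [T_c, T_di, T_f, T_ei] M (Nat.sub (MG u) (Nat.mod (MG u) M)) (nat_lit 40) z1 u (Nat.mod (MG u) M)) (mRel MG [T_z, T_ei] [T_ei, T_z] M (Nat.sub (MG u) (Nat.mod (MG u) M)) (nat_lit 40) z1 u (Nat.mod (MG u) M)) (Nat.ble (nat_lit 20) j)) (Bool.rec (motive := fun _ => Bool) (mRel MG [T_e, T_fi, T_d, T_ci] [T_fi, T_d, T_ci, T_ei] M (Nat.sub (MG u) (Nat.mod (MG u) M)) (nat_lit 40) z1 u (Nat.mod (MG u) M)) (mRel MG [T_z, T_e] [T_e, T_z] M (Nat.sub (MG u) (Nat.mod (MG u) M)) (nat_lit 40) z1 u (Nat.mod (MG u) M)) (Nat.ble (nat_lit 22) j)) (Nat.ble (nat_lit 21) j)) (Bool.rec (motive := fun _ => Bool) (Bool.rec (motive := fun _ => Bool) (mRel MG [T_ei, T_fi, T_d, T_ci]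 [T_fi, T_d, T_ci, T_e] M (Nat.sub (MG u) (Nat.mod (MG u) M)) (nat_lit 40) z1 u (Nat.mod (MG u) M)) (Bool.rec (motive := fun _ => Bool) (mRel MG [T_ei, T_c, T_di, T_f] [T_c, T_di, T_f, T_e] M (Nat.sub (MG u) (Nat.mod (MG u) M)) (nat_lit 40) z1 u (Nat.mod (MG u) M)) (mRel MG [T_f, T_zi] [T_zi, T_f] M (Nat.sub (MG u) (Nat.mod (MG u) M)) (nat_lit 40) z1 u (Nat.mod (MG u) M)) (Nat.ble (nat_lit 25) j)) (Nat.ble (nat_lit 24) j)) (Bool.rec (motive := fun _ => Bool) (mRel MG [T_fi, T_d, T_ci] [T_ei, T_fi, T_d, T_ci, T_ei] M (Nat.sub (MG u) (Nat.mod (MG u) M)) (nat_lit 40) z1 u (Nat.mod (MG u) M)) (Bool.rec (motive := fun _ => Bool) (mRel MG [T_fi, T_d, T_ci] [T_e, T_fi, T_d, T_ci, T_e] M (Nat.sub (MG u) (Nat.mod (MG u) M)) (nat_lit 40) z1 u (Nat.mod (MG u) M)) (mRel MG [T_c, T_di, T_f] [T_ei, T_c, T_di, T_f, T_ei] M (Nat.sub (MG u) (Nat.mod (MG u)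 M)) (nat_lit 40) z1 u (Nat.mod (MG u) M)) (Nat.ble (nat_lit 28) j)) (Nat.ble (nat_lit 27) j)) (Nat.ble (nat_lit 26) j)) (Nat.ble (nat_lit 23) j)
noncomputable def dM_4 (j z1 z2 u : ℕ) : Bool :=
  Bool.rec (motive := fun _ => Bool) (Bool.rec (motive := fun _ => Bool) (Bool.rec (motive := fun _ => Bool) (mRel MG [T_c, T_di, T_f] [T_e, T_c, T_di, T_f, T_e] M (Nat.sub (MG u) (Nat.mod (MG u) M)) (nat_lit 40) z1 u (Nat.mod (MG u) M)) (mRel MG [T_ci, T_z] [T_z, T_ci] M (Nat.sub (MG u) (Nat.mod (MG u) M)) (nat_lit 40) z1 u (Nat.mod (MG u) M)) (Nat.ble (nat_lit 30) j)) (Bool.rec (motive := fun _ => Bool) (mRel MG [T_fi, T_d, T_ci, T_e] [T_ei, T_fi, T_d, T_ci] M (Nat.sub (MG u) (Nat.mod (MG u) M)) (nat_lit 40) z1 u (Nat.mod (MG u) M)) (mRel MG [T_d, T_zi] [T_zi, T_d] M (Nat.sub (MG u) (Nat.mod (MG u) M)) (nat_lit 40) z1 u (Nat.mod (MG u) M)) (Nat.ble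 (nat_lit 32) j)) (Nat.ble (nat_lit 31) j)) (Bool.rec (motive := fun _ => Bool) (Bool.rec (motive := fun _ => Bool) (mRel MG [T_c, T_zi] [T_zi, T_c] M (Nat.sub (MG u) (Nat.mod (MG u) M)) (nat_lit 40) z1 u (Nat.mod (MG u) M)) (mRel MG [T_z, T_d] [T_d, T_z] M (Nat.sub (MG u) (Nat.mod (MG u) M)) (nat_lit 40) z1 u (Nat.mod (MG u) M)) (Nat.ble (nat_lit 34) j)) (Bool.rec (motive := fun _ => Bool) (mCo MG T_zi M (Nat.sub (MG u) (Nat.mod (MG u) M)) (nat_lit 40) z1 z2 u (Nat.mod (MG u) M)) (Bool.rec (motive := fun _ => Bool) (mRel MG [T_z, T_f] [T_f, T_z] M (Nat.sub (MG u) (Nat.mod (MG u) M)) (nat_lit 40) z1 u (Nat.mod (MG u) M)) (mRel MG [T_z, T_ci] [T_ci, T_z] M (Nat.sub (MG u) (Nat.mod (MG u) M)) (nat_lit 40) z1 u (Nat.mod (MG u) M)) (Nat.ble (nat_lit 37) j)) (Nat.ble (nat_lit 36) j)) (Nat.ble (nat_lit 35) j)) (Nat.ble (nat_lit 33) j)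
noncomputable def dM_5 (j z1 z2 u : ℕ) : Bool :=
  Bool.rec (motive := fun _ => Bool) (Bool.rec (motive := fun _ => Bool) (Bool.rec (motive := fun _ => Bool) (mRel MG [T_z, T_b] [T_b, T_z] M (Nat.sub (MG u) (Nat.mod (MG u) M)) (nat_lit 40) z1 u (Nat.mod (MG u) M)) (mRel MG [T_b, T_zi] [T_zi, T_b] M (Nat.sub (MG u) (Nat.mod (MG u) M)) (nat_lit 40) z1 u (Nat.mod (MG u) M)) (Nat.ble (nat_lit 39) j)) (Bool.rec (motive := fun _ => Bool) (mRel MG [T_z, T_c] [T_c, T_z] M (Nat.sub (MG u) (Nat.mod (MG u) M)) (nat_lit 40) z1 u (Nat.mod (MG u) M)) (Bool.rec (motive := fun _ => Bool) (mRel MG [T_c, T_di, T_f, T_e] [T_ei, T_c, T_di, T_f] M (Nat.sub (MG u) (Nat.mod (MG u) M)) (nat_lit 40) z1 u (Nat.mod (MG u) M)) (mRel MG [T_z, T_di] [T_di, T_z] M (Nat.sub (MG u) (Nat.mod (MG u) M)) (nat_lit 40) z1 u (Nat.mod (MG u) M)) (Nat.ble (nat_lit 42) j)) (Nat.ble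 (nat_lit 41) j)) (Nat.ble (nat_lit 40) j)) (Bool.rec (motive := fun _ => Bool) (Bool.rec (motive := fun _ => Bool) (mRel MG [T_c, T_di, T_f, T_ei] [T_e, T_c, T_di, T_f] M (Nat.sub (MG u) (Nat.mod (MG u) M)) (nat_lit 40) z1 u (Nat.mod (MG u) M)) (Bool.rec (motive := fun _ => Bool) (mRel MG [T_bi, T_z] [T_z, T_bi] M (Nat.sub (MG u) (Nat.mod (MG u) M)) (nat_lit 40) z1 u (Nat.mod (MG u) M)) (mRel MG [T_z, T_bi] [T_bi, T_z] M (Nat.sub (MG u) (Nat.mod (MG u) M)) (nat_lit 40) z1 u (Nat.mod (MG u) M)) (Nat.ble (nat_lit 45) j)) (Nat.ble (nat_lit 44) j)) (Bool.rec (motive := fun _ => Bool) (mRel MG [T_di, T_z] [T_z, T_di] M (Nat.sub (MG u) (Nat.mod (MG u) M)) (nat_lit 40) z1 u (Nat.mod (MG u) M)) (Bool.rec (motive := fun _ => Bool) (mRel MG [T_fi, T_z, T_f] [T_z] M (Nat.sub (MG u) (Nat.mod (MG u) M)) (nat_lit 40) z1 u (Nat.mod (MG u) M)) (mRel MG [T_fi,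 T_d, T_ci, T_ei] [T_e, T_fi, T_d, T_ci] M (Nat.sub (MG u) (Nat.mod (MG u) M)) (nat_lit 40) z1 u (Nat.mod (MG u) M)) (Nat.ble (nat_lit 48) j)) (Nat.ble (nat_lit 47) j)) (Nat.ble (nat_lit 46) j)) (Nat.ble (nat_lit 43) j)
noncomputable def dM_6 (j z1 z2 u : ℕ) : Bool :=
  Bool.rec (motive := fun _ => Bool) (dM_4 j z1 z2 u) (dM_5 j z1 z2 u) (Nat.ble (nat_lit 38) j)
noncomputable def dM_7 (j z1 z2 u : ℕ) : Bool :=
  Bool.rec (motive := fun _ => Bool) (dM_3 j z1 z2 u) (dM_6 j z1 z2 u) (Nat.ble (nat_lit 29) j)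
noncomputable def dM_8 (j z1 z2 u : ℕ) : Bool :=
  Bool.rec (motive := fun _ => Bool) (dM_2 j z1 z2 u) (dM_7 j z1 z2 u) (Nat.ble (nat_lit 19) j)
noncomputable def dM_9 (j z1 z2 u : ℕ) : Bool :=
  Bool.rec (motive := fun _ => Bool) (Bool.rec (motive := fun _ => Bool) (Bool.rec (motive := fun _ => Bool) (mRel MG [T_z, T_fi] [T_fi, T_z] M (Nat.sub (MG u) (Nat.mod (MG u) M)) (nat_lit 40) z1 u (Nat.mod (MG u) M)) (mRel MG [T_f, T_zi, T_fi] [T_zi] M (Nat.sub (MG u) (Nat.mod (MG u) M)) (nat_lit 40) z1 u (Nat.mod (MG u) M)) (Nat.ble (nat_lit 50) j)) (Bool.rec (motive := fun _ => Bool) (mRel MG [T_e, T_e, T_e] [T_ei, T_ei] M (Nat.sub (MG u) (Nat.mod (MG u) M)) (nat_lit 40) z1 u (Nat.mod (MG u) M)) (mRel MG [T_c, T_zi, T_ci] [T_zi] M (Nat.sub (MG u) (Nat.mod (MG u) M)) (nat_lit 40) z1 u (Nat.mod (MG u) M)) (Nat.ble (nat_lit 52) j)) (Nat.ble (nat_lit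 51) j)) (Bool.rec (motive := fun _ => Bool) (Bool.rec (motive := fun _ => Bool) (mRel MG [T_b, T_d, T_b] [T_bi, T_d] M (Nat.sub (MG u) (Nat.mod (MG u) M)) (nat_lit 40) z1 u (Nat.mod (MG u) M)) (mRel MG [T_fi, T_fi, T_fi] [T_f, T_f] M (Nat.sub (MG u) (Nat.mod (MG u) M)) (nat_lit 40) z1 u (Nat.mod (MG u) M)) (Nat.ble (nat_lit 54) j)) (Bool.rec (motive := fun _ => Bool) (mRel MG [T_bi, T_z, T_b] [T_z] M (Nat.sub (MG u) (Nat.mod (MG u) M)) (nat_lit 40) z1 u (Nat.mod (MG u) M)) (mRel MG [T_f, T_f, T_f] [T_fi, T_fi] M (Nat.sub (MG u) (Nat.mod (MG u) M)) (nat_lit 40) z1 u (Nat.mod (MG u) M)) (Nat.ble (nat_lit 56) j)) (Nat.ble (nat_lit 55) j)) (Nat.ble (nat_lit 53) j)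
noncomputable def dM_10 (j z1 z2 u : ℕ) : Bool :=
  Bool.rec (motive := fun _ => Bool) (Bool.rec (motive := fun _ => Bool) (Bool.rec (motive := fun _ => Bool) (mRel MG [T_c, T_c, T_c] [T_ci, T_ci] M (Nat.sub (MG u) (Nat.mod (MG u) M)) (nat_lit 40) z1 u (Nat.mod (MG u) M)) (mRel MG [T_ei, T_ei, T_ei] [T_e, T_e] M (Nat.sub (MG u) (Nat.mod (MG u) M)) (nat_lit 40) z1 u (Nat.mod (MG u) M)) (Nat.ble (nat_lit 58) j)) (Bool.rec (motive := fun _ => Bool) (mRel MG [T_b, T_di, T_b] [T_di, T_bi] M (Nat.sub (MG u) (Nat.mod (MG u) M)) (nat_lit 40) z1 u (Nat.mod (MG u) M)) (mRel MG [T_e, T_c, T_di, T_f, T_e, T_fi] [T_c, T_di] M (Nat.sub (MG u) (Nat.mod (MG u) M)) (nat_lit 40) z1 u (Nat.mod (MG u) M)) (Nat.ble (nat_lit 60) j)) (Nat.ble (nat_lit 59) j)) (Bool.rec (motive := fun _ => Bool) (Bool.rec (motive := fun _ => Bool) (mRel MG [T_bi, T_bi, T_d] [T_d,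 T_b] M (Nat.sub (MG u) (Nat.mod (MG u) M)) (nat_lit 40) z1 u (Nat.mod (MG u) M)) (mRel MG [T_d, T_b, T_di] [T_bi, T_bi] M (Nat.sub (MG u) (Nat.mod (MG u) M)) (nat_lit 40) z1 u (Nat.mod (MG u) M)) (Nat.ble (nat_lit 62) j)) (Bool.rec (motive := fun _ => Bool) (mRel MG [T_fi, T_z] [T_z, T_fi] M (Nat.sub (MG u) (Nat.mod (MG u) M)) (nat_lit 40) z1 u (Nat.mod (MG u) M)) (Bool.rec (motive := fun _ => Bool) (mRel MG [T_ei, T_ei] [T_e, T_e, T_e] M (Nat.sub (MG u) (Nat.mod (MG u) M)) (nat_lit 40) z1 u (Nat.mod (MG u) M)) (mRel MG [T_d, T_zi, T_di] [T_zi] M (Nat.sub (MG u) (Nat.mod (MG u) M)) (nat_lit 40) z1 u (Nat.mod (MG u) M)) (Nat.ble (nat_lit 65) j)) (Nat.ble (nat_lit 64) j)) (Nat.ble (nat_lit 63) j)) (Nat.ble (nat_lit 61) j)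
noncomputable def dM_11 (j z1 z2 u : ℕ) : Bool :=
  Bool.rec (motive := fun _ => Bool) (dM_9 j z1 z2 u) (dM_10 j z1 z2 u) (Nat.ble (nat_lit 57) j)
noncomputable def dM_12 (j z1 z2 u : ℕ) : Bool :=
  Bool.rec (motive := fun _ => Bool) (Bool.rec (motive := fun _ => Bool) (Bool.rec (motive := fun _ => Bool) (mRel MG [T_di, T_f, T_e] [T_ci, T_ei, T_c, T_di, T_f] M (Nat.sub (MG u) (Nat.mod (MG u) M)) (nat_lit 40) z1 u (Nat.mod (MG u) M)) (mRel MG [T_ci, T_ei, T_c, T_di, T_f, T_ei] [T_di, T_f] M (Nat.sub (MG u) (Nat.mod (MG u) M)) (nat_lit 40) z1 u (Nat.mod (MG u) M)) (Nat.ble (nat_lit 67) j)) (Bool.rec (motive := fun _ => Bool) (mRel MG [T_b, T_zi, T_bi] [T_zi] M (Nat.sub (MG u) (Nat.mod (MG u) M)) (nat_lit 40) z1 u (Nat.mod (MG u) M)) (Bool.rec (motive := fun _ => Bool) (mRel MG [T_di, T_f] [T_ci, T_ei, T_c, T_di, T_f, T_ei] M (Nat.sub (MG u)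 (Nat.mod (MG u) M)) (nat_lit 40) z1 u (Nat.mod (MG u) M)) (mRel MG [T_zi, T_di] [T_di, T_zi] M (Nat.sub (MG u) (Nat.mod (MG u) M)) (nat_lit 40) z1 u (Nat.mod (MG u) M)) (Nat.ble (nat_lit 70) j)) (Nat.ble (nat_lit 69) j)) (Nat.ble (nat_lit 68) j)) (Bool.rec (motive := fun _ => Bool) (Bool.rec (motive := fun _ => Bool) (mRel MG [T_d, T_d, T_d] [T_di, T_di] M (Nat.sub (MG u) (Nat.mod (MG u) M)) (nat_lit 40) z1 u (Nat.mod (MG u) M)) (Bool.rec (motive := fun _ => Bool) (mRel MG [T_ci, T_ci, T_ci] [T_c, T_c] M (Nat.sub (MG u) (Nat.mod (MG u) M)) (nat_lit 40) z1 u (Nat.mod (MG u) M)) (mRel MG [T_di, T_b, T_b] [T_bi, T_di] M (Nat.sub (MG u) (Nat.mod (MG u) M)) (nat_lit 40) z1 u (Nat.mod (MG u) M)) (Nat.ble (nat_lit 73) j)) (Nat.ble (nat_lit 72) j)) (Bool.rec (motive := fun _ => Bool) (mRel MG [T_zi, T_ci] [T_ci, T_zi] M (Nat.sub (MG u) (Nat.mod (MG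 u) M)) (nat_lit 40) z1 u (Nat.mod (MG u) M)) (Bool.rec (motive := fun _ => Bool) (mRel MG [T_e, T_e] [T_ei, T_ei, T_ei] M (Nat.sub (MG u) (Nat.mod (MG u) M)) (nat_lit 40) z1 u (Nat.mod (MG u) M)) (mRel MG [T_f, T_f] [T_fi, T_fi, T_fi] M (Nat.sub (MG u) (Nat.mod (MG u) M)) (nat_lit 40) z1 u (Nat.mod (MG u) M)) (Nat.ble (nat_lit 76) j)) (Nat.ble (nat_lit 75) j)) (Nat.ble (nat_lit 74) j)) (Nat.ble (nat_lit 71) j)
noncomputable def dM_13 (j z1 z2 u : ℕ) : Bool :=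
  Bool.rec (motive := fun _ => Bool) (Bool.rec (motive := fun _ => Bool) (mRel MG [T_ei, T_c, T_di, T_f, T_ei, T_fi] [T_c, T_di] M (Nat.sub (MG u) (Nat.mod (MG u) M)) (nat_lit 40) z1 u (Nat.mod (MG u) M)) (Bool.rec (motive := fun _ => Bool) (mRel MG [T_di, T_b] [T_bi, T_di, T_bi] M (Nat.sub (MG u) (Nat.mod (MG u) M)) (nat_lit 40) z1 u (Nat.mod (MG u) M)) (mRel MG [T_f, T_d, T_f] [T_fi, T_d, T_d] M (Nat.sub (MG u) (Nat.mod (MG u) M)) (nat_lit 40) z1 u (Nat.mod (MG u) M)) (Nat.ble (nat_lit 79) j)) (Nat.ble (nat_lit 78) j)) (Bool.rec (motive := fun _ => Bool) (Bool.rec (motive := fun _ => Bool) (mRel MG [T_fi, T_ci] [T_c, T_f, T_c, T_f] M (Nat.sub (MG u) (Nat.mod (MG u) M)) (nat_lit 40) z1 u (Nat.mod (MG u) M)) (mRel MG [T_d, T_bi, T_di] [T_b, T_b] M (Nat.sub (MG u) (Nat.mod (MG u) M)) (nat_lit 40) z1 u (Nat.mod (MG u) M)) (Nat.ble (nat_lit 81)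 j)) (Bool.rec (motive := fun _ => Bool) (mRel MG [T_bi, T_di, T_bi] [T_di, T_b] M (Nat.sub (MG u) (Nat.mod (MG u) M)) (nat_lit 40) z1 u (Nat.mod (MG u) M)) (mRel MG [T_zi, T_b] [T_b, T_zi] M (Nat.sub (MG u) (Nat.mod (MG u) M)) (nat_lit 40) z1 u (Nat.mod (MG u) M)) (Nat.ble (nat_lit 83) j)) (Nat.ble (nat_lit 82) j)) (Nat.ble (nat_lit 80) j)
noncomputable def dM_14 (j z1 z2 u : ℕ) : Bool :=
  Bool.rec (motive := fun _ => Bool) (Bool.rec (motive := fun _ => Bool) (mRel MG [T_bi, T_d, T_bi] [T_b, T_d] M (Nat.sub (MG u) (Nat.mod (MG u) M)) (nat_lit 40) z1 u (Nat.mod (MG u) M)) (Bool.rec (motive := fun _ => Bool) (mRel MG [T_fi, T_fi, T_d, T_d] [T_d, T_f] M (Nat.sub (MG u) (Nat.mod (MG u) M)) (nat_lit 40) z1 u (Nat.mod (MG u) M)) (mRel MG [T_f, T_c, T_f] [T_ci, T_fi, T_ci] M (Nat.sub (MG u) (Nat.mod (MG u) M)) (nat_lit 40) z1 u (Nat.mod (MG u) M))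 (Nat.ble (nat_lit 86) j)) (Nat.ble (nat_lit 85) j)) (Bool.rec (motive := fun _ => Bool) (Bool.rec (motive := fun _ => Bool) (mRel MG [T_ei, T_ci, T_ei, T_b] [T_bi, T_z, T_e, T_c, T_e] M (Nat.sub (MG u) (Nat.mod (MG u) M)) (nat_lit 40) z1 u (Nat.mod (MG u) M)) (mRel MG [T_ei, T_ci, T_ei] [T_bi, T_z, T_e, T_c, T_e, T_bi] M (Nat.sub (MG u) (Nat.mod (MG u) M)) (nat_lit 40) z1 u (Nat.mod (MG u) M)) (Nat.ble (nat_lit 88) j)) (Bool.rec (motive := fun _ => Bool) (mRel MG [T_ci, T_ei, T_b, T_ei] [T_e, T_bi, T_z, T_e, T_c] M (Nat.sub (MG u) (Nat.mod (MG u) M)) (nat_lit 40) z1 u (Nat.mod (MG u) M)) (mRel MG [T_e, T_fi, T_d, T_ci, T_e, T_c] [T_fi, T_d] M (Nat.sub (MG u) (Nat.mod (MG u) M)) (nat_lit 40) z1 u (Nat.mod (MG u) M)) (Nat.ble (nat_lit 90) j)) (Nat.ble (nat_lit 89) j)) (Nat.ble (nat_lit 87) j)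
noncomputable def dM_15 (j z1 z2 u : ℕ) : Bool :=
  Bool.rec (motive := fun _ => Bool) (dM_13 j z1 z2 u) (dM_14 j z1 z2 u) (Nat.ble (nat_lit 84) j)
noncomputable def dM_16 (j z1 z2 u : ℕ) : Bool :=
  Bool.rec (motive := fun _ => Bool) (dM_12 j z1 z2 u) (dM_15 j z1 z2 u) (Nat.ble (nat_lit 77) j)
noncomputable def dM_17 (j z1 z2 u : ℕ) : Bool :=
  Bool.rec (motive := fun _ => Bool) (dM_11 j z1 z2 u) (dM_16 j z1 z2 u) (Nat.ble (nat_lit 66) j)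
noncomputable def dM_18 (j z1 z2 u : ℕ) : Bool :=
  Bool.rec (motive := fun _ => Bool) (Bool.rec (motive := fun _ => Bool) (Bool.rec (motive := fun _ => Bool) (mRel MG [T_f, T_bi, T_f, T_f] [T_fi, T_b] M (Nat.sub (MG u) (Nat.mod (MG u) M)) (nat_lit 40) z1 u (Nat.mod (MG u) M)) (mRel MG [T_zi, T_bi] [T_bi, T_zi] M (Nat.sub (MG u) (Nat.mod (MG u) M)) (nat_lit 40) z1 u (Nat.mod (MG u) M)) (Nat.ble (nat_lit 92) j)) (Bool.rec (motive := fun _ => Bool) (mRel MG [T_zi, T_f] [T_f, T_zi] M (Nat.sub (MG u) (Nat.mod (MG u) M)) (nat_lit 40) z1 u (Nat.mod (MG u) M)) (mRel MG [T_di, T_f] [T_ci, T_e, T_c, T_di, T_f, T_e] M (Nat.sub (MG u) (Nat.mod (MG u) M)) (nat_lit 40) z1 u (Nat.mod (MG u) M)) (Nat.ble (nat_lit 94) j)) (Nat.ble (nat_lit 93) j)) (Bool.rec (motive := fun _ => Bool) (Bool.rec (motive := fun _ => Bool) (mRel MG [T_f, T_d] [T_fi, T_d, T_d,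 T_fi] M (Nat.sub (MG u) (Nat.mod (MG u) M)) (nat_lit 40) z1 u (Nat.mod (MG u) M)) (mRel MG [T_ci, T_z, T_c] [T_z] M (Nat.sub (MG u) (Nat.mod (MG u) M)) (nat_lit 40) z1 u (Nat.mod (MG u) M)) (Nat.ble (nat_lit 96) j)) (Bool.rec (motive := fun _ => Bool) (mRel MG [T_b, T_fi, T_fi, T_b] [T_f, T_f] M (Nat.sub (MG u) (Nat.mod (MG u) M)) (nat_lit 40) z1 u (Nat.mod (MG u) M)) (mRel MG [T_zi, T_c] [T_c, T_zi] M (Nat.sub (MG u) (Nat.mod (MG u) M)) (nat_lit 40) z1 u (Nat.mod (MG u) M)) (Nat.ble (nat_lit 98) j)) (Nat.ble (nat_lit 97) j)) (Nat.ble (nat_lit 95) j)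
noncomputable def dM_19 (j z1 z2 u : ℕ) : Bool :=
  Bool.rec (motive := fun _ => Bool) (Bool.rec (motive := fun _ => Bool) (Bool.rec (motive := fun _ => Bool) (mRel MG [T_fi, T_di, T_fi] [T_di, T_di, T_f] M (Nat.sub (MG u) (Nat.mod (MG u) M)) (nat_lit 40) z1 u (Nat.mod (MG u) M)) (mRel MG [T_b, T_b] [T_d, T_bi, T_di] M (Nat.sub (MG u) (Nat.mod (MG u) M)) (nat_lit 40) z1 u (Nat.mod (MG u) M)) (Nat.ble (nat_lit 100) j)) (Bool.rec (motive := fun _ => Bool) (mRel MG [T_di, T_z, T_d] [T_z] M (Nat.sub (MG u) (Nat.mod (MG u) M)) (nat_lit 40) z1 u (Nat.mod (MG u) M)) (mRel MG [T_di, T_bi] [T_b, T_di, T_b] M (Nat.sub (MG u) (Nat.mod (MG u) M)) (nat_lit 40) z1 u (Nat.mod (MG u) M)) (Nat.ble (nat_lit 102) j)) (Nat.ble (nat_lit 101) j)) (Bool.rec (motive := fun _ => Bool) (Bool.rec (motive := fun _ => Bool) (mRel MG [T_e, T_c, T_e] [T_zi, T_b, T_ei, T_ci,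 T_ei, T_b] M (Nat.sub (MG u) (Nat.mod (MG u) M)) (nat_lit 40) z1 u (Nat.mod (MG u) M)) (mRel MG [T_e, T_bi, T_e] [T_ci, T_ei, T_zi, T_b, T_ei, T_ci] M (Nat.sub (MG u) (Nat.mod (MG u) M)) (nat_lit 40) z1 u (Nat.mod (MG u) M)) (Nat.ble (nat_lit 104) j)) (Bool.rec (motive := fun _ => Bool) (mRel MG [T_di, T_di, T_di] [T_d, T_d] M (Nat.sub (MG u) (Nat.mod (MG u) M)) (nat_lit 40) z1 u (Nat.mod (MG u) M)) (mRel MG [T_ei, T_fi, T_d, T_ci, T_ei, T_c] [T_fi, T_d] M (Nat.sub (MG u) (Nat.mod (MG u) M)) (nat_lit 40) z1 u (Nat.mod (MG u) M)) (Nat.ble (nat_lit 106) j)) (Nat.ble (nat_lit 105) j)) (Nat.ble (nat_lit 103) j)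
noncomputable def dM_20 (j z1 z2 u : ℕ) : Bool :=
  Bool.rec (motive := fun _ => Bool) (dM_18 j z1 z2 u) (dM_19 j z1 z2 u) (Nat.ble (nat_lit 99) j)
noncomputable def dM_21 (j z1 z2 u : ℕ) : Bool :=
  Bool.rec (motive := fun _ => Bool) (Bool.rec (motive := fun _ => Bool) (Bool.rec (motive := fun _ => Bool) (mRel MG [T_e, T_c, T_e, T_bi] [T_zi, T_b, T_ei, T_ci, T_ei] M (Nat.sub (MG u) (Nat.mod (MG u) M)) (nat_lit 40) z1 u (Nat.mod (MG u) M)) (mRel MG [T_ci, T_ei, T_b, T_ei, T_ci] [T_e, T_bi, T_z, T_e] M (Nat.sub (MG u) (Nat.mod (MG u) M)) (nat_lit 40) z1 u (Nat.mod (MG u) M)) (Nat.ble (nat_lit 108) j)) (Bool.rec (motive := fun _ => Bool) (mRel MG [T_z, T_d, T_zi] [T_d] M (Nat.sub (MG u) (Nat.mod (MG u) M)) (nat_lit 40) z1 u (Nat.mod (MG u) M)) (mRel MG [T_d, T_ci] [T_f, T_e, T_fi, T_d, T_ci, T_e] M (Nat.sub (MG u) (Nat.mod (MG u) M)) (nat_lit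 40) z1 u (Nat.mod (MG u) M)) (Nat.ble (nat_lit 110) j)) (Nat.ble (nat_lit 109) j)) (Bool.rec (motive := fun _ => Bool) (Bool.rec (motive := fun _ => Bool) (mRel MG [T_b, T_b, T_d] [T_d, T_bi] M (Nat.sub (MG u) (Nat.mod (MG u) M)) (nat_lit 40) z1 u (Nat.mod (MG u) M)) (mRel MG [T_b, T_fi, T_fi] [T_f, T_f, T_bi] M (Nat.sub (MG u) (Nat.mod (MG u) M)) (nat_lit 40) z1 u (Nat.mod (MG u) M)) (Nat.ble (nat_lit 112) j)) (Bool.rec (motive := fun _ => Bool) (mRel MG [T_c, T_f, T_c, T_f] [T_fi, T_ci] M (Nat.sub (MG u) (Nat.mod (MG u) M)) (nat_lit 40) z1 u (Nat.mod (MG u) M)) (Bool.rec (motive := fun _ => Bool) (mRel MG [T_fi, T_fi] [T_f, T_f, T_f] M (Nat.sub (MG u) (Nat.mod (MG u) M)) (nat_lit 40) z1 u (Nat.mod (MG u) M)) (mRel MG [T_c, T_c] [T_ci, T_ci, T_ci] M (Nat.sub (MG u) (Nat.mod (MG u) M)) (nat_lit 40) z1 u (Nat.mod (MG u) M)) (Nat.ble (nat_lit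 115) j)) (Nat.ble (nat_lit 114) j)) (Nat.ble (nat_lit 113) j)) (Nat.ble (nat_lit 111) j)
noncomputable def dM_22 (j z1 z2 u : ℕ) : Bool :=
  Bool.rec (motive := fun _ => Bool) (Bool.rec (motive := fun _ => Bool) (Bool.rec (motive := fun _ => Bool) (mRel MG [T_ci, T_fi, T_ci, T_fi] [T_f, T_c] M (Nat.sub (MG u) (Nat.mod (MG u) M)) (nat_lit 40) z1 u (Nat.mod (MG u) M)) (mRel MG [T_zi, T_fi] [T_fi, T_zi] M (Nat.sub (MG u) (Nat.mod (MG u) M)) (nat_lit 40) z1 u (Nat.mod (MG u) M)) (Nat.ble (nat_lit 117) j)) (Bool.rec (motive := fun _ => Bool) (mRel MG [T_bi, T_e, T_c, T_e] [T_ei, T_ci, T_ei, T_zi, T_b] M (Nat.sub (MG u) (Nat.mod (MG u) M)) (nat_lit 40) z1 u (Nat.mod (MG u) M)) (Bool.rec (motive := fun _ => Bool) (mRel MG [T_d, T_ci] [T_f, T_ei, T_fi, T_d, T_ci, T_ei] M (Nat.sub (MG u) (Nat.mod (MG u) M)) (nat_lit 40) z1 u (Nat.mod (MG u) M)) (mRel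 MG [T_e, T_bi] [T_ci, T_ei, T_zi, T_b, T_ei, T_ci, T_ei] M (Nat.sub (MG u) (Nat.mod (MG u) M)) (nat_lit 40) z1 u (Nat.mod (MG u) M)) (Nat.ble (nat_lit 120) j)) (Nat.ble (nat_lit 119) j)) (Nat.ble (nat_lit 118) j)) (Bool.rec (motive := fun _ => Bool) (Bool.rec (motive := fun _ => Bool) (mRel MG [T_ci, T_ei, T_zi, T_b, T_ei, T_ci] [T_e, T_bi, T_e] M (Nat.sub (MG u) (Nat.mod (MG u) M)) (nat_lit 40) z1 u (Nat.mod (MG u) M)) (mRel MG [T_c, T_e, T_bi, T_e, T_c] [T_ei, T_zi, T_b, T_ei] M (Nat.sub (MG u) (Nat.mod (MG u) M)) (nat_lit 40) z1 u (Nat.mod (MG u) M)) (Nat.ble (nat_lit 122) j)) (Bool.rec (motive := fun _ => Bool) (mRel MG [T_fi, T_fi, T_b] [T_bi, T_f, T_f] M (Nat.sub (MG u) (Nat.mod (MG u) M)) (nat_lit 40) z1 u (Nat.mod (MG u) M)) (Bool.rec (motive := fun _ => Bool) (mRel MG [T_ci, T_e, T_c, T_di, T_f, T_e] [T_di, T_f] M (Nat.sub (MG u)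 (Nat.mod (MG u) M)) (nat_lit 40) z1 u (Nat.mod (MG u) M)) (mRel MG [T_bi, T_f, T_f, T_bi] [T_fi, T_fi] M (Nat.sub (MG u) (Nat.mod (MG u) M)) (nat_lit 40) z1 u (Nat.mod (MG u) M)) (Nat.ble (nat_lit 125) j)) (Nat.ble (nat_lit 124) j)) (Nat.ble (nat_lit 123) j)) (Nat.ble (nat_lit 121) j)
noncomputable def dM_23 (j z1 z2 u : ℕ) : Bool :=
  Bool.rec (motive := fun _ => Bool) (dM_21 j z1 z2 u) (dM_22 j z1 z2 u) (Nat.ble (nat_lit 116) j)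
noncomputable def dM_24 (j z1 z2 u : ℕ) : Bool :=
  Bool.rec (motive := fun _ => Bool) (dM_20 j z1 z2 u) (dM_23 j z1 z2 u) (Nat.ble (nat_lit 107) j)
noncomputable def dM_25 (j z1 z2 u : ℕ) : Bool :=
  Bool.rec (motive := fun _ => Bool) (Bool.rec (motive := fun _ => Bool) (Bool.rec (motive := fun _ => Bool) (mRel MG [T_fi, T_d, T_d, T_fi] [T_f, T_d] M (Nat.sub (MG u) (Nat.mod (MG u) M)) (nat_lit 40) z1 u (Nat.mod (MG u) M)) (mRel MG [T_b, T_d] [T_bi, T_d, T_bi] M (Nat.sub (MG u) (Nat.mod (MG u) M)) (nat_lit 40) z1 u (Nat.mod (MG u) M)) (Nat.ble (nat_lit 127) j)) (Bool.rec (motive := fun _ => Bool) (mRel MG [T_di, T_bi, T_bi] [T_b, T_di] M (Nat.sub (MG u) (Nat.mod (MG u) M)) (nat_lit 40) z1 u (Nat.mod (MG u) M)) (Bool.rec (motive := fun _ => Bool) (mRel MG [T_f, T_c] [T_ci, T_fi, T_ci, T_fi] M (Nat.sub (MG u) (Nat.mod (MG u) M)) (nat_lit 40)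 z1 u (Nat.mod (MG u) M)) (mRel MG [T_fi, T_b, T_fi, T_fi] [T_f, T_bi] M (Nat.sub (MG u) (Nat.mod (MG u) M)) (nat_lit 40) z1 u (Nat.mod (MG u) M)) (Nat.ble (nat_lit 130) j)) (Nat.ble (nat_lit 129) j)) (Nat.ble (nat_lit 128) j)) (Bool.rec (motive := fun _ => Bool) (Bool.rec (motive := fun _ => Bool) (mRel MG [T_ci, T_zi, T_c] [T_zi] M (Nat.sub (MG u) (Nat.mod (MG u) M)) (nat_lit 40) z1 u (Nat.mod (MG u) M)) (mRel MG [T_zi, T_d] [T_d, T_zi] M (Nat.sub (MG u) (Nat.mod (MG u) M)) (nat_lit 40) z1 u (Nat.mod (MG u) M)) (Nat.ble (nat_lit 132) j)) (Bool.rec (motive := fun _ => Bool) (mRel MG [T_fi, T_di] [T_di, T_di, T_f, T_f] M (Nat.sub (MG u) (Nat.mod (MG u) M)) (nat_lit 40) z1 u (Nat.mod (MG u) M)) (Bool.rec (motive := fun _ => Bool) (mRel MG [T_fi, T_zi, T_f] [T_zi] M (Nat.sub (MG u) (Nat.mod (MG u) M)) (nat_lit 40) z1 u (Nat.mod (MG u) M)) (mRel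 MG [T_zi, T_bi, T_z] [T_bi] M (Nat.sub (MG u) (Nat.mod (MG u) M)) (nat_lit 40) z1 u (Nat.mod (MG u) M)) (Nat.ble (nat_lit 135) j)) (Nat.ble (nat_lit 134) j)) (Nat.ble (nat_lit 133) j)) (Nat.ble (nat_lit 131) j)
noncomputable def dM_26 (j z1 z2 u : ℕ) : Bool :=
  Bool.rec (motive := fun _ => Bool) (Bool.rec (motive := fun _ => Bool) (Bool.rec (motive := fun _ => Bool) (mRel MG [T_zi, T_d, T_z] [T_d] M (Nat.sub (MG u) (Nat.mod (MG u) M)) (nat_lit 40) z1 u (Nat.mod (MG u) M)) (mRel MG [T_d, T_f, T_di] [T_fi, T_fi, T_d] M (Nat.sub (MG u) (Nat.mod (MG u) M)) (nat_lit 40) z1 u (Nat.mod (MG u) M)) (Nat.ble (nat_lit 137) j)) (Bool.rec (motive := fun _ => Bool) (mRel MG [T_ei, T_ci, T_ei, T_zi, T_b, T_ei] [T_bi, T_e, T_c] M (Nat.sub (MG u) (Nat.mod (MG u) M)) (nat_lit 40) z1 u (Nat.mod (MG u) M)) (Bool.rec (motive := fun _ => Bool) (mRel MG [T_d, T_ci,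 T_e] [T_f, T_ei, T_fi, T_d, T_ci] M (Nat.sub (MG u) (Nat.mod (MG u) M)) (nat_lit 40) z1 u (Nat.mod (MG u) M)) (mRel MG [T_ei, T_b, T_ei] [T_c, T_e, T_bi, T_z, T_e, T_c] M (Nat.sub (MG u) (Nat.mod (MG u) M)) (nat_lit 40) z1 u (Nat.mod (MG u) M)) (Nat.ble (nat_lit 140) j)) (Nat.ble (nat_lit 139) j)) (Nat.ble (nat_lit 138) j)) (Bool.rec (motive := fun _ => Bool) (Bool.rec (motive := fun _ => Bool) (mRel MG [T_ci, T_ei, T_zi, T_b] [T_e, T_bi, T_e, T_c, T_e] M (Nat.sub (MG u) (Nat.mod (MG u) M)) (nat_lit 40) z1 u (Nat.mod (MG u) M)) (Bool.rec (motive := fun _ => Bool) (mRel MG [T_ci, T_ei] [T_e, T_bi, T_z, T_e, T_c, T_e, T_bi] M (Nat.sub (MG u) (Nat.mod (MG u) M)) (nat_lit 40) z1 u (Nat.mod (MG u) M)) (mRel MG [T_d, T_ci, T_e, T_c, T_di, T_f, T_e] [T_f] M (Nat.sub (MG u) (Nat.mod (MG u) M)) (nat_lit 40) z1 u (Nat.mod (MG u) M)) (Nat.ble (nat_lit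 143) j)) (Nat.ble (nat_lit 142) j)) (Bool.rec (motive := fun _ => Bool) (mRel MG [T_d, T_ci, T_e, T_c, T_di, T_f] [T_f, T_ei] M (Nat.sub (MG u) (Nat.mod (MG u) M)) (nat_lit 40) z1 u (Nat.mod (MG u) M)) (Bool.rec (motive := fun _ => Bool) (mRel MG [T_bi, T_di] [T_di, T_b, T_b] M (Nat.sub (MG u) (Nat.mod (MG u) M)) (nat_lit 40) z1 u (Nat.mod (MG u) M)) (mRel MG [T_f, T_di, T_di, T_f, T_f] [T_di] M (Nat.sub (MG u) (Nat.mod (MG u) M)) (nat_lit 40) z1 u (Nat.mod (MG u) M)) (Nat.ble (nat_lit 146) j)) (Nat.ble (nat_lit 145) j)) (Nat.ble (nat_lit 144) j)) (Nat.ble (nat_lit 141) j)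
noncomputable def dM_27 (j z1 z2 u : ℕ) : Bool :=
  Bool.rec (motive := fun _ => Bool) (dM_25 j z1 z2 u) (dM_26 j z1 z2 u) (Nat.ble (nat_lit 136) j)
noncomputable def dM_28 (j z1 z2 u : ℕ) : Bool :=
  Bool.rec (motive := fun _ => Bool) (Bool.rec (motive := fun _ => Bool) (Bool.rec (motive := fun _ => Bool) (mRel MG [T_b, T_b, T_d, T_b] [T_d] M (Nat.sub (MG u) (Nat.mod (MG u) M)) (nat_lit 40) z1 u (Nat.mod (MG u) M)) (Bool.rec (motive := fun _ => Bool) (mRel MG [T_f, T_e, T_fi, T_d, T_ci, T_e] [T_d, T_ci] M (Nat.sub (MG u) (Nat.mod (MG u) M)) (nat_lit 40) z1 u (Nat.mod (MG u) M)) (mRel MG [T_d, T_bi] [T_b, T_b, T_d] M (Nat.sub (MG u) (Nat.mod (MG u) M)) (nat_lit 40) z1 u (Nat.mod (MG u) M)) (Nat.ble (nat_lit 149) j)) (Nat.ble (nat_lit 148) j)) (Bool.rec (motive := fun _ => Bool) (mRel MG [T_fi, T_fi, T_b, T_fi] [T_bi, T_f] M (Nat.sub (MG u)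 (Nat.mod (MG u) M)) (nat_lit 40) z1 u (Nat.mod (MG u) M)) (Bool.rec (motive := fun _ => Bool) (mRel MG [T_f, T_c, T_f, T_c, T_f] [T_ci] M (Nat.sub (MG u) (Nat.mod (MG u) M)) (nat_lit 40) z1 u (Nat.mod (MG u) M)) (mRel MG [T_bi, T_f] [T_fi, T_fi, T_b, T_fi] M (Nat.sub (MG u) (Nat.mod (MG u) M)) (nat_lit 40) z1 u (Nat.mod (MG u) M)) (Nat.ble (nat_lit 152) j)) (Nat.ble (nat_lit 151) j)) (Nat.ble (nat_lit 150) j)) (Bool.rec (motive := fun _ => Bool) (Bool.rec (motive := fun _ => Bool) (mRel MG [T_zi, T_ci, T_z] [T_ci] M (Nat.sub (MG u) (Nat.mod (MG u) M)) (nat_lit 40) z1 u (Nat.mod (MG u) M)) (Bool.rec (motive := fun _ => Bool) (mRel MG [T_di, T_di, T_f, T_f] [T_fi, T_di] M (Nat.sub (MG u) (Nat.mod (MG u) M)) (nat_lit 40) z1 u (Nat.mod (MG u) M)) (mRel MG [T_f, T_f, T_d, T_f] [T_d, T_d] M (Nat.sub (MG u) (Nat.mod (MG u) M)) (nat_lit 40) z1 u (Nat.mod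 (MG u) M)) (Nat.ble (nat_lit 155) j)) (Nat.ble (nat_lit 154) j)) (Bool.rec (motive := fun _ => Bool) (mRel MG [T_c, T_f, T_c, T_f, T_c] [T_fi] M (Nat.sub (MG u) (Nat.mod (MG u) M)) (nat_lit 40) z1 u (Nat.mod (MG u) M)) (Bool.rec (motive := fun _ => Bool) (mRel MG [T_fi, T_b] [T_f, T_bi, T_f, T_f] M (Nat.sub (MG u) (Nat.mod (MG u) M)) (nat_lit 40) z1 u (Nat.mod (MG u) M)) (mRel MG [T_bi, T_bi] [T_d, T_b, T_di] M (Nat.sub (MG u) (Nat.mod (MG u) M)) (nat_lit 40) z1 u (Nat.mod (MG u) M)) (Nat.ble (nat_lit 158) j)) (Nat.ble (nat_lit 157) j)) (Nat.ble (nat_lit 156) j)) (Nat.ble (nat_lit 153) j)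
noncomputable def dM_29 (j z1 z2 u : ℕ) : Bool :=
  Bool.rec (motive := fun _ => Bool) (Bool.rec (motive := fun _ => Bool) (mRel MG [T_c, T_f] [T_fi, T_ci, T_fi, T_ci] M (Nat.sub (MG u) (Nat.mod (MG u) M)) (nat_lit 40) z1 u (Nat.mod (MG u) M)) (Bool.rec (motive := fun _ => Bool) (mRel MG [T_d, T_d] [T_f, T_f, T_d, T_f] M (Nat.sub (MG u) (Nat.mod (MG u) M)) (nat_lit 40) z1 u (Nat.mod (MG u) M)) (mRel MG [T_di, T_di] [T_d, T_d, T_d] M (Nat.sub (MG u) (Nat.mod (MG u) M)) (nat_lit 40) z1 u (Nat.mod (MG u) M)) (Nat.ble (nat_lit 161) j)) (Nat.ble (nat_lit 160) j)) (Bool.rec (motive := fun _ => Bool) (mRel MG [T_ci, T_fi, T_ci] [T_f, T_c, T_f] M (Nat.sub (MG u) (Nat.mod (MG u) M)) (nat_lit 40) z1 u (Nat.mod (MG u) M)) (Bool.rec (motive := fun _ => Bool) (mRel MG [T_e, T_bi, T_e, T_c, T_e] [T_ci, T_ei, T_zi, T_b] M (Nat.sub (MG u) (Nat.mod (MG u)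 M)) (nat_lit 40) z1 u (Nat.mod (MG u) M)) (mRel MG [T_di, T_f, T_ei] [T_ci, T_e, T_c, T_di, T_f] M (Nat.sub (MG u) (Nat.mod (MG u) M)) (nat_lit 40) z1 u (Nat.mod (MG u) M)) (Nat.ble (nat_lit 164) j)) (Nat.ble (nat_lit 163) j)) (Nat.ble (nat_lit 162) j)
noncomputable def dM_30 (j z1 z2 u : ℕ) : Bool :=
  Bool.rec (motive := fun _ => Bool) (Bool.rec (motive := fun _ => Bool) (mRel MG [T_bi, T_e, T_c] [T_ei, T_ci, T_ei, T_zi, T_b, T_ei] M (Nat.sub (MG u) (Nat.mod (MG u) M)) (nat_lit 40) z1 u (Nat.mod (MG u) M)) (Bool.rec (motive := fun _ => Bool) (mRel MG [T_zi, T_di, T_z] [T_di] M (Nat.sub (MG u) (Nat.mod (MG u) M)) (nat_lit 40) z1 u (Nat.mod (MG u) M)) (mRel MG [T_b, T_ei] [T_z, T_e, T_c, T_e, T_bi, T_e, T_c] M (Nat.sub (MG u) (Nat.mod (MG u) M)) (nat_lit 40) z1 u (Nat.mod (MG u) M)) (Nat.ble (nat_lit 167) j)) (Nat.ble (nat_lit 166) j)) (Bool.rec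 (motive := fun _ => Bool) (Bool.rec (motive := fun _ => Bool) (mRel MG [T_d, T_ci, T_ei] [T_f, T_e, T_fi, T_d, T_ci] M (Nat.sub (MG u) (Nat.mod (MG u) M)) (nat_lit 40) z1 u (Nat.mod (MG u) M)) (mRel MG [T_c] [T_ei, T_zi, T_b, T_ei, T_ci, T_ei, T_b, T_ei] M (Nat.sub (MG u) (Nat.mod (MG u) M)) (nat_lit 40) z1 u (Nat.mod (MG u) M)) (Nat.ble (nat_lit 169) j)) (Bool.rec (motive := fun _ => Bool) (mRel MG [T_c, T_e, T_bi, T_z, T_e, T_c, T_e] [T_ei, T_b] M (Nat.sub (MG u) (Nat.mod (MG u) M)) (nat_lit 40) z1 u (Nat.mod (MG u) M)) (mRel MG [T_fi, T_d, T_ci, T_ei, T_c, T_di, T_f, T_ei] [] M (Nat.sub (MG u) (Nat.mod (MG u) M)) (nat_lit 40) z1 u (Nat.mod (MG u) M)) (Nat.ble (nat_lit 171) j)) (Nat.ble (nat_lit 170) j)) (Nat.ble (nat_lit 168) j)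
noncomputable def dM_31 (j z1 z2 u : ℕ) : Bool :=
  Bool.rec (motive := fun _ => Bool) (dM_29 j z1 z2 u) (dM_30 j z1 z2 u) (Nat.ble (nat_lit 165) j)
noncomputable def dM_32 (j z1 z2 u : ℕ) : Bool :=
  Bool.rec (motive := fun _ => Bool) (dM_28 j z1 z2 u) (dM_31 j z1 z2 u) (Nat.ble (nat_lit 159) j)
noncomputable def dM_33 (j z1 z2 u : ℕ) : Bool :=
  Bool.rec (motive := fun _ => Bool) (dM_27 j z1 z2 u) (dM_32 j z1 z2 u) (Nat.ble (nat_lit 147) j)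
noncomputable def dM_34 (j z1 z2 u : ℕ) : Bool :=
  Bool.rec (motive := fun _ => Bool) (dM_24 j z1 z2 u) (dM_33 j z1 z2 u) (Nat.ble (nat_lit 126) j)
noncomputable def dM_35 (j z1 z2 u : ℕ) : Bool :=
  Bool.rec (motive := fun _ => Bool) (dM_17 j z1 z2 u) (dM_34 j z1 z2 u) (Nat.ble (nat_lit 91) j)
noncomputable def dM_36 (j z1 z2 u : ℕ) : Bool :=
  Bool.rec (motive := fun _ => Bool) (Bool.rec (motive := fun _ => Bool) (mRel MG [T_c, T_e] [T_ei, T_zi, T_b, T_ei, T_ci, T_ei, T_b] M (Nat.sub (MG u) (Nat.mod (MG u) M)) (nat_lit 40) z1 u (Nat.mod (MG u) M)) (Bool.rec (motive := fun _ => Bool) (mRel MG [T_ci] [T_e, T_bi, T_z, T_e, T_c, T_e, T_bi, T_e] M (Nat.sub (MG u) (Nat.mod (MG u) M)) (nat_lit 40) z1 u (Nat.mod (MG u) M)) (mRel MG [T_b, T_ei, T_ci, T_ei, T_b, T_ei, T_ci] [T_z, T_e] M (Nat.sub (MG u) (Nat.mod (MG u) M)) (nat_lit 40) z1 u (Nat.mod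 (MG u) M)) (Nat.ble (nat_lit 174) j)) (Nat.ble (nat_lit 173) j)) (Bool.rec (motive := fun _ => Bool) (Bool.rec (motive := fun _ => Bool) (mRel MG [T_b, T_ei, T_ci, T_ei] [T_z, T_e, T_c, T_e, T_bi] M (Nat.sub (MG u) (Nat.mod (MG u) M)) (nat_lit 40) z1 u (Nat.mod (MG u) M)) (mRel MG [T_f, T_f, T_d] [T_d, T_d, T_fi] M (Nat.sub (MG u) (Nat.mod (MG u) M)) (nat_lit 40) z1 u (Nat.mod (MG u) M)) (Nat.ble (nat_lit 176) j)) (Bool.rec (motive := fun _ => Bool) (mRel MG [T_di, T_f, T_f, T_d] [T_d, T_fi] M (Nat.sub (MG u) (Nat.mod (MG u) M)) (nat_lit 40) z1 u (Nat.mod (MG u) M)) (mRel MG [T_fi, T_ci, T_bi, T_c, T_di] [T_d, T_b] M (Nat.sub (MG u) (Nat.mod (MG u) M)) (nat_lit 40) z1 u (Nat.mod (MG u) M)) (Nat.ble (nat_lit 178) j)) (Nat.ble (nat_lit 177) j)) (Nat.ble (nat_lit 175) j)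
noncomputable def dM_37 (j z1 z2 u : ℕ) : Bool :=
  Bool.rec (motive := fun _ => Bool) (Bool.rec (motive := fun _ => Bool) (mRel MG [T_di, T_di] [T_fi, T_di, T_fi, T_fi] M (Nat.sub (MG u) (Nat.mod (MG u) M)) (nat_lit 40) z1 u (Nat.mod (MG u) M)) (Bool.rec (motive := fun _ => Bool) (mRel MG [T_di, T_f] [T_d, T_fi, T_di, T_fi] M (Nat.sub (MG u) (Nat.mod (MG u) M)) (nat_lit 40) z1 u (Nat.mod (MG u) M)) (mRel MG [T_d, T_d, T_d, T_d] [T_di] M (Nat.sub (MG u) (Nat.mod (MG u) M)) (nat_lit 40) z1 u (Nat.mod (MG u) M)) (Nat.ble (nat_lit 181) j)) (Nat.ble (nat_lit 180) j)) (Bool.rec (motive := fun _ => Bool) (Bool.rec (motive := fun _ => Bool) (mRel MG [T_di, T_f, T_f, T_d, T_f] [T_d] M (Nat.sub (MG u) (Nat.mod (MG u) M)) (nat_lit 40) z1 u (Nat.mod (MG u) M)) (mRel MG [T_b, T_d, T_ci, T_b, T_c] [T_di, T_fi] M (Nat.sub (MG u) (Nat.mod (MG u) M)) (nat_lit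 40) z1 u (Nat.mod (MG u) M)) (Nat.ble (nat_lit 183) j)) (Bool.rec (motive := fun _ => Bool) (mRel MG [T_fi, T_ci, T_fi, T_ci] [T_c, T_f] M (Nat.sub (MG u) (Nat.mod (MG u) M)) (nat_lit 40) z1 u (Nat.mod (MG u) M)) (mRel MG [T_bi, T_di, T_fi, T_ci, T_bi] [T_d, T_ci] M (Nat.sub (MG u) (Nat.mod (MG u) M)) (nat_lit 40) z1 u (Nat.mod (MG u) M)) (Nat.ble (nat_lit 185) j)) (Nat.ble (nat_lit 184) j)) (Nat.ble (nat_lit 182) j)
noncomputable def dM_38 (j z1 z2 u : ℕ) : Bool :=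
  Bool.rec (motive := fun _ => Bool) (dM_36 j z1 z2 u) (dM_37 j z1 z2 u) (Nat.ble (nat_lit 179) j)
noncomputable def dM_39 (j z1 z2 u : ℕ) : Bool :=
  Bool.rec (motive := fun _ => Bool) (Bool.rec (motive := fun _ => Bool) (mRel MG [T_di, T_di, T_di, T_di] [T_d] M (Nat.sub (MG u) (Nat.mod (MG u) M)) (nat_lit 40) z1 u (Nat.mod (MG u) M)) (Bool.rec (motive := fun _ => Bool) (mRel MG [T_f, T_f, T_bi] [T_b, T_fi, T_fi] M (Nat.sub (MG u) (Nat.mod (MG u) M)) (nat_lit 40) z1 u (Nat.mod (MG u) M)) (mRel MG [T_c, T_di] [T_d, T_fi, T_d, T_ci, T_ci] M (Nat.sub (MG u) (Nat.mod (MG u) M)) (nat_lit 40) z1 u (Nat.mod (MG u) M)) (Nat.ble (nat_lit 188) j)) (Nat.ble (nat_lit 187) j)) (Bool.rec (motive := fun _ => Bool) (Bool.rec (motive := fun _ => Bool) (mRel MG [T_fi, T_b, T_fi, T_fi, T_b] [T_f] M (Nat.sub (MG u) (Nat.mod (MG u) M)) (nat_lit 40) z1 u (Nat.mod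 (MG u) M)) (mRel MG [T_c, T_f, T_c] [T_fi, T_ci, T_fi] M (Nat.sub (MG u) (Nat.mod (MG u) M)) (nat_lit 40) z1 u (Nat.mod (MG u) M)) (Nat.ble (nat_lit 190) j)) (Bool.rec (motive := fun _ => Bool) (mRel MG [T_ei, T_ci, T_ei, T_zi, T_b] [T_bi, T_e, T_c, T_e] M (Nat.sub (MG u) (Nat.mod (MG u) M)) (nat_lit 40) z1 u (Nat.mod (MG u) M)) (mRel MG [T_bi, T_d, T_bi, T_di] [T_b] M (Nat.sub (MG u) (Nat.mod (MG u) M)) (nat_lit 40) z1 u (Nat.mod (MG u) M)) (Nat.ble (nat_lit 192) j)) (Nat.ble (nat_lit 191) j)) (Nat.ble (nat_lit 189) j)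
noncomputable def dM_40 (j z1 z2 u : ℕ) : Bool :=
  Bool.rec (motive := fun _ => Bool) (Bool.rec (motive := fun _ => Bool) (Bool.rec (motive := fun _ => Bool) (mRel MG [T_d, T_fi, T_di, T_fi] [T_di, T_f] M (Nat.sub (MG u) (Nat.mod (MG u) M)) (nat_lit 40) z1 u (Nat.mod (MG u) M)) (mRel MG [T_fi, T_ci, T_fi] [T_c, T_f, T_c] M (Nat.sub (MG u) (Nat.mod (MG u) M)) (nat_lit 40) z1 u (Nat.mod (MG u) M)) (Nat.ble (nat_lit 194) j)) (Bool.rec (motive := fun _ => Bool) (mRel MG [T_d, T_ci, T_ei, T_c, T_di, T_f, T_ei] [T_f] M (Nat.sub (MG u) (Nat.mod (MG u) M)) (nat_lit 40) z1 u (Nat.mod (MG u) M)) (mRel MG [T_zi, T_b, T_z] [T_b] M (Nat.sub (MG u) (Nat.mod (MG u) M)) (nat_lit 40) z1 u (Nat.mod (MG u) M)) (Nat.ble (nat_lit 196) j)) (Nat.ble (nat_lit 195) j)) (Bool.rec (motive := fun _ => Bool) (Bool.rec (motive := fun _ => Bool) (mRel MG [T_ci, T_zi] [T_zi,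 T_ci] M (Nat.sub (MG u) (Nat.mod (MG u) M)) (nat_lit 40) z1 u (Nat.mod (MG u) M)) (mRel MG [T_d, T_b, T_di, T_b] [T_bi] M (Nat.sub (MG u) (Nat.mod (MG u) M)) (nat_lit 40) z1 u (Nat.mod (MG u) M)) (Nat.ble (nat_lit 198) j)) (Bool.rec (motive := fun _ => Bool) (mRel MG [T_zi, T_c, T_z] [T_c] M (Nat.sub (MG u) (Nat.mod (MG u) M)) (nat_lit 40) z1 u (Nat.mod (MG u) M)) (mRel MG [T_b, T_di] [T_di, T_bi, T_bi] M (Nat.sub (MG u) (Nat.mod (MG u) M)) (nat_lit 40) z1 u (Nat.mod (MG u) M)) (Nat.ble (nat_lit 200) j)) (Nat.ble (nat_lit 199) j)) (Nat.ble (nat_lit 197) j)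
noncomputable def dM_41 (j z1 z2 u : ℕ) : Bool :=
  Bool.rec (motive := fun _ => Bool) (dM_39 j z1 z2 u) (dM_40 j z1 z2 u) (Nat.ble (nat_lit 193) j)
noncomputable def dM_42 (j z1 z2 u : ℕ) : Bool :=
  Bool.rec (motive := fun _ => Bool) (dM_38 j z1 z2 u) (dM_41 j z1 z2 u) (Nat.ble (nat_lit 186) j)
noncomputable def dM_43 (j z1 z2 u : ℕ) : Bool :=
  Bool.rec (motive := fun _ => Bool) (Bool.rec (motive := fun _ => Bool) (mRel MG [T_f, T_d, T_f, T_di] [T_fi, T_d] M (Nat.sub (MG u) (Nat.mod (MG u) M)) (nat_lit 40) z1 u (Nat.mod (MG u) M)) (Bool.rec (motive := fun _ => Bool) (mRel MG [T_e, T_c, T_e, T_bi, T_e] [T_zi, T_b, T_ei, T_ci] M (Nat.sub (MG u) (Nat.mod (MG u) M)) (nat_lit 40) z1 u (Nat.mod (MG u) M)) (mRel MG [T_c, T_c, T_c, T_c] [T_ci] M (Nat.sub (MG u) (Nat.mod (MG u) M)) (nat_lit 40) z1 u (Nat.mod (MG u) M)) (Nat.ble (nat_lit 203) j))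 (Nat.ble (nat_lit 202) j)) (Bool.rec (motive := fun _ => Bool) (Bool.rec (motive := fun _ => Bool) (mRel MG [T_di, T_f, T_f] [T_d, T_fi, T_di] M (Nat.sub (MG u) (Nat.mod (MG u) M)) (nat_lit 40) z1 u (Nat.mod (MG u) M)) (mRel MG [T_bi, T_z, T_e] [T_ei, T_ci, T_ei, T_b, T_ei, T_ci] M (Nat.sub (MG u) (Nat.mod (MG u) M)) (nat_lit 40) z1 u (Nat.mod (MG u) M)) (Nat.ble (nat_lit 205) j)) (Bool.rec (motive := fun _ => Bool) (mRel MG [T_d, T_b, T_d, T_ci, T_b] [T_fi, T_ci] M (Nat.sub (MG u) (Nat.mod (MG u) M)) (nat_lit 40) z1 u (Nat.mod (MG u) M)) (mRel MG [T_e, T_c, T_e, T_bi, T_e, T_c, T_e] [T_zi, T_b] M (Nat.sub (MG u) (Nat.mod (MG u) M)) (nat_lit 40) z1 u (Nat.mod (MG u) M)) (Nat.ble (nat_lit 207) j)) (Nat.ble (nat_lit 206) j)) (Nat.ble (nat_lit 204) j)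
noncomputable def dM_44 (j z1 z2 u : ℕ) : Bool :=
  Bool.rec (motive := fun _ => Bool) (Bool.rec (motive := fun _ => Bool) (Bool.rec (motive := fun _ => Bool) (mRel MG [T_z, T_f, T_zi] [T_f] M (Nat.sub (MG u) (Nat.mod (MG u) M)) (nat_lit 40) z1 u (Nat.mod (MG u) M)) (mRel MG [T_di, T_b, T_b, T_d] [T_bi] M (Nat.sub (MG u) (Nat.mod (MG u) M)) (nat_lit 40) z1 u (Nat.mod (MG u) M)) (Nat.ble (nat_lit 209) j)) (Bool.rec (motive := fun _ => Bool) (mRel MG [T_c, T_e, T_bi, T_z, T_e, T_c] [T_ei, T_b, T_ei] M (Nat.sub (MG u) (Nat.mod (MG u) M)) (nat_lit 40) z1 u (Nat.mod (MG u) M)) (mRel MG [T_c, T_e, T_bi, T_e] [T_ei, T_zi, T_b, T_ei, T_ci] M (Nat.sub (MG u) (Nat.mod (MG u) M)) (nat_lit 40) z1 u (Nat.mod (MG u) M)) (Nat.ble (nat_lit 211) j)) (Nat.ble (nat_lit 210) j)) (Bool.rec (motive := fun _ => Bool) (Bool.rec (motive := fun _ => Bool) (mRel MG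 [T_c, T_e, T_bi, T_z, T_e] [T_ei, T_b, T_ei, T_ci] M (Nat.sub (MG u) (Nat.mod (MG u) M)) (nat_lit 40) z1 u (Nat.mod (MG u) M)) (mRel MG [T_bi, T_e, T_c, T_e, T_bi, T_z, T_e, T_c] [T_ei] M (Nat.sub (MG u) (Nat.mod (MG u) M)) (nat_lit 40) z1 u (Nat.mod (MG u) M)) (Nat.ble (nat_lit 213) j)) (Bool.rec (motive := fun _ => Bool) (mRel MG [T_b, T_ei, T_ci, T_ei, T_b] [T_z, T_e, T_c, T_e] M (Nat.sub (MG u) (Nat.mod (MG u) M)) (nat_lit 40) z1 u (Nat.mod (MG u) M)) (mRel MG [T_c, T_e, T_bi, T_e, T_c, T_e, T_bi, T_z, T_e] [] M (Nat.sub (MG u) (Nat.mod (MG u) M)) (nat_lit 40) z1 u (Nat.mod (MG u) M)) (Nat.ble (nat_lit 215) j)) (Nat.ble (nat_lit 214) j)) (Nat.ble (nat_lit 212) j)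
noncomputable def dM_45 (j z1 z2 u : ℕ) : Bool :=
  Bool.rec (motive := fun _ => Bool) (dM_43 j z1 z2 u) (dM_44 j z1 z2 u) (Nat.ble (nat_lit 208) j)
noncomputable def dM_46 (j z1 z2 u : ℕ) : Bool :=
  Bool.rec (motive := fun _ => Bool) (Bool.rec (motive := fun _ => Bool) (Bool.rec (motive := fun _ => Bool) (mRel MG [T_ci, T_ei, T_zi, T_b, T_ei] [T_e, T_bi, T_e, T_c] M (Nat.sub (MG u) (Nat.mod (MG u) M)) (nat_lit 40) z1 u (Nat.mod (MG u) M)) (mRel MG [T_b, T_ei, T_ci, T_ei, T_b, T_ei] [T_z, T_e, T_c] M (Nat.sub (MG u) (Nat.mod (MG u) M)) (nat_lit 40) z1 u (Nat.mod (MG u) M)) (Nat.ble (nat_lit 217) j)) (Bool.rec (motive := fun _ => Bool) (mRel MG [T_ci, T_ei, T_b] [T_e, T_bi, T_z, T_e, T_c, T_e] M (Nat.sub (MG u) (Nat.mod (MG u) M)) (nat_lit 40) z1 u (Nat.mod (MG u) M)) (mRel MG [T_bi, T_z, T_e, T_c, T_e] [T_ei, T_ci, T_ei, T_b] M (Nat.sub (MG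 u) (Nat.mod (MG u) M)) (nat_lit 40) z1 u (Nat.mod (MG u) M)) (Nat.ble (nat_lit 219) j)) (Nat.ble (nat_lit 218) j)) (Bool.rec (motive := fun _ => Bool) (Bool.rec (motive := fun _ => Bool) (mRel MG [T_fi, T_d, T_ci, T_ci] [T_di, T_c, T_di] M (Nat.sub (MG u) (Nat.mod (MG u) M)) (nat_lit 40) z1 u (Nat.mod (MG u) M)) (mRel MG [T_f, T_f, T_f, T_f] [T_fi] M (Nat.sub (MG u) (Nat.mod (MG u) M)) (nat_lit 40) z1 u (Nat.mod (MG u) M)) (Nat.ble (nat_lit 221) j)) (Bool.rec (motive := fun _ => Bool) (mRel MG [T_ci, T_ci, T_ci, T_ci] [T_c] M (Nat.sub (MG u) (Nat.mod (MG u) M)) (nat_lit 40) z1 u (Nat.mod (MG u) M)) (mRel MG [T_bi, T_di, T_bi, T_bi] [T_di] M (Nat.sub (MG u) (Nat.mod (MG u) M)) (nat_lit 40) z1 u (Nat.mod (MG u) M)) (Nat.ble (nat_lit 223) j)) (Nat.ble (nat_lit 222) j)) (Nat.ble (nat_lit 220) j)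
noncomputable def dM_47 (j z1 z2 u : ℕ) : Bool :=
  Bool.rec (motive := fun _ => Bool) (Bool.rec (motive := fun _ => Bool) (Bool.rec (motive := fun _ => Bool) (mRel MG [T_z, T_bi, T_zi] [T_bi] M (Nat.sub (MG u) (Nat.mod (MG u) M)) (nat_lit 40) z1 u (Nat.mod (MG u) M)) (mRel MG [T_bi, T_c, T_di, T_bi, T_di, T_fi] [T_c] M (Nat.sub (MG u) (Nat.mod (MG u) M)) (nat_lit 40) z1 u (Nat.mod (MG u) M)) (Nat.ble (nat_lit 225) j)) (Bool.rec (motive := fun _ => Bool) (mRel MG [T_d, T_fi, T_di] [T_di, T_f, T_f] M (Nat.sub (MG u) (Nat.mod (MG u) M)) (nat_lit 40) z1 u (Nat.mod (MG u) M)) (Bool.rec (motive := fun _ => Bool) (mRel MG [T_bi, T_bi, T_d, T_bi] [T_d] M (Nat.sub (MG u) (Nat.mod (MG u) M)) (nat_lit 40) z1 u (Nat.mod (MG u) M)) (mRel MG [T_b, T_di, T_b, T_b] [T_di] M (Nat.sub (MG u) (Nat.mod (MG u) M)) (nat_lit 40) z1 u (Nat.mod (MG u) M)) (Nat.ble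 (nat_lit 228) j)) (Nat.ble (nat_lit 227) j)) (Nat.ble (nat_lit 226) j)) (Bool.rec (motive := fun _ => Bool) (Bool.rec (motive := fun _ => Bool) (mRel MG [T_di, T_zi] [T_zi, T_di] M (Nat.sub (MG u) (Nat.mod (MG u) M)) (nat_lit 40) z1 u (Nat.mod (MG u) M)) (mRel MG [T_z, T_di, T_zi] [T_di] M (Nat.sub (MG u) (Nat.mod (MG u) M)) (nat_lit 40) z1 u (Nat.mod (MG u) M)) (Nat.ble (nat_lit 230) j)) (Bool.rec (motive := fun _ => Bool) (mRel MG [T_ci, T_fi] [T_f, T_c, T_f, T_c] M (Nat.sub (MG u) (Nat.mod (MG u) M)) (nat_lit 40) z1 u (Nat.mod (MG u) M)) (Bool.rec (motive := fun _ => Bool) (mRel MG [T_bi, T_zi] [T_zi, T_bi] M (Nat.sub (MG u) (Nat.mod (MG u) M)) (nat_lit 40) z1 u (Nat.mod (MG u) M)) (mRel MG [T_fi, T_ci, T_bi] [T_d, T_b, T_d, T_ci] M (Nat.sub (MG u) (Nat.mod (MG u) M)) (nat_lit 40) z1 u (Nat.mod (MG u) M)) (Nat.ble (nat_lit 233) j)) (Nat.ble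 (nat_lit 232) j)) (Nat.ble (nat_lit 231) j)) (Nat.ble (nat_lit 229) j)
noncomputable def dM_48 (j z1 z2 u : ℕ) : Bool :=
  Bool.rec (motive := fun _ => Bool) (dM_46 j z1 z2 u) (dM_47 j z1 z2 u) (Nat.ble (nat_lit 224) j)
noncomputable def dM_49 (j z1 z2 u : ℕ) : Bool :=
  Bool.rec (motive := fun _ => Bool) (dM_45 j z1 z2 u) (dM_48 j z1 z2 u) (Nat.ble (nat_lit 216) j)
noncomputable def dM_50 (j z1 z2 u : ℕ) : Bool :=
  Bool.rec (motive := fun _ => Bool) (dM_42 j z1 z2 u) (dM_49 j z1 z2 u) (Nat.ble (nat_lit 201) j)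
noncomputable def dM_51 (j z1 z2 u : ℕ) : Bool :=
  Bool.rec (motive := fun _ => Bool) (Bool.rec (motive := fun _ => Bool) (Bool.rec (motive := fun _ => Bool) (mRel MG [T_f, T_ei, T_fi, T_d, T_ci, T_ei] [T_d, T_ci] M (Nat.sub (MG u) (Nat.mod (MG u) M)) (nat_lit 40) z1 u (Nat.mod (MG u) M)) (mRel MG [T_d, T_d, T_fi, T_di] [T_f, T_f] M (Nat.sub (MG u) (Nat.mod (MG u) M)) (nat_lit 40) z1 u (Nat.mod (MG u) M)) (Nat.ble (nat_lit 235) j)) (Bool.rec (motive := fun _ => Bool) (mRel MG [T_d, T_f] [T_fi, T_fi, T_d, T_d] M (Nat.sub (MG u) (Nat.mod (MG u) M)) (nat_lit 40) z1 u (Nat.mod (MG u) M)) (mRel MG [T_f, T_bi, T_f] [T_fi, T_b, T_fi] M (Nat.sub (MG u) (Nat.mod (MG u) M)) (nat_lit 40) z1 u (Nat.mod (MG u) M)) (Nat.ble (nat_lit 237) j)) (Nat.ble (nat_lit 236) j)) (Bool.rec (motive := fun _ => Bool) (Bool.rec (motive := fun _ => Bool) (mRel MG [T_f,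 T_d, T_d, T_fi, T_d] [T_d, T_f] M (Nat.sub (MG u) (Nat.mod (MG u) M)) (nat_lit 40) z1 u (Nat.mod (MG u) M)) (mRel MG [T_di, T_c, T_di] [T_fi, T_d, T_ci, T_ci] M (Nat.sub (MG u) (Nat.mod (MG u) M)) (nat_lit 40) z1 u (Nat.mod (MG u) M)) (Nat.ble (nat_lit 239) j)) (Bool.rec (motive := fun _ => Bool) (mRel MG [T_d, T_fi, T_d, T_ci, T_ci] [T_c, T_di] M (Nat.sub (MG u) (Nat.mod (MG u) M)) (nat_lit 40) z1 u (Nat.mod (MG u) M)) (Bool.rec (motive := fun _ => Bool) (mRel MG [T_ci, T_ei, T_c, T_di, T_f] [T_di, T_f, T_e] M (Nat.sub (MG u) (Nat.mod (MG u) M)) (nat_lit 40) z1 u (Nat.mod (MG u) M)) (mRel MG [T_di, T_bi, T_bi, T_d] [T_b] M (Nat.sub (MG u) (Nat.mod (MG u) M)) (nat_lit 40) z1 u (Nat.mod (MG u) M)) (Nat.ble (nat_lit 242) j)) (Nat.ble (nat_lit 241) j)) (Nat.ble (nat_lit 240) j)) (Nat.ble (nat_lit 238) j)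
noncomputable def dM_52 (j z1 z2 u : ℕ) : Bool :=
  Bool.rec (motive := fun _ => Bool) (Bool.rec (motive := fun _ => Bool) (Bool.rec (motive := fun _ => Bool) (mRel MG [T_ci, T_ei, T_b, T_ei, T_ci, T_ei, T_zi, T_b, T_ei] [] M (Nat.sub (MG u) (Nat.mod (MG u) M)) (nat_lit 40) z1 u (Nat.mod (MG u) M)) (mRel MG [T_bi, T_e, T_c, T_e, T_bi, T_z, T_e, T_c, T_e] [] M (Nat.sub (MG u) (Nat.mod (MG u) M)) (nat_lit 40) z1 u (Nat.mod (MG u) M)) (Nat.ble (nat_lit 244) j)) (Bool.rec (motive := fun _ => Bool) (mRel MG [T_ei, T_zi, T_b, T_ei, T_ci] [T_c, T_e, T_bi, T_e] M (Nat.sub (MG u) (Nat.mod (MG u) M)) (nat_lit 40) z1 u (Nat.mod (MG u) M)) (mRel MG [T_bi, T_e, T_c, T_e, T_bi, T_z] [T_ei, T_ci, T_ei] M (Nat.sub (MG u) (Nat.mod (MG u) M)) (nat_lit 40) z1 u (Nat.mod (MG u) M)) (Nat.ble (nat_lit 246) j)) (Nat.ble (nat_lit 245) j)) (Bool.rec (motive := fun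 _ => Bool) (Bool.rec (motive := fun _ => Bool) (mRel MG [T_e, T_bi, T_z] [T_ci, T_ei, T_b, T_ei, T_ci, T_ei] M (Nat.sub (MG u) (Nat.mod (MG u) M)) (nat_lit 40) z1 u (Nat.mod (MG u) M)) (mRel MG [T_e, T_c, T_e, T_bi, T_z, T_e, T_c, T_e] [T_b] M (Nat.sub (MG u) (Nat.mod (MG u) M)) (nat_lit 40) z1 u (Nat.mod (MG u) M)) (Nat.ble (nat_lit 248) j)) (Bool.rec (motive := fun _ => Bool) (mRel MG [T_z, T_e, T_c, T_e] [T_b, T_ei, T_ci, T_ei, T_b] M (Nat.sub (MG u) (Nat.mod (MG u) M)) (nat_lit 40) z1 u (Nat.mod (MG u) M)) (Bool.rec (motive := fun _ => Bool) (mRel MG [T_ci, T_d, T_fi, T_d, T_ci] [T_di, T_c] M (Nat.sub (MG u) (Nat.mod (MG u) M)) (nat_lit 40) z1 u (Nat.mod (MG u) M)) (mRel MG [T_ei, T_b, T_ei, T_ci, T_ei, T_zi, T_b] [T_c, T_e] M (Nat.sub (MG u) (Nat.mod (MG u) M)) (nat_lit 40) z1 u (Nat.mod (MG u) M)) (Nat.ble (nat_lit 251) j)) (Nat.ble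 (nat_lit 250) j)) (Nat.ble (nat_lit 249) j)) (Nat.ble (nat_lit 247) j)
noncomputable def dM_53 (j z1 z2 u : ℕ) : Bool :=
  Bool.rec (motive := fun _ => Bool) (dM_51 j z1 z2 u) (dM_52 j z1 z2 u) (Nat.ble (nat_lit 243) j)
noncomputable def dM_54 (j z1 z2 u : ℕ) : Bool :=
  Bool.rec (motive := fun _ => Bool) (Bool.rec (motive := fun _ => Bool) (Bool.rec (motive := fun _ => Bool) (mRel MG [T_ci] [T_di, T_f, T_ei, T_fi, T_d, T_ci, T_ei] M (Nat.sub (MG u) (Nat.mod (MG u) M)) (nat_lit 40) z1 u (Nat.mod (MG u) M)) (mRel MG [T_ei, T_b, T_ei, T_ci, T_ei] [T_c, T_e, T_bi, T_z] M (Nat.sub (MG u) (Nat.mod (MG u) M)) (nat_lit 40) z1 u (Nat.mod (MG u) M)) (Nat.ble (nat_lit 253) j)) (Bool.rec (motive := fun _ => Bool) (mRel MG [T_c, T_e, T_bi, T_z, T_e, T_c, T_e, T_bi] [T_ei] M (Nat.sub (MG u) (Nat.mod (MG u) M)) (nat_lit 40) z1 u (Nat.mod (MG u) M)) (mRel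 MG [T_e, T_bi, T_e, T_c, T_e, T_bi, T_z, T_e] [T_ci] M (Nat.sub (MG u) (Nat.mod (MG u) M)) (nat_lit 40) z1 u (Nat.mod (MG u) M)) (Nat.ble (nat_lit 255) j)) (Nat.ble (nat_lit 254) j)) (Bool.rec (motive := fun _ => Bool) (Bool.rec (motive := fun _ => Bool) (mRel MG [T_e, T_bi, T_z, T_e, T_c] [T_ci, T_ei, T_b, T_ei] M (Nat.sub (MG u) (Nat.mod (MG u) M)) (nat_lit 40) z1 u (Nat.mod (MG u) M)) (mRel MG [T_e, T_bi, T_e, T_c] [T_ci, T_ei, T_zi, T_b, T_ei] M (Nat.sub (MG u) (Nat.mod (MG u) M)) (nat_lit 40) z1 u (Nat.mod (MG u) M)) (Nat.ble (nat_lit 257) j)) (Bool.rec (motive := fun _ => Bool) (mRel MG [T_e, T_bi, T_e, T_c, T_e, T_bi] [T_ci, T_ei, T_zi] M (Nat.sub (MG u) (Nat.mod (MG u) M)) (nat_lit 40) z1 u (Nat.mod (MG u) M)) (Bool.rec (motive := fun _ => Bool) (mRel MG [T_fi, T_d, T_ci, T_e, T_c] [T_ei, T_fi, T_d] M (Nat.sub (MG u) (Nat.mod (MG u)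 M)) (nat_lit 40) z1 u (Nat.mod (MG u) M)) (mRel MG [T_ci, T_ei, T_b, T_ei, T_ci, T_ei, T_zi, T_b] [T_e] M (Nat.sub (MG u) (Nat.mod (MG u) M)) (nat_lit 40) z1 u (Nat.mod (MG u) M)) (Nat.ble (nat_lit 260) j)) (Nat.ble (nat_lit 259) j)) (Nat.ble (nat_lit 258) j)) (Nat.ble (nat_lit 256) j)
noncomputable def dM_55 (j z1 z2 u : ℕ) : Bool :=
  Bool.rec (motive := fun _ => Bool) (Bool.rec (motive := fun _ => Bool) (Bool.rec (motive := fun _ => Bool) (mRel MG [T_f] [T_d, T_ci, T_ei, T_c, T_di, T_f, T_ei] M (Nat.sub (MG u) (Nat.mod (MG u) M)) (nat_lit 40) z1 u (Nat.mod (MG u) M)) (mRel MG [T_bi, T_z, T_e, T_c] [T_ei, T_ci, T_ei, T_b, T_ei] M (Nat.sub (MG u) (Nat.mod (MG u) M)) (nat_lit 40) z1 u (Nat.mod (MG u) M)) (Nat.ble (nat_lit 262) j)) (Bool.rec (motive := fun _ => Bool) (mRel MG [T_e, T_bi, T_z, T_e] [T_ci, T_ei, T_b, T_ei, T_ci] M (Nat.sub (MG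 u) (Nat.mod (MG u) M)) (nat_lit 40) z1 u (Nat.mod (MG u) M)) (Bool.rec (motive := fun _ => Bool) (mRel MG [T_b, T_ei, T_ci, T_ei, T_b, T_ei, T_ci, T_ei] [T_z] M (Nat.sub (MG u) (Nat.mod (MG u) M)) (nat_lit 40) z1 u (Nat.mod (MG u) M)) (mRel MG [T_bi, T_z, T_e, T_c, T_e, T_bi] [T_ei, T_ci, T_ei] M (Nat.sub (MG u) (Nat.mod (MG u) M)) (nat_lit 40) z1 u (Nat.mod (MG u) M)) (Nat.ble (nat_lit 265) j)) (Nat.ble (nat_lit 264) j)) (Nat.ble (nat_lit 263) j)) (Bool.rec (motive := fun _ => Bool) (Bool.rec (motive := fun _ => Bool) (mRel MG [T_c, T_e, T_bi] [T_ei, T_zi, T_b, T_ei, T_ci, T_ei] M (Nat.sub (MG u) (Nat.mod (MG u) M)) (nat_lit 40) z1 u (Nat.mod (MG u) M)) (Bool.rec (motive := fun _ => Bool) (mRel MG [T_di, T_fi, T_ci, T_bi] [T_b, T_d, T_ci] M (Nat.sub (MG u) (Nat.mod (MG u) M)) (nat_lit 40) z1 u (Nat.mod (MG u) M)) (mRel MG [T_d, T_d, T_fi,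 T_di, T_fi] [T_f] M (Nat.sub (MG u) (Nat.mod (MG u) M)) (nat_lit 40) z1 u (Nat.mod (MG u) M)) (Nat.ble (nat_lit 268) j)) (Nat.ble (nat_lit 267) j)) (Bool.rec (motive := fun _ => Bool) (mRel MG [T_di, T_bi, T_di, T_fi, T_ci] [T_ci, T_b] M (Nat.sub (MG u) (Nat.mod (MG u) M)) (nat_lit 40) z1 u (Nat.mod (MG u) M)) (Bool.rec (motive := fun _ => Bool) (mRel MG [T_fi, T_d, T_ci, T_ci, T_d, T_ci] [T_di] M (Nat.sub (MG u) (Nat.mod (MG u) M)) (nat_lit 40) z1 u (Nat.mod (MG u) M)) (mRel MG [T_fi, T_c, T_fi] [T_di, T_b, T_ci, T_d, T_b] M (Nat.sub (MG u) (Nat.mod (MG u) M)) (nat_lit 40) z1 u (Nat.mod (MG u) M)) (Nat.ble (nat_lit 271) j)) (Nat.ble (nat_lit 270) j)) (Nat.ble (nat_lit 269) j)) (Nat.ble (nat_lit 266) j)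
noncomputable def dM_56 (j z1 z2 u : ℕ) : Bool :=
  Bool.rec (motive := fun _ => Bool) (dM_54 j z1 z2 u) (dM_55 j z1 z2 u) (Nat.ble (nat_lit 261) j)
noncomputable def dM_57 (j z1 z2 u : ℕ) : Bool :=
  Bool.rec (motive := fun _ => Bool) (dM_53 j z1 z2 u) (dM_56 j z1 z2 u) (Nat.ble (nat_lit 252) j)
noncomputable def dM_58 (j z1 z2 u : ℕ) : Bool :=
  Bool.rec (motive := fun _ => Bool) (Bool.rec (motive := fun _ => Bool) (Bool.rec (motive := fun _ => Bool) (mRel MG [T_bi, T_d] [T_b, T_d, T_b] M (Nat.sub (MG u) (Nat.mod (MG u) M)) (nat_lit 40) z1 u (Nat.mod (MG u) M)) (Bool.rec (motive := fun _ => Bool) (mRel MG [T_f, T_bi, T_f, T_f, T_bi] [T_fi] M (Nat.sub (MG u) (Nat.mod (MG u) M)) (nat_lit 40) z1 u (Nat.mod (MG u) M)) (mRel MG [T_fi, T_fi, T_d] [T_d, T_f, T_di] M (Nat.sub (MG u) (Nat.mod (MG u) M)) (nat_lit 40) z1 u (Nat.mod (MG u) M)) (Nat.ble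 (nat_lit 274) j)) (Nat.ble (nat_lit 273) j)) (Bool.rec (motive := fun _ => Bool) (mRel MG [T_fi, T_di, T_fi, T_fi] [T_di, T_di] M (Nat.sub (MG u) (Nat.mod (MG u) M)) (nat_lit 40) z1 u (Nat.mod (MG u) M)) (Bool.rec (motive := fun _ => Bool) (mRel MG [T_d, T_b] [T_bi, T_bi, T_d] M (Nat.sub (MG u) (Nat.mod (MG u) M)) (nat_lit 40) z1 u (Nat.mod (MG u) M)) (mRel MG [T_c, T_c, T_di] [T_d, T_ci, T_d, T_fi] M (Nat.sub (MG u) (Nat.mod (MG u) M)) (nat_lit 40) z1 u (Nat.mod (MG u) M)) (Nat.ble (nat_lit 277) j)) (Nat.ble (nat_lit 276) j)) (Nat.ble (nat_lit 275) j)) (Bool.rec (motive := fun _ => Bool) (Bool.rec (motive := fun _ => Bool) (mRel MG [T_d, T_d] [T_di, T_di, T_di] M (Nat.sub (MG u) (Nat.mod (MG u) M)) (nat_lit 40) z1 u (Nat.mod (MG u) M)) (Bool.rec (motive := fun _ => Bool) (mRel MG [T_fi, T_d, T_d] [T_f, T_d, T_f] M (Nat.sub (MG u) (Nat.mod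 (MG u) M)) (nat_lit 40) z1 u (Nat.mod (MG u) M)) (mRel MG [T_ci, T_fi, T_ci, T_fi, T_ci] [T_f] M (Nat.sub (MG u) (Nat.mod (MG u) M)) (nat_lit 40) z1 u (Nat.mod (MG u) M)) (Nat.ble (nat_lit 280) j)) (Nat.ble (nat_lit 279) j)) (Bool.rec (motive := fun _ => Bool) (mRel MG [T_bi, T_f, T_f] [T_fi, T_fi, T_b] M (Nat.sub (MG u) (Nat.mod (MG u) M)) (nat_lit 40) z1 u (Nat.mod (MG u) M)) (Bool.rec (motive := fun _ => Bool) (mRel MG [T_d, T_bi, T_di, T_bi] [T_b] M (Nat.sub (MG u) (Nat.mod (MG u) M)) (nat_lit 40) z1 u (Nat.mod (MG u) M)) (mRel MG [T_d, T_fi, T_d, T_fi] [T_di, T_fi, T_d] M (Nat.sub (MG u) (Nat.mod (MG u) M)) (nat_lit 40) z1 u (Nat.mod (MG u) M)) (Nat.ble (nat_lit 283) j)) (Nat.ble (nat_lit 282) j)) (Nat.ble (nat_lit 281) j)) (Nat.ble (nat_lit 278) j)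
noncomputable def dM_59 (j z1 z2 u : ℕ) : Bool :=
  Bool.rec (motive := fun _ => Bool) (Bool.rec (motive := fun _ => Bool) (mRel MG [T_f, T_di, T_di, T_f] [T_di, T_fi] M (Nat.sub (MG u) (Nat.mod (MG u) M)) (nat_lit 40) z1 u (Nat.mod (MG u) M)) (Bool.rec (motive := fun _ => Bool) (mRel MG [T_f, T_f, T_bi, T_f, T_f] [T_b] M (Nat.sub (MG u) (Nat.mod (MG u) M)) (nat_lit 40) z1 u (Nat.mod (MG u) M)) (mRel MG [T_e, T_e, T_e, T_e] [T_ei] M (Nat.sub (MG u) (Nat.mod (MG u) M)) (nat_lit 40) z1 u (Nat.mod (MG u) M)) (Nat.ble (nat_lit 286) j)) (Nat.ble (nat_lit 285) j)) (Bool.rec (motive := fun _ => Bool) (mRel MG [T_c, T_f] [T_bi, T_c, T_di, T_bi, T_di] M (Nat.sub (MG u) (Nat.mod (MG u) M)) (nat_lit 40) z1 u (Nat.mod (MG u) M)) (Bool.rec (motive := fun _ => Bool) (mRel MG [T_zi, T_f, T_z] [T_f] M (Nat.sub (MG u) (Nat.mod (MG u) M)) (nat_lit 40) z1 u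 (Nat.mod (MG u) M)) (mRel MG [T_ci, T_ei, T_b, T_ei, T_ci, T_ei, T_zi] [T_e, T_bi] M (Nat.sub (MG u) (Nat.mod (MG u) M)) (nat_lit 40) z1 u (Nat.mod (MG u) M)) (Nat.ble (nat_lit 289) j)) (Nat.ble (nat_lit 288) j)) (Nat.ble (nat_lit 287) j)
noncomputable def dM_60 (j z1 z2 u : ℕ) : Bool :=
  Bool.rec (motive := fun _ => Bool) (Bool.rec (motive := fun _ => Bool) (mRel MG [T_ei, T_b, T_ei, T_ci] [T_c, T_e, T_bi, T_z, T_e] M (Nat.sub (MG u) (Nat.mod (MG u) M)) (nat_lit 40) z1 u (Nat.mod (MG u) M)) (Bool.rec (motive := fun _ => Bool) (mRel MG [T_fi, T_zi] [T_zi, T_fi] M (Nat.sub (MG u) (Nat.mod (MG u) M)) (nat_lit 40) z1 u (Nat.mod (MG u) M)) (mRel MG [T_ci, T_ei, T_b, T_ei, T_ci, T_ei] [T_e, T_bi, T_z] M (Nat.sub (MG u) (Nat.mod (MG u) M)) (nat_lit 40) z1 u (Nat.mod (MG u) M)) (Nat.ble (nat_lit 292) j)) (Nat.ble (nat_lit 291) j)) (Bool.rec (motive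 := fun _ => Bool) (Bool.rec (motive := fun _ => Bool) (mRel MG [T_d, T_ci, T_ei, T_c, T_di, T_f] [T_f, T_e] M (Nat.sub (MG u) (Nat.mod (MG u) M)) (nat_lit 40) z1 u (Nat.mod (MG u) M)) (mRel MG [T_b, T_ei, T_ci] [T_z, T_e, T_c, T_e, T_bi, T_e] M (Nat.sub (MG u) (Nat.mod (MG u) M)) (nat_lit 40) z1 u (Nat.mod (MG u) M)) (Nat.ble (nat_lit 294) j)) (Bool.rec (motive := fun _ => Bool) (mRel MG [T_di, T_fi] [T_f, T_di, T_di, T_f] M (Nat.sub (MG u) (Nat.mod (MG u) M)) (nat_lit 40) z1 u (Nat.mod (MG u) M)) (mRel MG [T_zi, T_b] [T_e, T_c, T_e, T_bi, T_e, T_c, T_e] M (Nat.sub (MG u) (Nat.mod (MG u) M)) (nat_lit 40) z1 u (Nat.mod (MG u) M)) (Nat.ble (nat_lit 296) j)) (Nat.ble (nat_lit 295) j)) (Nat.ble (nat_lit 293) j)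
noncomputable def dM_61 (j z1 z2 u : ℕ) : Bool :=
  Bool.rec (motive := fun _ => Bool) (dM_59 j z1 z2 u) (dM_60 j z1 z2 u) (Nat.ble (nat_lit 290) j)
noncomputable def dM_62 (j z1 z2 u : ℕ) : Bool :=
  Bool.rec (motive := fun _ => Bool) (dM_58 j z1 z2 u) (dM_61 j z1 z2 u) (Nat.ble (nat_lit 284) j)
noncomputable def dM_63 (j z1 z2 u : ℕ) : Bool :=
  Bool.rec (motive := fun _ => Bool) (Bool.rec (motive := fun _ => Bool) (Bool.rec (motive := fun _ => Bool) (mRel MG [T_d, T_d, T_fi] [T_f, T_f, T_d] M (Nat.sub (MG u) (Nat.mod (MG u) M)) (nat_lit 40) z1 u (Nat.mod (MG u) M)) (Bool.rec (motive := fun _ => Bool) (mRel MG [T_fi, T_ci, T_fi, T_ci, T_fi] [T_c] M (Nat.sub (MG u) (Nat.mod (MG u) M)) (nat_lit 40) z1 u (Nat.mod (MG u) M)) (mRel MG [T_f, T_e, T_fi, T_d, T_ci] [T_d, T_ci, T_ei] M (Nat.sub (MG u) (Nat.mod (MG u) M)) (nat_lit 40) z1 u (Nat.mod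 (MG u) M)) (Nat.ble (nat_lit 299) j)) (Nat.ble (nat_lit 298) j)) (Bool.rec (motive := fun _ => Bool) (mRel MG [T_ei, T_ci, T_ei, T_b, T_ei, T_ci] [T_bi, T_z, T_e] M (Nat.sub (MG u) (Nat.mod (MG u) M)) (nat_lit 40) z1 u (Nat.mod (MG u) M)) (Bool.rec (motive := fun _ => Bool) (mRel MG [T_fi, T_d] [T_di, T_c, T_di, T_c, T_c] M (Nat.sub (MG u) (Nat.mod (MG u) M)) (nat_lit 40) z1 u (Nat.mod (MG u) M)) (mRel MG [T_c, T_di, T_c] [T_d, T_fi, T_d, T_ci] M (Nat.sub (MG u) (Nat.mod (MG u) M)) (nat_lit 40) z1 u (Nat.mod (MG u) M)) (Nat.ble (nat_lit 302) j)) (Nat.ble (nat_lit 301) j)) (Nat.ble (nat_lit 300) j)) (Bool.rec (motive := fun _ => Bool) (Bool.rec (motive := fun _ => Bool) (mRel MG [T_z, T_b, T_zi] [T_b] M (Nat.sub (MG u) (Nat.mod (MG u) M)) (nat_lit 40) z1 u (Nat.mod (MG u) M)) (Bool.rec (motive := fun _ => Bool) (mRel MG [T_c, T_c, T_di, T_f,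 T_di] [T_d, T_ci] M (Nat.sub (MG u) (Nat.mod (MG u) M)) (nat_lit 40) z1 u (Nat.mod (MG u) M)) (mRel MG [T_b, T_ei, T_ci, T_ei, T_zi, T_b, T_ei] [T_e, T_c] M (Nat.sub (MG u) (Nat.mod (MG u) M)) (nat_lit 40) z1 u (Nat.mod (MG u) M)) (Nat.ble (nat_lit 305) j)) (Nat.ble (nat_lit 304) j)) (Bool.rec (motive := fun _ => Bool) (mRel MG [T_di, T_fi, T_ci, T_bi, T_c] [T_b, T_d] M (Nat.sub (MG u) (Nat.mod (MG u) M)) (nat_lit 40) z1 u (Nat.mod (MG u) M)) (Bool.rec (motive := fun _ => Bool) (mRel MG [T_ei, T_ci] [T_bi, T_z, T_e, T_c, T_e, T_bi, T_e] M (Nat.sub (MG u) (Nat.mod (MG u) M)) (nat_lit 40) z1 u (Nat.mod (MG u) M)) (mRel MG [T_ei, T_b, T_ci, T_b, T_b] [T_b, T_ci, T_b, T_b, T_e] M (Nat.sub (MG u) (Nat.mod (MG u) M)) (nat_lit 40) z1 u (Nat.mod (MG u) M)) (Nat.ble (nat_lit 308) j)) (Nat.ble (nat_lit 307) j)) (Nat.ble (nat_lit 306) j)) (Nat.ble (nat_lit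 303) j)
noncomputable def dM_64 (j z1 z2 u : ℕ) : Bool :=
  Bool.rec (motive := fun _ => Bool) (Bool.rec (motive := fun _ => Bool) (mRel MG [T_ei, T_ci, T_ei, T_zi, T_b, T_ei, T_ci, T_ei] [T_bi] M (Nat.sub (MG u) (Nat.mod (MG u) M)) (nat_lit 40) z1 u (Nat.mod (MG u) M)) (Bool.rec (motive := fun _ => Bool) (mRel MG [T_e, T_c] [T_zi, T_b, T_ei, T_ci, T_ei, T_b, T_ei] M (Nat.sub (MG u) (Nat.mod (MG u) M)) (nat_lit 40) z1 u (Nat.mod (MG u) M)) (mRel MG [T_ci] [T_di, T_f, T_e, T_fi, T_d, T_ci, T_e] M (Nat.sub (MG u) (Nat.mod (MG u) M)) (nat_lit 40) z1 u (Nat.mod (MG u) M)) (Nat.ble (nat_lit 311) j)) (Nat.ble (nat_lit 310) j)) (Bool.rec (motive := fun _ => Bool) (mRel MG [T_e, T_bi, T_z, T_e, T_c, T_e, T_bi] [T_ci, T_ei] M (Nat.sub (MG u) (Nat.mod (MG u) M)) (nat_lit 40) z1 u (Nat.mod (MG u) M)) (Bool.rec (motive := fun _ => Bool) (mRel MG [T_f]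 [T_d, T_ci, T_e, T_c, T_di, T_f, T_e] M (Nat.sub (MG u) (Nat.mod (MG u) M)) (nat_lit 40) z1 u (Nat.mod (MG u) M)) (mRel MG [T_b, T_ei, T_ci, T_ei, T_b, T_ei, T_ci, T_ei, T_zi] [] M (Nat.sub (MG u) (Nat.mod (MG u) M)) (nat_lit 40) z1 u (Nat.mod (MG u) M)) (Nat.ble (nat_lit 314) j)) (Nat.ble (nat_lit 313) j)) (Nat.ble (nat_lit 312) j)
noncomputable def dM_65 (j z1 z2 u : ℕ) : Bool :=
  Bool.rec (motive := fun _ => Bool) (Bool.rec (motive := fun _ => Bool) (mRel MG [T_ei, T_b, T_ei, T_ci, T_ei, T_zi, T_b, T_ei] [T_c] M (Nat.sub (MG u) (Nat.mod (MG u) M)) (nat_lit 40) z1 u (Nat.mod (MG u) M)) (Bool.rec (motive := fun _ => Bool) (mRel MG [T_b, T_ci, T_b, T_b, T_e, T_bi, T_bi] [T_ei, T_b, T_ci] M (Nat.sub (MG u) (Nat.mod (MG u) M)) (nat_lit 40) z1 u (Nat.mod (MG u) M)) (mRel MG [T_ci, T_ci] [T_c, T_c, T_c] M (Nat.sub (MG u) (Nat.mod (MG u) M)) (nat_lit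 40) z1 u (Nat.mod (MG u) M)) (Nat.ble (nat_lit 317) j)) (Nat.ble (nat_lit 316) j)) (Bool.rec (motive := fun _ => Bool) (Bool.rec (motive := fun _ => Bool) (mRel MG [T_ei, T_zi, T_b, T_ei] [T_c, T_e, T_bi, T_e, T_c] M (Nat.sub (MG u) (Nat.mod (MG u) M)) (nat_lit 40) z1 u (Nat.mod (MG u) M)) (mRel MG [T_ci, T_ei, T_zi] [T_e, T_bi, T_e, T_c, T_e, T_bi] M (Nat.sub (MG u) (Nat.mod (MG u) M)) (nat_lit 40) z1 u (Nat.mod (MG u) M)) (Nat.ble (nat_lit 319) j)) (Bool.rec (motive := fun _ => Bool) (mRel MG [T_ci, T_ei, T_zi, T_b, T_ei, T_ci, T_ei] [T_e, T_bi] M (Nat.sub (MG u) (Nat.mod (MG u) M)) (nat_lit 40) z1 u (Nat.mod (MG u) M)) (mRel MG [T_d, T_ci] [T_c, T_c, T_di, T_f, T_di] M (Nat.sub (MG u) (Nat.mod (MG u) M)) (nat_lit 40) z1 u (Nat.mod (MG u) M)) (Nat.ble (nat_lit 321) j)) (Nat.ble (nat_lit 320) j)) (Nat.ble (nat_lit 318) j)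
noncomputable def dM_66 (j z1 z2 u : ℕ) : Bool :=
  Bool.rec (motive := fun _ => Bool) (dM_64 j z1 z2 u) (dM_65 j z1 z2 u) (Nat.ble (nat_lit 315) j)
noncomputable def dM_67 (j z1 z2 u : ℕ) : Bool :=
  Bool.rec (motive := fun _ => Bool) (dM_63 j z1 z2 u) (dM_66 j z1 z2 u) (Nat.ble (nat_lit 309) j)
noncomputable def dM_68 (j z1 z2 u : ℕ) : Bool :=
  Bool.rec (motive := fun _ => Bool) (dM_62 j z1 z2 u) (dM_67 j z1 z2 u) (Nat.ble (nat_lit 297) j)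
noncomputable def dM_69 (j z1 z2 u : ℕ) : Bool :=
  Bool.rec (motive := fun _ => Bool) (dM_57 j z1 z2 u) (dM_68 j z1 z2 u) (Nat.ble (nat_lit 272) j)
noncomputable def dM_70 (j z1 z2 u : ℕ) : Bool :=
  Bool.rec (motive := fun _ => Bool) (dM_50 j z1 z2 u) (dM_69 j z1 z2 u) (Nat.ble (nat_lit 234) j)
noncomputable def dM_71 (j z1 z2 u : ℕ) : Bool :=
  Bool.rec (motive := fun _ => Bool) (Bool.rec (motive := fun _ => Bool) (Bool.rec (motive := fun _ => Bool) (mRel MG [T_c, T_di, T_bi, T_di] [T_b, T_c, T_f] M (Nat.sub (MG u) (Nat.mod (MG u) M)) (nat_lit 40) z1 u (Nat.mod (MG u) M)) (mRel MG [T_d, T_fi, T_d, T_ci, T_ci, T_d, T_ci] [] M (Nat.sub (MG u) (Nat.mod (MG u) M)) (nat_lit 40) z1 u (Nat.mod (MG u) M)) (Nat.ble (nat_lit 323) j)) (Bool.rec (motive := fun _ => Bool) (mRel MG [T_f, T_d, T_f, T_di, T_di] [T_fi] M (Nat.sub (MG u) (Nat.mod (MG u)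 M)) (nat_lit 40) z1 u (Nat.mod (MG u) M)) (mRel MG [T_fi, T_fi, T_d, T_d, T_fi] [T_d] M (Nat.sub (MG u) (Nat.mod (MG u) M)) (nat_lit 40) z1 u (Nat.mod (MG u) M)) (Nat.ble (nat_lit 325) j)) (Nat.ble (nat_lit 324) j)) (Bool.rec (motive := fun _ => Bool) (Bool.rec (motive := fun _ => Bool) (mRel MG [T_bi, T_c, T_c, T_di] [T_d, T_ci, T_ci, T_b] M (Nat.sub (MG u) (Nat.mod (MG u) M)) (nat_lit 40) z1 u (Nat.mod (MG u) M)) (mRel MG [T_bi, T_c, T_c, T_di, T_bi] [T_d, T_ci, T_ci] M (Nat.sub (MG u) (Nat.mod (MG u) M)) (nat_lit 40) z1 u (Nat.mod (MG u) M)) (Nat.ble (nat_lit 327) j)) (Bool.rec (motive := fun _ => Bool) (mRel MG [T_di, T_zi, T_d] [T_zi] M (Nat.sub (MG u) (Nat.mod (MG u) M)) (nat_lit 40) z1 u (Nat.mod (MG u) M)) (Bool.rec (motive := fun _ => Bool) (mRel MG [T_ci, T_ci, T_bi, T_d, T_f, T_ci] [T_d, T_bi] M (Nat.sub (MG u) (Nat.mod (MG u) M))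 (nat_lit 40) z1 u (Nat.mod (MG u) M)) (mRel MG [T_di, T_c, T_c] [T_ci, T_d, T_fi, T_d] M (Nat.sub (MG u) (Nat.mod (MG u) M)) (nat_lit 40) z1 u (Nat.mod (MG u) M)) (Nat.ble (nat_lit 330) j)) (Nat.ble (nat_lit 329) j)) (Nat.ble (nat_lit 328) j)) (Nat.ble (nat_lit 326) j)
noncomputable def dM_72 (j z1 z2 u : ℕ) : Bool :=
  Bool.rec (motive := fun _ => Bool) (Bool.rec (motive := fun _ => Bool) (Bool.rec (motive := fun _ => Bool) (mRel MG [T_f, T_di] [T_di, T_fi, T_fi, T_d] M (Nat.sub (MG u) (Nat.mod (MG u) M)) (nat_lit 40) z1 u (Nat.mod (MG u) M)) (mRel MG [T_d, T_fi, T_di, T_fi, T_fi] [T_di] M (Nat.sub (MG u) (Nat.mod (MG u) M)) (nat_lit 40) z1 u (Nat.mod (MG u) M)) (Nat.ble (nat_lit 332) j)) (Bool.rec (motive := fun _ => Bool) (mRel MG [T_d, T_f, T_di, T_di] [T_fi, T_fi] M (Nat.sub (MG u) (Nat.mod (MG u) M)) (nat_lit 40) z1 u (Nat.mod (MG u)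 M)) (mRel MG [T_fi, T_d, T_fi] [T_di, T_di, T_fi, T_d] M (Nat.sub (MG u) (Nat.mod (MG u) M)) (nat_lit 40) z1 u (Nat.mod (MG u) M)) (Nat.ble (nat_lit 334) j)) (Nat.ble (nat_lit 333) j)) (Bool.rec (motive := fun _ => Bool) (Bool.rec (motive := fun _ => Bool) (mRel MG [T_d, T_fi, T_d, T_ci] [T_c, T_di, T_c] M (Nat.sub (MG u) (Nat.mod (MG u) M)) (nat_lit 40) z1 u (Nat.mod (MG u) M)) (mRel MG [T_d, T_ci, T_d, T_fi, T_d, T_ci] [T_c] M (Nat.sub (MG u) (Nat.mod (MG u) M)) (nat_lit 40) z1 u (Nat.mod (MG u) M)) (Nat.ble (nat_lit 336) j)) (Bool.rec (motive := fun _ => Bool) (mRel MG [T_di, T_fi, T_fi, T_d, T_d, T_fi] [] M (Nat.sub (MG u) (Nat.mod (MG u) M)) (nat_lit 40) z1 u (Nat.mod (MG u) M)) (Bool.rec (motive := fun _ => Bool) (mRel MG [T_d, T_ci, T_b, T_c] [T_bi, T_di, T_fi] M (Nat.sub (MG u) (Nat.mod (MG u) M)) (nat_lit 40) z1 u (Nat.mod (MG u)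 M)) (mRel MG [T_di, T_bi, T_c, T_b, T_d, T_ci] [T_f, T_f] M (Nat.sub (MG u) (Nat.mod (MG u) M)) (nat_lit 40) z1 u (Nat.mod (MG u) M)) (Nat.ble (nat_lit 339) j)) (Nat.ble (nat_lit 338) j)) (Nat.ble (nat_lit 337) j)) (Nat.ble (nat_lit 335) j)
noncomputable def dM_73 (j z1 z2 u : ℕ) : Bool :=
  Bool.rec (motive := fun _ => Bool) (dM_71 j z1 z2 u) (dM_72 j z1 z2 u) (Nat.ble (nat_lit 331) j)
noncomputable def dM_74 (j z1 z2 u : ℕ) : Bool :=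
  Bool.rec (motive := fun _ => Bool) (Bool.rec (motive := fun _ => Bool) (Bool.rec (motive := fun _ => Bool) (mRel MG [T_d, T_c, T_b] [T_f, T_bi, T_di, T_di, T_fi] M (Nat.sub (MG u) (Nat.mod (MG u) M)) (nat_lit 40) z1 u (Nat.mod (MG u) M)) (mRel MG [T_ci, T_bi, T_c, T_di] [T_f, T_d, T_b] M (Nat.sub (MG u) (Nat.mod (MG u) M)) (nat_lit 40) z1 u (Nat.mod (MG u) M)) (Nat.ble (nat_lit 341) j)) (Bool.rec (motive := fun _ => Bool) (mRel MG [T_di, T_f, T_di] [T_fi, T_di, T_f, T_d] M (Nat.sub (MG u) (Nat.mod (MG u) M)) (nat_lit 40) z1 u (Nat.mod (MG u) M)) (mRel MG [T_d, T_ci, T_ci, T_d, T_ci] [T_f, T_di] M (Nat.sub (MG u) (Nat.mod (MG u) M)) (nat_lit 40) z1 u (Nat.mod (MG u) M)) (Nat.ble (nat_lit 343) j)) (Nat.ble (nat_lit 342) j)) (Bool.rec (motive := fun _ => Bool) (Bool.rec (motive := fun _ => Bool) (mRel MG [T_zi, T_fi, T_z] [T_fi] M (Nat.sub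 (MG u) (Nat.mod (MG u) M)) (nat_lit 40) z1 u (Nat.mod (MG u) M)) (mRel MG [T_bi, T_zi, T_b] [T_zi] M (Nat.sub (MG u) (Nat.mod (MG u) M)) (nat_lit 40) z1 u (Nat.mod (MG u) M)) (Nat.ble (nat_lit 345) j)) (Bool.rec (motive := fun _ => Bool) (mRel MG [T_ci, T_bi, T_c, T_di, T_bi] [T_f, T_d] M (Nat.sub (MG u) (Nat.mod (MG u) M)) (nat_lit 40) z1 u (Nat.mod (MG u) M)) (Bool.rec (motive := fun _ => Bool) (mRel MG [T_bi, T_f, T_f, T_bi, T_f] [T_fi] M (Nat.sub (MG u) (Nat.mod (MG u) M)) (nat_lit 40) z1 u (Nat.mod (MG u) M)) (mRel MG [T_f, T_di, T_b, T_ci, T_d, T_b] [T_c, T_fi] M (Nat.sub (MG u) (Nat.mod (MG u) M)) (nat_lit 40) z1 u (Nat.mod (MG u) M)) (Nat.ble (nat_lit 348) j)) (Nat.ble (nat_lit 347) j)) (Nat.ble (nat_lit 346) j)) (Nat.ble (nat_lit 344) j)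
noncomputable def dM_75 (j z1 z2 u : ℕ) : Bool :=
  Bool.rec (motive := fun _ => Bool) (Bool.rec (motive := fun _ => Bool) (Bool.rec (motive := fun _ => Bool) (mRel MG [T_fi, T_d] [T_f, T_d, T_f, T_di] M (Nat.sub (MG u) (Nat.mod (MG u) M)) (nat_lit 40) z1 u (Nat.mod (MG u) M)) (mRel MG [T_fi, T_di, T_f] [T_di, T_f, T_di, T_di] M (Nat.sub (MG u) (Nat.mod (MG u) M)) (nat_lit 40) z1 u (Nat.mod (MG u) M)) (Nat.ble (nat_lit 350) j)) (Bool.rec (motive := fun _ => Bool) (mRel MG [T_d, T_d, T_fi, T_d, T_fi] [T_fi, T_d] M (Nat.sub (MG u) (Nat.mod (MG u) M)) (nat_lit 40) z1 u (Nat.mod (MG u) M)) (Bool.rec (motive := fun _ => Bool) (mRel MG [T_f, T_f] [T_b, T_fi, T_fi, T_b] M (Nat.sub (MG u) (Nat.mod (MG u) M)) (nat_lit 40) z1 u (Nat.mod (MG u) M)) (mRel MG [T_z, T_ci, T_zi] [T_ci] M (Nat.sub (MG u) (Nat.mod (MG u) M)) (nat_lit 40) z1 u (Nat.mod (MG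 u) M)) (Nat.ble (nat_lit 353) j)) (Nat.ble (nat_lit 352) j)) (Nat.ble (nat_lit 351) j)) (Bool.rec (motive := fun _ => Bool) (Bool.rec (motive := fun _ => Bool) (mRel MG [T_f, T_f] [T_d, T_d, T_fi, T_di] M (Nat.sub (MG u) (Nat.mod (MG u) M)) (nat_lit 40) z1 u (Nat.mod (MG u) M)) (mRel MG [T_c, T_di, T_c, T_c, T_di] [T_d, T_fi] M (Nat.sub (MG u) (Nat.mod (MG u) M)) (nat_lit 40) z1 u (Nat.mod (MG u) M)) (Nat.ble (nat_lit 355) j)) (Bool.rec (motive := fun _ => Bool) (mRel MG [T_di, T_bi, T_di, T_fi] [T_ci, T_b, T_c] M (Nat.sub (MG u) (Nat.mod (MG u) M)) (nat_lit 40) z1 u (Nat.mod (MG u) M)) (Bool.rec (motive := fun _ => Bool) (mRel MG [T_c, T_di, T_bi, T_di, T_fi] [T_b, T_c] M (Nat.sub (MG u) (Nat.mod (MG u) M)) (nat_lit 40) z1 u (Nat.mod (MG u) M)) (mRel MG [T_b, T_f, T_c, T_di, T_b] [T_d, T_ci, T_fi] M (Nat.sub (MG u) (Nat.mod (MG u) M)) (nat_lit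 40) z1 u (Nat.mod (MG u) M)) (Nat.ble (nat_lit 358) j)) (Nat.ble (nat_lit 357) j)) (Nat.ble (nat_lit 356) j)) (Nat.ble (nat_lit 354) j)
noncomputable def dM_76 (j z1 z2 u : ℕ) : Bool :=
  Bool.rec (motive := fun _ => Bool) (dM_74 j z1 z2 u) (dM_75 j z1 z2 u) (Nat.ble (nat_lit 349) j)
noncomputable def dM_77 (j z1 z2 u : ℕ) : Bool :=
  Bool.rec (motive := fun _ => Bool) (dM_73 j z1 z2 u) (dM_76 j z1 z2 u) (Nat.ble (nat_lit 340) j)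
noncomputable def dM_78 (j z1 z2 u : ℕ) : Bool :=
  Bool.rec (motive := fun _ => Bool) (Bool.rec (motive := fun _ => Bool) (Bool.rec (motive := fun _ => Bool) (mRel MG [T_c, T_di, T_f, T_di] [T_ci, T_d, T_ci] M (Nat.sub (MG u) (Nat.mod (MG u) M)) (nat_lit 40) z1 u (Nat.mod (MG u) M)) (mRel MG [T_f, T_f, T_bi, T_f] [T_b, T_fi] M (Nat.sub (MG u) (Nat.mod (MG u) M)) (nat_lit 40) z1 u (Nat.mod (MG u) M)) (Nat.ble (nat_lit 360) j)) (Bool.rec (motive := fun _ => Bool) (mRel MG [T_f, T_di, T_f, T_di, T_di] [T_di, T_f] M (Nat.sub (MG u) (Nat.mod (MG u) M)) (nat_lit 40) z1 u (Nat.mod (MG u) M)) (mRel MG [T_fi, T_ci, T_bi, T_c] [T_d, T_b, T_d] M (Nat.sub (MG u) (Nat.mod (MG u) M)) (nat_lit 40) z1 u (Nat.mod (MG u) M)) (Nat.ble (nat_lit 362) j)) (Nat.ble (nat_lit 361) j)) (Bool.rec (motive := fun _ => Bool) (Bool.rec (motive := fun _ => Bool) (mRel MG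 [T_fi, T_fi] [T_bi, T_f, T_f, T_bi] M (Nat.sub (MG u) (Nat.mod (MG u) M)) (nat_lit 40) z1 u (Nat.mod (MG u) M)) (mRel MG [T_ci, T_bi, T_c] [T_f, T_d, T_b, T_d] M (Nat.sub (MG u) (Nat.mod (MG u) M)) (nat_lit 40) z1 u (Nat.mod (MG u) M)) (Nat.ble (nat_lit 364) j)) (Bool.rec (motive := fun _ => Bool) (mRel MG [T_d, T_f, T_di] [T_f, T_d, T_d, T_fi] M (Nat.sub (MG u) (Nat.mod (MG u) M)) (nat_lit 40) z1 u (Nat.mod (MG u) M)) (Bool.rec (motive := fun _ => Bool) (mRel MG [T_f, T_di, T_di] [T_di, T_fi, T_fi] M (Nat.sub (MG u) (Nat.mod (MG u) M)) (nat_lit 40) z1 u (Nat.mod (MG u) M)) (mRel MG [T_fi, T_d, T_f] [T_d, T_d, T_fi, T_d] M (Nat.sub (MG u) (Nat.mod (MG u) M)) (nat_lit 40) z1 u (Nat.mod (MG u) M)) (Nat.ble (nat_lit 367) j)) (Nat.ble (nat_lit 366) j)) (Nat.ble (nat_lit 365) j)) (Nat.ble (nat_lit 363) j)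
noncomputable def dM_79 (j z1 z2 u : ℕ) : Bool :=
  Bool.rec (motive := fun _ => Bool) (Bool.rec (motive := fun _ => Bool) (Bool.rec (motive := fun _ => Bool) (mRel MG [T_f, T_f, T_bi, T_f, T_f, T_bi] [] M (Nat.sub (MG u) (Nat.mod (MG u) M)) (nat_lit 40) z1 u (Nat.mod (MG u) M)) (mRel MG [T_di, T_f, T_di, T_c, T_di] [T_ci, T_ci] M (Nat.sub (MG u) (Nat.mod (MG u) M)) (nat_lit 40) z1 u (Nat.mod (MG u) M)) (Nat.ble (nat_lit 369) j)) (Bool.rec (motive := fun _ => Bool) (mRel MG [T_f, T_di, T_c, T_di, T_c] [T_d, T_ci] M (Nat.sub (MG u) (Nat.mod (MG u) M)) (nat_lit 40) z1 u (Nat.mod (MG u) M)) (Bool.rec (motive := fun _ => Bool) (mRel MG [T_ci, T_b, T_di, T_f, T_bi, T_c] [T_d, T_f] M (Nat.sub (MG u) (Nat.mod (MG u) M)) (nat_lit 40) z1 u (Nat.mod (MG u) M)) (mRel MG [T_d, T_b, T_d, T_ci, T_b, T_c] [T_fi] M (Nat.sub (MG u) (Nat.mod (MG u) M)) (nat_lit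 40) z1 u (Nat.mod (MG u) M)) (Nat.ble (nat_lit 372) j)) (Nat.ble (nat_lit 371) j)) (Nat.ble (nat_lit 370) j)) (Bool.rec (motive := fun _ => Bool) (Bool.rec (motive := fun _ => Bool) (mRel MG [T_zi] [T_fi, T_zi, T_f] M (Nat.sub (MG u) (Nat.mod (MG u) M)) (nat_lit 40) z1 u (Nat.mod (MG u) M)) (mRel MG [T_fi, T_di, T_fi, T_fi, T_d] [T_di] M (Nat.sub (MG u) (Nat.mod (MG u) M)) (nat_lit 40) z1 u (Nat.mod (MG u) M)) (Nat.ble (nat_lit 374) j)) (Bool.rec (motive := fun _ => Bool) (mRel MG [T_c, T_f, T_d, T_b, T_d] [T_bi, T_c] M (Nat.sub (MG u) (Nat.mod (MG u) M)) (nat_lit 40) z1 u (Nat.mod (MG u) M)) (Bool.rec (motive := fun _ => Bool) (mRel MG [T_di, T_fi, T_ci] [T_b, T_d, T_ci, T_b] M (Nat.sub (MG u) (Nat.mod (MG u) M)) (nat_lit 40) z1 u (Nat.mod (MG u) M)) (mRel MG [T_zi, T_b, T_ei, T_ci] [T_e, T_c, T_e, T_bi, T_e] M (Nat.sub (MG u) (Nat.mod (MG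 u) M)) (nat_lit 40) z1 u (Nat.mod (MG u) M)) (Nat.ble (nat_lit 377) j)) (Nat.ble (nat_lit 376) j)) (Nat.ble (nat_lit 375) j)) (Nat.ble (nat_lit 373) j)
noncomputable def dM_80 (j z1 z2 u : ℕ) : Bool :=
  Bool.rec (motive := fun _ => Bool) (dM_78 j z1 z2 u) (dM_79 j z1 z2 u) (Nat.ble (nat_lit 368) j)
noncomputable def dM_81 (j z1 z2 u : ℕ) : Bool :=
  Bool.rec (motive := fun _ => Bool) (Bool.rec (motive := fun _ => Bool) (Bool.rec (motive := fun _ => Bool) (mRel MG [T_di, T_f, T_e, T_fi, T_d, T_ci] [T_ci, T_ei] M (Nat.sub (MG u) (Nat.mod (MG u) M)) (nat_lit 40) z1 u (Nat.mod (MG u) M)) (mRel MG [T_ei, T_zi, T_b, T_ei, T_ci, T_ei] [T_c, T_e, T_bi] M (Nat.sub (MG u) (Nat.mod (MG u) M)) (nat_lit 40) z1 u (Nat.mod (MG u) M)) (Nat.ble (nat_lit 379) j)) (Bool.rec (motive := fun _ => Bool) (mRel MG [T_d, T_ci, T_b] [T_bi, T_di, T_fi, T_ci] M (Nat.sub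 (MG u) (Nat.mod (MG u) M)) (nat_lit 40) z1 u (Nat.mod (MG u) M)) (mRel MG [T_fi, T_d, T_ci, T_e, T_c, T_di, T_f, T_e] [] M (Nat.sub (MG u) (Nat.mod (MG u) M)) (nat_lit 40) z1 u (Nat.mod (MG u) M)) (Nat.ble (nat_lit 381) j)) (Nat.ble (nat_lit 380) j)) (Bool.rec (motive := fun _ => Bool) (Bool.rec (motive := fun _ => Bool) (mRel MG [T_c, T_di, T_f, T_ei, T_fi, T_d, T_ci, T_ei] [] M (Nat.sub (MG u) (Nat.mod (MG u) M)) (nat_lit 40) z1 u (Nat.mod (MG u) M)) (mRel MG [T_z, T_e, T_c] [T_b, T_ei, T_ci, T_ei, T_b, T_ei] M (Nat.sub (MG u) (Nat.mod (MG u) M)) (nat_lit 40) z1 u (Nat.mod (MG u) M)) (Nat.ble (nat_lit 383) j)) (Bool.rec (motive := fun _ => Bool) (mRel MG [T_ei, T_ci, T_ei, T_b, T_ei, T_ci, T_ei] [T_bi, T_z] M (Nat.sub (MG u) (Nat.mod (MG u) M)) (nat_lit 40) z1 u (Nat.mod (MG u) M)) (Bool.rec (motive := fun _ => Bool) (mRel MG [T_ci, T_d,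 T_ci, T_d] [T_c, T_di, T_f] M (Nat.sub (MG u) (Nat.mod (MG u) M)) (nat_lit 40) z1 u (Nat.mod (MG u) M)) (mRel MG [T_d, T_b, T_c] [T_fi, T_b, T_c, T_bi, T_di] M (Nat.sub (MG u) (Nat.mod (MG u) M)) (nat_lit 40) z1 u (Nat.mod (MG u) M)) (Nat.ble (nat_lit 386) j)) (Nat.ble (nat_lit 385) j)) (Nat.ble (nat_lit 384) j)) (Nat.ble (nat_lit 382) j)
noncomputable def dM_82 (j z1 z2 u : ℕ) : Bool :=
  Bool.rec (motive := fun _ => Bool) (Bool.rec (motive := fun _ => Bool) (Bool.rec (motive := fun _ => Bool) (mRel MG [T_bi, T_e, T_c, T_e, T_bi, T_z, T_e] [T_ei, T_ci] M (Nat.sub (MG u) (Nat.mod (MG u) M)) (nat_lit 40) z1 u (Nat.mod (MG u) M)) (mRel MG [T_c, T_di, T_bi, T_di, T_fi, T_ci] [T_b] M (Nat.sub (MG u) (Nat.mod (MG u) M)) (nat_lit 40) z1 u (Nat.mod (MG u) M)) (Nat.ble (nat_lit 388) j)) (Bool.rec (motive := fun _ => Bool) (mRel MG [T_di, T_di, T_f]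 [T_fi, T_di, T_fi] M (Nat.sub (MG u) (Nat.mod (MG u) M)) (nat_lit 40) z1 u (Nat.mod (MG u) M)) (Bool.rec (motive := fun _ => Bool) (mRel MG [T_fi, T_fi, T_fi, T_fi] [T_f] M (Nat.sub (MG u) (Nat.mod (MG u) M)) (nat_lit 40) z1 u (Nat.mod (MG u) M)) (mRel MG [T_e, T_c, T_e, T_bi, T_z, T_e, T_c, T_e, T_bi] [] M (Nat.sub (MG u) (Nat.mod (MG u) M)) (nat_lit 40) z1 u (Nat.mod (MG u) M)) (Nat.ble (nat_lit 391) j)) (Nat.ble (nat_lit 390) j)) (Nat.ble (nat_lit 389) j)) (Bool.rec (motive := fun _ => Bool) (Bool.rec (motive := fun _ => Bool) (mRel MG [T_f, T_z] [T_z, T_f] M (Nat.sub (MG u) (Nat.mod (MG u) M)) (nat_lit 40) z1 u (Nat.mod (MG u) M)) (mRel MG [T_bi, T_bi, T_c, T_bi, T_ei, T_b, T_ci] [T_e, T_bi, T_bi] M (Nat.sub (MG u) (Nat.mod (MG u) M)) (nat_lit 40) z1 u (Nat.mod (MG u) M)) (Nat.ble (nat_lit 393) j)) (Bool.rec (motive := fun _ => Bool) (mRel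 MG [T_b, T_di, T_f, T_bi] [T_c, T_d, T_f, T_ci] M (Nat.sub (MG u) (Nat.mod (MG u) M)) (nat_lit 40) z1 u (Nat.mod (MG u) M)) (Bool.rec (motive := fun _ => Bool) (mRel MG [T_c, T_e, T_bi, T_e, T_c, T_e] [T_ei, T_zi, T_b] M (Nat.sub (MG u) (Nat.mod (MG u) M)) (nat_lit 40) z1 u (Nat.mod (MG u) M)) (mRel MG [T_e, T_c, T_e, T_bi, T_z] [T_b, T_ei, T_ci, T_ei] M (Nat.sub (MG u) (Nat.mod (MG u) M)) (nat_lit 40) z1 u (Nat.mod (MG u) M)) (Nat.ble (nat_lit 396) j)) (Nat.ble (nat_lit 395) j)) (Nat.ble (nat_lit 394) j)) (Nat.ble (nat_lit 392) j)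
noncomputable def dM_83 (j z1 z2 u : ℕ) : Bool :=
  Bool.rec (motive := fun _ => Bool) (dM_81 j z1 z2 u) (dM_82 j z1 z2 u) (Nat.ble (nat_lit 387) j)
noncomputable def dM_84 (j z1 z2 u : ℕ) : Bool :=
  Bool.rec (motive := fun _ => Bool) (dM_80 j z1 z2 u) (dM_83 j z1 z2 u) (Nat.ble (nat_lit 378) j)
noncomputable def dM_85 (j z1 z2 u : ℕ) : Bool :=
  Bool.rec (motive := fun _ => Bool) (dM_77 j z1 z2 u) (dM_84 j z1 z2 u) (Nat.ble (nat_lit 359) j)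
noncomputable def dM_86 (j z1 z2 u : ℕ) : Bool :=
  Bool.rec (motive := fun _ => Bool) (Bool.rec (motive := fun _ => Bool) (Bool.rec (motive := fun _ => Bool) (mRel MG [T_di, T_f, T_ei, T_fi, T_d, T_ci] [T_ci, T_e] M (Nat.sub (MG u) (Nat.mod (MG u) M)) (nat_lit 40) z1 u (Nat.mod (MG u) M)) (mRel MG [T_z, T_ci, T_zi, T_c] [] M (Nat.sub (MG u) (Nat.mod (MG u) M)) (nat_lit 40) z1 u (Nat.mod (MG u) M)) (Nat.ble (nat_lit 398) j)) (Bool.rec (motive := fun _ => Bool) (mRel MG [T_f, T_di, T_c] [T_d, T_ci, T_ci, T_d] M (Nat.sub (MG u) (Nat.mod (MG u) M)) (nat_lit 40) z1 u (Nat.mod (MG u) M)) (mRel MG [T_fi, T_d] [T_d, T_d, T_fi, T_d, T_fi] M (Nat.sub (MG u) (Nat.mod (MG u) M)) (nat_lit 40) z1 u (Nat.mod (MG u) M)) (Nat.ble (nat_lit 400) j)) (Nat.ble (nat_lit 399) j)) (Bool.rec (motive := fun _ => Bool) (Bool.rec (motive := fun _ => Bool) (mRel MG [T_b,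 T_ci, T_b, T_ci, T_b] [T_c, T_bi, T_c] M (Nat.sub (MG u) (Nat.mod (MG u) M)) (nat_lit 40) z1 u (Nat.mod (MG u) M)) (mRel MG [T_c, T_c] [T_d, T_ci, T_d, T_fi, T_d] M (Nat.sub (MG u) (Nat.mod (MG u) M)) (nat_lit 40) z1 u (Nat.mod (MG u) M)) (Nat.ble (nat_lit 402) j)) (Bool.rec (motive := fun _ => Bool) (mRel MG [T_b, T_d, T_b, T_di] [T_bi] M (Nat.sub (MG u) (Nat.mod (MG u) M)) (nat_lit 40) z1 u (Nat.mod (MG u) M)) (Bool.rec (motive := fun _ => Bool) (mRel MG [T_ci, T_bi] [T_f, T_d, T_b, T_d, T_ci] M (Nat.sub (MG u) (Nat.mod (MG u) M)) (nat_lit 40) z1 u (Nat.mod (MG u) M)) (mRel MG [T_fi, T_bi, T_c, T_f, T_b, T_fi] [T_ci, T_ci] M (Nat.sub (MG u) (Nat.mod (MG u) M)) (nat_lit 40) z1 u (Nat.mod (MG u) M)) (Nat.ble (nat_lit 405) j)) (Nat.ble (nat_lit 404) j)) (Nat.ble (nat_lit 403) j)) (Nat.ble (nat_lit 401) j)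
noncomputable def dM_87 (j z1 z2 u : ℕ) : Bool :=
  Bool.rec (motive := fun _ => Bool) (Bool.rec (motive := fun _ => Bool) (Bool.rec (motive := fun _ => Bool) (mRel MG [T_di, T_c, T_di, T_c] [T_fi, T_d, T_ci] M (Nat.sub (MG u) (Nat.mod (MG u) M)) (nat_lit 40) z1 u (Nat.mod (MG u) M)) (mRel MG [T_d, T_f, T_f, T_c, T_di, T_bi] [T_bi, T_c] M (Nat.sub (MG u) (Nat.mod (MG u) M)) (nat_lit 40) z1 u (Nat.mod (MG u) M)) (Nat.ble (nat_lit 407) j)) (Bool.rec (motive := fun _ => Bool) (mRel MG [T_d, T_ci, T_d] [T_c, T_c, T_di, T_f] M (Nat.sub (MG u) (Nat.mod (MG u) M)) (nat_lit 40) z1 u (Nat.mod (MG u) M)) (mRel MG [T_fi, T_d, T_ci, T_ei, T_c, T_di, T_f] [T_e] M (Nat.sub (MG u) (Nat.mod (MG u) M)) (nat_lit 40) z1 u (Nat.mod (MG u) M)) (Nat.ble (nat_lit 409) j)) (Nat.ble (nat_lit 408) j)) (Bool.rec (motive := fun _ => Bool) (Bool.rec (motive := fun _ =>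 Bool) (mRel MG [T_ei, T_zi, T_b] [T_c, T_e, T_bi, T_e, T_c, T_e] M (Nat.sub (MG u) (Nat.mod (MG u) M)) (nat_lit 40) z1 u (Nat.mod (MG u) M)) (mRel MG [T_fi, T_d, T_fi, T_di] [T_di, T_di, T_fi] M (Nat.sub (MG u) (Nat.mod (MG u) M)) (nat_lit 40) z1 u (Nat.mod (MG u) M)) (Nat.ble (nat_lit 411) j)) (Bool.rec (motive := fun _ => Bool) (mRel MG [T_bi, T_bi, T_c, T_bi] [T_e, T_bi, T_bi, T_c, T_bi, T_e] M (Nat.sub (MG u) (Nat.mod (MG u) M)) (nat_lit 40) z1 u (Nat.mod (MG u) M)) (Bool.rec (motive := fun _ => Bool) (mRel MG [T_zi, T_b, T_ei, T_ci, T_ei, T_b] [T_e, T_c, T_e] M (Nat.sub (MG u) (Nat.mod (MG u) M)) (nat_lit 40) z1 u (Nat.mod (MG u) M)) (mRel MG [T_e, T_bi, T_bi, T_c, T_bi] [T_bi, T_bi, T_c, T_bi, T_ei] M (Nat.sub (MG u) (Nat.mod (MG u) M)) (nat_lit 40) z1 u (Nat.mod (MG u) M)) (Nat.ble (nat_lit 414) j)) (Nat.ble (nat_lit 413) j)) (Nat.ble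 (nat_lit 412) j)) (Nat.ble (nat_lit 410) j)
noncomputable def dM_88 (j z1 z2 u : ℕ) : Bool :=
  Bool.rec (motive := fun _ => Bool) (dM_86 j z1 z2 u) (dM_87 j z1 z2 u) (Nat.ble (nat_lit 406) j)
noncomputable def dM_89 (j z1 z2 u : ℕ) : Bool :=
  Bool.rec (motive := fun _ => Bool) (Bool.rec (motive := fun _ => Bool) (Bool.rec (motive := fun _ => Bool) (mRel MG [T_di, T_f, T_ei, T_fi, T_d, T_ci, T_ei] [T_ci] M (Nat.sub (MG u) (Nat.mod (MG u) M)) (nat_lit 40) z1 u (Nat.mod (MG u) M)) (mRel MG [T_ei, T_b, T_ei, T_ci, T_ei, T_zi, T_b, T_ei, T_ci] [] M (Nat.sub (MG u) (Nat.mod (MG u) M)) (nat_lit 40) z1 u (Nat.mod (MG u) M)) (Nat.ble (nat_lit 416) j)) (Bool.rec (motive := fun _ => Bool) (mRel MG [T_c, T_e, T_bi, T_e, T_c, T_e, T_bi] [T_ei, T_zi] M (Nat.sub (MG u) (Nat.mod (MG u) M)) (nat_lit 40) z1 u (Nat.mod (MG u) M)) (mRel MG [T_c, T_di] [T_ei,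 T_c, T_di, T_f, T_ei, T_fi] M (Nat.sub (MG u) (Nat.mod (MG u) M)) (nat_lit 40) z1 u (Nat.mod (MG u) M)) (Nat.ble (nat_lit 418) j)) (Nat.ble (nat_lit 417) j)) (Bool.rec (motive := fun _ => Bool) (Bool.rec (motive := fun _ => Bool) (mRel MG [T_b, T_b, T_ei, T_bi, T_bi] [T_c, T_bi, T_e, T_b, T_ci] M (Nat.sub (MG u) (Nat.mod (MG u) M)) (nat_lit 40) z1 u (Nat.mod (MG u) M)) (mRel MG [T_f, T_d, T_b] [T_ci, T_bi, T_c, T_di] M (Nat.sub (MG u) (Nat.mod (MG u) M)) (nat_lit 40) z1 u (Nat.mod (MG u) M)) (Nat.ble (nat_lit 420) j)) (Bool.rec (motive := fun _ => Bool) (mRel MG [T_f, T_e] [T_d, T_ci, T_ei, T_c, T_di, T_f] M (Nat.sub (MG u) (Nat.mod (MG u) M)) (nat_lit 40) z1 u (Nat.mod (MG u) M)) (Bool.rec (motive := fun _ => Bool) (mRel MG [T_z, T_c, T_zi] [T_c] M (Nat.sub (MG u) (Nat.mod (MG u) M)) (nat_lit 40) z1 u (Nat.mod (MG u) M)) (mRel MG [T_ci, T_e,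 T_c, T_di, T_f] [T_di, T_f, T_ei] M (Nat.sub (MG u) (Nat.mod (MG u) M)) (nat_lit 40) z1 u (Nat.mod (MG u) M)) (Nat.ble (nat_lit 423) j)) (Nat.ble (nat_lit 422) j)) (Nat.ble (nat_lit 421) j)) (Nat.ble (nat_lit 419) j)
noncomputable def dM_90 (j z1 z2 u : ℕ) : Bool :=
  Bool.rec (motive := fun _ => Bool) (Bool.rec (motive := fun _ => Bool) (Bool.rec (motive := fun _ => Bool) (mRel MG [T_ci, T_ci, T_d, T_ci] [T_di, T_f, T_di] M (Nat.sub (MG u) (Nat.mod (MG u) M)) (nat_lit 40) z1 u (Nat.mod (MG u) M)) (mRel MG [T_zi, T_e, T_z] [T_e] M (Nat.sub (MG u) (Nat.mod (MG u) M)) (nat_lit 40) z1 u (Nat.mod (MG u) M)) (Nat.ble (nat_lit 425) j)) (Bool.rec (motive := fun _ => Bool) (mRel MG [T_ei, T_ci, T_ei, T_zi] [T_bi, T_e, T_c, T_e, T_bi] M (Nat.sub (MG u) (Nat.mod (MG u) M)) (nat_lit 40) z1 u (Nat.mod (MG u) M)) (Bool.rec (motive := fun _ => Bool) (mRel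 MG [T_f, T_c, T_f, T_c] [T_ci, T_fi] M (Nat.sub (MG u) (Nat.mod (MG u) M)) (nat_lit 40) z1 u (Nat.mod (MG u) M)) (mRel MG [T_b, T_ei, T_ci, T_ei, T_zi] [T_e, T_c, T_e, T_bi] M (Nat.sub (MG u) (Nat.mod (MG u) M)) (nat_lit 40) z1 u (Nat.mod (MG u) M)) (Nat.ble (nat_lit 428) j)) (Nat.ble (nat_lit 427) j)) (Nat.ble (nat_lit 426) j)) (Bool.rec (motive := fun _ => Bool) (Bool.rec (motive := fun _ => Bool) (mRel MG [T_c, T_di, T_f, T_ei, T_fi] [T_e, T_c, T_di] M (Nat.sub (MG u) (Nat.mod (MG u) M)) (nat_lit 40) z1 u (Nat.mod (MG u) M)) (mRel MG [T_bi, T_e, T_c, T_e, T_bi] [T_ei, T_ci, T_ei, T_zi] M (Nat.sub (MG u) (Nat.mod (MG u) M)) (nat_lit 40) z1 u (Nat.mod (MG u) M)) (Nat.ble (nat_lit 430) j)) (Bool.rec (motive := fun _ => Bool) (mRel MG [T_c, T_f, T_d, T_b] [T_bi, T_c, T_di] M (Nat.sub (MG u) (Nat.mod (MG u) M)) (nat_lit 40) z1 u (Nat.mod (MG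 u) M)) (Bool.rec (motive := fun _ => Bool) (mRel MG [T_di, T_f, T_di, T_c, T_di, T_c, T_c] [] M (Nat.sub (MG u) (Nat.mod (MG u) M)) (nat_lit 40) z1 u (Nat.mod (MG u) M)) (mRel MG [T_di, T_f, T_d] [T_f, T_di, T_f, T_di] M (Nat.sub (MG u) (Nat.mod (MG u) M)) (nat_lit 40) z1 u (Nat.mod (MG u) M)) (Nat.ble (nat_lit 433) j)) (Nat.ble (nat_lit 432) j)) (Nat.ble (nat_lit 431) j)) (Nat.ble (nat_lit 429) j)
noncomputable def dM_91 (j z1 z2 u : ℕ) : Bool :=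
  Bool.rec (motive := fun _ => Bool) (dM_89 j z1 z2 u) (dM_90 j z1 z2 u) (Nat.ble (nat_lit 424) j)
noncomputable def dM_92 (j z1 z2 u : ℕ) : Bool :=
  Bool.rec (motive := fun _ => Bool) (dM_88 j z1 z2 u) (dM_91 j z1 z2 u) (Nat.ble (nat_lit 415) j)
noncomputable def dM_93 (j z1 z2 u : ℕ) : Bool :=
  Bool.rec (motive := fun _ => Bool) (Bool.rec (motive := fun _ => Bool) (Bool.rec (motive := fun _ => Bool) (mRel MG [T_ci, T_di, T_c] [T_bi, T_ci, T_d, T_c, T_bi] M (Nat.sub (MG u) (Nat.mod (MG u) M)) (nat_lit 40) z1 u (Nat.mod (MG u) M)) (mRel MG [T_zi, T_b, T_ei] [T_e, T_c, T_e, T_bi, T_e, T_c] M (Nat.sub (MG u) (Nat.mod (MG u) M)) (nat_lit 40) z1 u (Nat.mod (MG u) M)) (Nat.ble (nat_lit 435) j)) (Bool.rec (motive := fun _ => Bool) (mRel MG [T_ei, T_ci, T_ei, T_b, T_ei] [T_bi, T_z, T_e, T_c] M (Nat.sub (MG u) (Nat.mod (MG u) M)) (nat_lit 40) z1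 u (Nat.mod (MG u) M)) (mRel MG [T_b, T_ei, T_ci, T_ei, T_zi, T_b, T_ei, T_ci] [T_e] M (Nat.sub (MG u) (Nat.mod (MG u) M)) (nat_lit 40) z1 u (Nat.mod (MG u) M)) (Nat.ble (nat_lit 437) j)) (Nat.ble (nat_lit 436) j)) (Bool.rec (motive := fun _ => Bool) (Bool.rec (motive := fun _ => Bool) (mRel MG [T_ci, T_e] [T_di, T_f, T_ei, T_fi, T_d, T_ci] M (Nat.sub (MG u) (Nat.mod (MG u) M)) (nat_lit 40) z1 u (Nat.mod (MG u) M)) (mRel MG [T_d, T_ci] [T_bi, T_di, T_fi, T_ci, T_bi] M (Nat.sub (MG u) (Nat.mod (MG u) M)) (nat_lit 40) z1 u (Nat.mod (MG u) M)) (Nat.ble (nat_lit 439) j)) (Bool.rec (motive := fun _ => Bool) (mRel MG [T_e, T_bi, T_z, T_e, T_c, T_e] [T_ci, T_ei, T_b] M (Nat.sub (MG u) (Nat.mod (MG u) M)) (nat_lit 40) z1 u (Nat.mod (MG u) M)) (Bool.rec (motive := fun _ => Bool) (mRel MG [T_bi, T_ei, T_b, T_ci, T_b, T_b, T_ei] [T_ci, T_b, T_b] M (Nat.sub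 (MG u) (Nat.mod (MG u) M)) (nat_lit 40) z1 u (Nat.mod (MG u) M)) (mRel MG [T_ei, T_ci, T_bi, T_di, T_c, T_e] [T_ci, T_bi, T_di, T_c] M (Nat.sub (MG u) (Nat.mod (MG u) M)) (nat_lit 40) z1 u (Nat.mod (MG u) M)) (Nat.ble (nat_lit 442) j)) (Nat.ble (nat_lit 441) j)) (Nat.ble (nat_lit 440) j)) (Nat.ble (nat_lit 438) j)
noncomputable def dM_94 (j z1 z2 u : ℕ) : Bool :=
  Bool.rec (motive := fun _ => Bool) (Bool.rec (motive := fun _ => Bool) (mRel MG [T_d, T_fi, T_d, T_ci, T_ci, T_d] [T_c] M (Nat.sub (MG u) (Nat.mod (MG u) M)) (nat_lit 40) z1 u (Nat.mod (MG u) M)) (mRel MG [T_b, T_d, T_ci] [T_di, T_fi, T_ci, T_bi] M (Nat.sub (MG u) (Nat.mod (MG u) M)) (nat_lit 40) z1 u (Nat.mod (MG u) M)) (Nat.ble (nat_lit 444) j)) (Bool.rec (motive := fun _ => Bool) (mRel MG [T_f, T_d, T_b, T_d] [T_ci, T_bi, T_c] M (Nat.sub (MG u) (Nat.mod (MG u) M)) (nat_lit 40)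 z1 u (Nat.mod (MG u) M)) (Bool.rec (motive := fun _ => Bool) (mRel MG [T_di, T_f, T_e, T_fi, T_d, T_ci, T_e] [T_ci] M (Nat.sub (MG u) (Nat.mod (MG u) M)) (nat_lit 40) z1 u (Nat.mod (MG u) M)) (mRel MG [T_di, T_fi, T_fi, T_d, T_d] [T_f] M (Nat.sub (MG u) (Nat.mod (MG u) M)) (nat_lit 40) z1 u (Nat.mod (MG u) M)) (Nat.ble (nat_lit 447) j)) (Nat.ble (nat_lit 446) j)) (Nat.ble (nat_lit 445) j)
noncomputable def dM_95 (j z1 z2 u : ℕ) : Bool :=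
  Bool.rec (motive := fun _ => Bool) (Bool.rec (motive := fun _ => Bool) (Bool.rec (motive := fun _ => Bool) (mRel MG [T_d, T_b, T_d, T_ci] [T_fi, T_ci, T_bi] M (Nat.sub (MG u) (Nat.mod (MG u) M)) (nat_lit 40) z1 u (Nat.mod (MG u) M)) (mRel MG [T_d, T_fi, T_c, T_fi] [T_b, T_ci, T_d, T_b] M (Nat.sub (MG u) (Nat.mod (MG u) M)) (nat_lit 40) z1 u (Nat.mod (MG u) M)) (Nat.ble (nat_lit 449) j)) (Bool.rec (motive := fun _ => Bool) (mRel MG [T_f, T_f, T_f, T_f, T_f] [] M (Nat.sub (MG u) (Nat.mod (MG u) M)) (nat_lit 40) z1 u (Nat.mod (MG u) M)) (mRel MG [T_fi, T_di, T_ci, T_bi, T_ci] [T_b, T_di, T_f] M (Nat.sub (MG u) (Nat.mod (MG u) M)) (nat_lit 40) z1 u (Nat.mod (MG u) M)) (Nat.ble (nat_lit 451) j)) (Nat.ble (nat_lit 450) j)) (Bool.rec (motive := fun _ => Bool) (Bool.rec (motive := fun _ => Bool) (mRel MG [T_d, T_fi, T_di] [T_f, T_di, T_di, T_fi]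 M (Nat.sub (MG u) (Nat.mod (MG u) M)) (nat_lit 40) z1 u (Nat.mod (MG u) M)) (mRel MG [T_b, T_d, T_ci, T_b] [T_di, T_fi, T_ci] M (Nat.sub (MG u) (Nat.mod (MG u) M)) (nat_lit 40) z1 u (Nat.mod (MG u) M)) (Nat.ble (nat_lit 453) j)) (Bool.rec (motive := fun _ => Bool) (mRel MG [T_fi, T_ci, T_bi, T_c, T_di, T_bi] [T_d] M (Nat.sub (MG u) (Nat.mod (MG u) M)) (nat_lit 40) z1 u (Nat.mod (MG u) M)) (Bool.rec (motive := fun _ => Bool) (mRel MG [T_f] [T_fi, T_b, T_fi, T_fi, T_b] M (Nat.sub (MG u) (Nat.mod (MG u) M)) (nat_lit 40) z1 u (Nat.mod (MG u) M)) (mRel MG [T_fi, T_c, T_fi, T_bi, T_di, T_c] [T_di, T_b] M (Nat.sub (MG u) (Nat.mod (MG u) M)) (nat_lit 40) z1 u (Nat.mod (MG u) M)) (Nat.ble (nat_lit 456) j)) (Nat.ble (nat_lit 455) j)) (Nat.ble (nat_lit 454) j)) (Nat.ble (nat_lit 452) j)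
noncomputable def dM_96 (j z1 z2 u : ℕ) : Bool :=
  Bool.rec (motive := fun _ => Bool) (dM_94 j z1 z2 u) (dM_95 j z1 z2 u) (Nat.ble (nat_lit 448) j)
noncomputable def dM_97 (j z1 z2 u : ℕ) : Bool :=
  Bool.rec (motive := fun _ => Bool) (dM_93 j z1 z2 u) (dM_96 j z1 z2 u) (Nat.ble (nat_lit 443) j)
noncomputable def dM_98 (j z1 z2 u : ℕ) : Bool :=
  Bool.rec (motive := fun _ => Bool) (Bool.rec (motive := fun _ => Bool) (Bool.rec (motive := fun _ => Bool) (mRel MG [T_b, T_c, T_c, T_d, T_bi, T_c] [T_d, T_f] M (Nat.sub (MG u) (Nat.mod (MG u) M)) (nat_lit 40) z1 u (Nat.mod (MG u) M)) (mRel MG [T_b, T_b] [T_c, T_bi, T_e, T_b, T_ci, T_b, T_b, T_e] M (Nat.sub (MG u) (Nat.mod (MG u) M)) (nat_lit 40) z1 u (Nat.mod (MG u) M)) (Nat.ble (nat_lit 458) j)) (Bool.rec (motive := fun _ => Bool) (mRel MG [T_bi, T_ei, T_b, T_ci, T_b, T_b, T_ei, T_bi] [T_ci, T_b]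 M (Nat.sub (MG u) (Nat.mod (MG u) M)) (nat_lit 40) z1 u (Nat.mod (MG u) M)) (mRel MG [T_fi, T_d, T_ci] [T_di, T_c, T_di, T_c] M (Nat.sub (MG u) (Nat.mod (MG u) M)) (nat_lit 40) z1 u (Nat.mod (MG u) M)) (Nat.ble (nat_lit 460) j)) (Nat.ble (nat_lit 459) j)) (Bool.rec (motive := fun _ => Bool) (Bool.rec (motive := fun _ => Bool) (mRel MG [T_d, T_bi, T_f, T_c, T_bi, T_fi] [T_di, T_ci] M (Nat.sub (MG u) (Nat.mod (MG u) M)) (nat_lit 40) z1 u (Nat.mod (MG u) M)) (mRel MG [T_di, T_bi, T_di, T_fi, T_ci, T_bi] [T_ci] M (Nat.sub (MG u) (Nat.mod (MG u) M)) (nat_lit 40) z1 u (Nat.mod (MG u) M)) (Nat.ble (nat_lit 462) j)) (Bool.rec (motive := fun _ => Bool) (mRel MG [T_di, T_c, T_c, T_di] [T_ci, T_d, T_fi] M (Nat.sub (MG u) (Nat.mod (MG u) M)) (nat_lit 40) z1 u (Nat.mod (MG u) M)) (Bool.rec (motive := fun _ => Bool) (mRel MG [T_ci, T_d, T_b, T_f, T_ci]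 [T_bi, T_d, T_fi] M (Nat.sub (MG u) (Nat.mod (MG u) M)) (nat_lit 40) z1 u (Nat.mod (MG u) M)) (mRel MG [T_b, T_ci] [T_di, T_c, T_fi, T_b, T_c, T_d] M (Nat.sub (MG u) (Nat.mod (MG u) M)) (nat_lit 40) z1 u (Nat.mod (MG u) M)) (Nat.ble (nat_lit 465) j)) (Nat.ble (nat_lit 464) j)) (Nat.ble (nat_lit 463) j)) (Nat.ble (nat_lit 461) j)
noncomputable def dM_99 (j z1 z2 u : ℕ) : Bool :=
  Bool.rec (motive := fun _ => Bool) (Bool.rec (motive := fun _ => Bool) (Bool.rec (motive := fun _ => Bool) (mRel MG [T_di, T_ci, T_ci, T_bi] [T_bi, T_c, T_fi, T_di] M (Nat.sub (MG u) (Nat.mod (MG u) M)) (nat_lit 40) z1 u (Nat.mod (MG u) M)) (mRel MG [T_d, T_f] [T_ci, T_bi, T_ci, T_fi, T_d, T_bi] M (Nat.sub (MG u) (Nat.mod (MG u) M)) (nat_lit 40) z1 u (Nat.mod (MG u) M)) (Nat.ble (nat_lit 467) j)) (Bool.rec (motive := fun _ => Bool) (mRel MG [T_bi, T_d, T_f] [T_c,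 T_c, T_d, T_bi, T_c] M (Nat.sub (MG u) (Nat.mod (MG u) M)) (nat_lit 40) z1 u (Nat.mod (MG u) M)) (Bool.rec (motive := fun _ => Bool) (mRel MG [T_f] [T_fi, T_d, T_d, T_fi, T_di] M (Nat.sub (MG u) (Nat.mod (MG u) M)) (nat_lit 40) z1 u (Nat.mod (MG u) M)) (mRel MG [T_ci, T_di, T_ci, T_bi] [T_bi, T_di, T_c, T_fi] M (Nat.sub (MG u) (Nat.mod (MG u) M)) (nat_lit 40) z1 u (Nat.mod (MG u) M)) (Nat.ble (nat_lit 470) j)) (Nat.ble (nat_lit 469) j)) (Nat.ble (nat_lit 468) j)) (Bool.rec (motive := fun _ => Bool) (Bool.rec (motive := fun _ => Bool) (mRel MG [T_c, T_d, T_bi] [T_ci, T_bi, T_d, T_f, T_ci] M (Nat.sub (MG u) (Nat.mod (MG u) M)) (nat_lit 40) z1 u (Nat.mod (MG u) M)) (mRel MG [T_bi, T_c, T_bi] [T_ci, T_b, T_ci, T_b, T_ci] M (Nat.sub (MG u) (Nat.mod (MG u) M)) (nat_lit 40) z1 u (Nat.mod (MG u) M)) (Nat.ble (nat_lit 472) j)) (Bool.rec (motive :=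 fun _ => Bool) (mRel MG [T_c, T_b, T_d, T_ci] [T_b, T_d, T_f, T_f] M (Nat.sub (MG u) (Nat.mod (MG u) M)) (nat_lit 40) z1 u (Nat.mod (MG u) M)) (Bool.rec (motive := fun _ => Bool) (mRel MG [T_b, T_d, T_ci, T_fi] [T_ci, T_b, T_d, T_f] M (Nat.sub (MG u) (Nat.mod (MG u) M)) (nat_lit 40) z1 u (Nat.mod (MG u) M)) (mRel MG [T_bi, T_f, T_f, T_bi, T_f, T_f] [] M (Nat.sub (MG u) (Nat.mod (MG u) M)) (nat_lit 40) z1 u (Nat.mod (MG u) M)) (Nat.ble (nat_lit 475) j)) (Nat.ble (nat_lit 474) j)) (Nat.ble (nat_lit 473) j)) (Nat.ble (nat_lit 471) j)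
noncomputable def dM_100 (j z1 z2 u : ℕ) : Bool :=
  Bool.rec (motive := fun _ => Bool) (dM_98 j z1 z2 u) (dM_99 j z1 z2 u) (Nat.ble (nat_lit 466) j)
noncomputable def dM_101 (j z1 z2 u : ℕ) : Bool :=
  Bool.rec (motive := fun _ => Bool) (Bool.rec (motive := fun _ => Bool) (Bool.rec (motive := fun _ => Bool) (mRel MG [T_fi, T_d, T_f, T_di] [T_d, T_d, T_fi] M (Nat.sub (MG u) (Nat.mod (MG u) M)) (nat_lit 40) z1 u (Nat.mod (MG u) M)) (mRel MG [T_d, T_ci, T_d, T_fi] [T_c, T_c, T_di] M (Nat.sub (MG u) (Nat.mod (MG u) M)) (nat_lit 40) z1 u (Nat.mod (MG u) M)) (Nat.ble (nat_lit 477) j)) (Bool.rec (motive := fun _ => Bool) (mRel MG [T_fi, T_bi, T_d, T_ci, T_fi] [T_c, T_di, T_b] M (Nat.sub (MG u) (Nat.mod (MG u) M)) (nat_lit 40) z1 u (Nat.mod (MG u) M)) (mRel MG [T_d, T_f, T_b, T_di, T_f] [T_ci, T_bi, T_ci] M (Nat.sub (MG u) (Nat.mod (MG u) M)) (nat_lit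 40) z1 u (Nat.mod (MG u) M)) (Nat.ble (nat_lit 479) j)) (Nat.ble (nat_lit 478) j)) (Bool.rec (motive := fun _ => Bool) (Bool.rec (motive := fun _ => Bool) (mRel MG [T_f, T_di] [T_d, T_ci, T_ci, T_d, T_ci] M (Nat.sub (MG u) (Nat.mod (MG u) M)) (nat_lit 40) z1 u (Nat.mod (MG u) M)) (mRel MG [T_d, T_ci, T_ci, T_b] [T_bi, T_c, T_c, T_di] M (Nat.sub (MG u) (Nat.mod (MG u) M)) (nat_lit 40) z1 u (Nat.mod (MG u) M)) (Nat.ble (nat_lit 481) j)) (Bool.rec (motive := fun _ => Bool) (mRel MG [T_b, T_c, T_d, T_f] [T_ci, T_fi, T_d, T_bi] M (Nat.sub (MG u) (Nat.mod (MG u) M)) (nat_lit 40) z1 u (Nat.mod (MG u) M)) (Bool.rec (motive := fun _ => Bool) (mRel MG [T_b, T_ei, T_bi, T_bi, T_c, T_bi, T_ei, T_b] [T_bi, T_c] M (Nat.sub (MG u) (Nat.mod (MG u) M)) (nat_lit 40) z1 u (Nat.mod (MG u) M)) (mRel MG [T_d, T_c, T_f, T_f, T_di, T_ei, T_di] [T_ei, T_ci, T_fi,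 T_c] M (Nat.sub (MG u) (Nat.mod (MG u) M)) (nat_lit 40) z1 u (Nat.mod (MG u) M)) (Nat.ble (nat_lit 484) j)) (Nat.ble (nat_lit 483) j)) (Nat.ble (nat_lit 482) j)) (Nat.ble (nat_lit 480) j)
noncomputable def dM_102 (j z1 z2 u : ℕ) : Bool :=
  Bool.rec (motive := fun _ => Bool) (Bool.rec (motive := fun _ => Bool) (Bool.rec (motive := fun _ => Bool) (mRel MG [T_d, T_d, T_fi, T_di, T_fi, T_fi] [] M (Nat.sub (MG u) (Nat.mod (MG u) M)) (nat_lit 40) z1 u (Nat.mod (MG u) M)) (mRel MG [T_f, T_ei] [T_d, T_ci, T_e, T_c, T_di, T_f] M (Nat.sub (MG u) (Nat.mod (MG u) M)) (nat_lit 40) z1 u (Nat.mod (MG u) M)) (Nat.ble (nat_lit 486) j)) (Bool.rec (motive := fun _ => Bool) (mRel MG [T_c, T_f, T_d] [T_bi, T_c, T_di, T_bi] M (Nat.sub (MG u) (Nat.mod (MG u) M)) (nat_lit 40) z1 u (Nat.mod (MG u) M)) (Bool.rec (motive := fun _ => Bool) (mRel MG [T_ci, T_fi, T_ci,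 T_fi, T_ci, T_fi] [] M (Nat.sub (MG u) (Nat.mod (MG u) M)) (nat_lit 40) z1 u (Nat.mod (MG u) M)) (mRel MG [T_b, T_c, T_bi, T_ci] [T_di, T_di, T_f, T_b] M (Nat.sub (MG u) (Nat.mod (MG u) M)) (nat_lit 40) z1 u (Nat.mod (MG u) M)) (Nat.ble (nat_lit 489) j)) (Nat.ble (nat_lit 488) j)) (Nat.ble (nat_lit 487) j)) (Bool.rec (motive := fun _ => Bool) (Bool.rec (motive := fun _ => Bool) (mRel MG [T_fi, T_c, T_fi, T_bi, T_di] [T_di, T_b, T_ci] M (Nat.sub (MG u) (Nat.mod (MG u) M)) (nat_lit 40) z1 u (Nat.mod (MG u) M)) (mRel MG [T_d, T_z] [T_z, T_d] M (Nat.sub (MG u) (Nat.mod (MG u) M)) (nat_lit 40) z1 u (Nat.mod (MG u) M)) (Nat.ble (nat_lit 491) j)) (Bool.rec (motive := fun _ => Bool) (mRel MG [T_ci, T_bi, T_d, T_ci, T_b] [T_di, T_c, T_d] M (Nat.sub (MG u) (Nat.mod (MG u) M)) (nat_lit 40) z1 u (Nat.mod (MG u) M)) (Bool.rec (motive := fun _ => Bool)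 (mRel MG [T_di, T_di, T_f, T_b, T_c, T_b] [T_b, T_c] M (Nat.sub (MG u) (Nat.mod (MG u) M)) (nat_lit 40) z1 u (Nat.mod (MG u) M)) (mRel MG [T_c, T_di, T_f] [T_ci, T_d, T_ci, T_d] M (Nat.sub (MG u) (Nat.mod (MG u) M)) (nat_lit 40) z1 u (Nat.mod (MG u) M)) (Nat.ble (nat_lit 494) j)) (Nat.ble (nat_lit 493) j)) (Nat.ble (nat_lit 492) j)) (Nat.ble (nat_lit 490) j)
noncomputable def dM_103 (j z1 z2 u : ℕ) : Bool :=
  Bool.rec (motive := fun _ => Bool) (dM_101 j z1 z2 u) (dM_102 j z1 z2 u) (Nat.ble (nat_lit 485) j)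
noncomputable def dM_104 (j z1 z2 u : ℕ) : Bool :=
  Bool.rec (motive := fun _ => Bool) (dM_100 j z1 z2 u) (dM_103 j z1 z2 u) (Nat.ble (nat_lit 476) j)
noncomputable def dM_105 (j z1 z2 u : ℕ) : Bool :=
  Bool.rec (motive := fun _ => Bool) (dM_97 j z1 z2 u) (dM_104 j z1 z2 u) (Nat.ble (nat_lit 457) j)
noncomputable def dM_106 (j z1 z2 u : ℕ) : Bool :=
  Bool.rec (motive := fun _ => Bool) (dM_92 j z1 z2 u) (dM_105 j z1 z2 u) (Nat.ble (nat_lit 434) j)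
noncomputable def dM_107 (j z1 z2 u : ℕ) : Bool :=
  Bool.rec (motive := fun _ => Bool) (dM_85 j z1 z2 u) (dM_106 j z1 z2 u) (Nat.ble (nat_lit 397) j)
noncomputable def dM_108 (j z1 z2 u : ℕ) : Bool :=
  Bool.rec (motive := fun _ => Bool) (Bool.rec (motive := fun _ => Bool) (Bool.rec (motive := fun _ => Bool) (mRel MG [T_c, T_c, T_di, T_f] [T_d, T_ci, T_d] M (Nat.sub (MG u) (Nat.mod (MG u) M)) (nat_lit 40) z1 u (Nat.mod (MG u) M)) (mRel MG [T_b, T_f, T_d, T_d] [T_ci, T_di, T_f, T_bi] M (Nat.sub (MG u) (Nat.mod (MG u) M)) (nat_lit 40) z1 u (Nat.mod (MG u) M)) (Nat.ble (nat_lit 496) j)) (Bool.rec (motive := fun _ => Bool) (mRel MG [T_bi, T_di, T_fi, T_ci] [T_d, T_ci, T_b] M (Nat.sub (MG u) (Nat.mod (MG u) M)) (nat_lit 40) z1 u (Nat.mod (MG u) M)) (mRel MG [T_f, T_c, T_di, T_b] [T_bi, T_d, T_ci, T_fi] M (Nat.sub (MG u) (Nat.mod (MG u) M)) (nat_lit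 40) z1 u (Nat.mod (MG u) M)) (Nat.ble (nat_lit 498) j)) (Nat.ble (nat_lit 497) j)) (Bool.rec (motive := fun _ => Bool) (Bool.rec (motive := fun _ => Bool) (mRel MG [T_ci, T_b, T_d, T_ci, T_ci, T_b, T_d] [T_c] M (Nat.sub (MG u) (Nat.mod (MG u) M)) (nat_lit 40) z1 u (Nat.mod (MG u) M)) (mRel MG [T_ci, T_b, T_b, T_di, T_f] [T_b, T_ci, T_di, T_bi] M (Nat.sub (MG u) (Nat.mod (MG u) M)) (nat_lit 40) z1 u (Nat.mod (MG u) M)) (Nat.ble (nat_lit 500) j)) (Bool.rec (motive := fun _ => Bool) (mRel MG [T_di, T_c, T_di, T_c, T_c, T_di] [T_fi] M (Nat.sub (MG u) (Nat.mod (MG u) M)) (nat_lit 40) z1 u (Nat.mod (MG u) M)) (Bool.rec (motive := fun _ => Bool) (mRel MG [T_di, T_fi, T_d, T_f, T_di] [T_d, T_fi] M (Nat.sub (MG u) (Nat.mod (MG u) M)) (nat_lit 40) z1 u (Nat.mod (MG u) M)) (mRel MG [T_d] [T_fi, T_fi, T_d, T_d, T_fi] M (Nat.sub (MG u) (Nat.mod (MG u)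 M)) (nat_lit 40) z1 u (Nat.mod (MG u) M)) (Nat.ble (nat_lit 503) j)) (Nat.ble (nat_lit 502) j)) (Nat.ble (nat_lit 501) j)) (Nat.ble (nat_lit 499) j)
noncomputable def dM_109 (j z1 z2 u : ℕ) : Bool :=
  Bool.rec (motive := fun _ => Bool) (Bool.rec (motive := fun _ => Bool) (Bool.rec (motive := fun _ => Bool) (mRel MG [T_di, T_fi, T_fi] [T_f, T_di, T_di] M (Nat.sub (MG u) (Nat.mod (MG u) M)) (nat_lit 40) z1 u (Nat.mod (MG u) M)) (mRel MG [T_b, T_fi, T_fi, T_b, T_fi, T_fi] [] M (Nat.sub (MG u) (Nat.mod (MG u) M)) (nat_lit 40) z1 u (Nat.mod (MG u) M)) (Nat.ble (nat_lit 505) j)) (Bool.rec (motive := fun _ => Bool) (mRel MG [T_b, T_z] [T_z, T_b] M (Nat.sub (MG u) (Nat.mod (MG u) M)) (nat_lit 40) z1 u (Nat.mod (MG u) M)) (mRel MG [T_ei, T_b] [T_c, T_e, T_bi, T_z, T_e, T_c, T_e] M (Nat.sub (MG u) (Nat.mod (MG u) M)) (nat_lit 40) z1 u (Nat.mod (MG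 u) M)) (Nat.ble (nat_lit 507) j)) (Nat.ble (nat_lit 506) j)) (Bool.rec (motive := fun _ => Bool) (Bool.rec (motive := fun _ => Bool) (mRel MG [T_d, T_ci, T_b] [T_b, T_c, T_di, T_c, T_d] M (Nat.sub (MG u) (Nat.mod (MG u) M)) (nat_lit 40) z1 u (Nat.mod (MG u) M)) (mRel MG [T_b, T_fi] [T_f, T_f, T_bi, T_f] M (Nat.sub (MG u) (Nat.mod (MG u) M)) (nat_lit 40) z1 u (Nat.mod (MG u) M)) (Nat.ble (nat_lit 509) j)) (Bool.rec (motive := fun _ => Bool) (mRel MG [T_ei, T_di] [T_d, T_fi, T_fi, T_ci, T_di, T_ei, T_ci, T_fi, T_c] M (Nat.sub (MG u) (Nat.mod (MG u) M)) (nat_lit 40) z1 u (Nat.mod (MG u) M)) (Bool.rec (motive := fun _ => Bool) (mRel MG [T_b, T_b, T_c, T_bi, T_bi] [T_di, T_c, T_f, T_b] M (Nat.sub (MG u) (Nat.mod (MG u) M)) (nat_lit 40) z1 u (Nat.mod (MG u) M)) (mRel MG [T_c, T_bi, T_ci, T_bi, T_fi] [T_bi, T_di, T_di] M (Nat.sub (MG u) (Nat.mod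 (MG u) M)) (nat_lit 40) z1 u (Nat.mod (MG u) M)) (Nat.ble (nat_lit 512) j)) (Nat.ble (nat_lit 511) j)) (Nat.ble (nat_lit 510) j)) (Nat.ble (nat_lit 508) j)
noncomputable def dM_110 (j z1 z2 u : ℕ) : Bool :=
  Bool.rec (motive := fun _ => Bool) (dM_108 j z1 z2 u) (dM_109 j z1 z2 u) (Nat.ble (nat_lit 504) j)
noncomputable def dM_111 (j z1 z2 u : ℕ) : Bool :=
  Bool.rec (motive := fun _ => Bool) (Bool.rec (motive := fun _ => Bool) (Bool.rec (motive := fun _ => Bool) (mRel MG [T_fi, T_c, T_di, T_di] [T_d, T_d, T_ci, T_f] M (Nat.sub (MG u) (Nat.mod (MG u) M)) (nat_lit 40) z1 u (Nat.mod (MG u) M)) (mRel MG [T_fi, T_b, T_di, T_di] [T_c, T_bi, T_fi, T_c] M (Nat.sub (MG u) (Nat.mod (MG u) M)) (nat_lit 40) z1 u (Nat.mod (MG u) M)) (Nat.ble (nat_lit 514) j)) (Bool.rec (motive := fun _ => Bool) (mRel MG [T_b, T_c, T_f, T_d, T_b] [T_c, T_di] M (Nat.sub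 (MG u) (Nat.mod (MG u) M)) (nat_lit 40) z1 u (Nat.mod (MG u) M)) (mRel MG [T_bi, T_di, T_fi, T_ci, T_bi, T_c] [T_d] M (Nat.sub (MG u) (Nat.mod (MG u) M)) (nat_lit 40) z1 u (Nat.mod (MG u) M)) (Nat.ble (nat_lit 516) j)) (Nat.ble (nat_lit 515) j)) (Bool.rec (motive := fun _ => Bool) (Bool.rec (motive := fun _ => Bool) (mRel MG [T_b, T_fi, T_fi, T_b, T_fi] [T_f] M (Nat.sub (MG u) (Nat.mod (MG u) M)) (nat_lit 40) z1 u (Nat.mod (MG u) M)) (mRel MG [T_di, T_ci, T_bi, T_ci, T_fi, T_d] [T_f, T_b] M (Nat.sub (MG u) (Nat.mod (MG u) M)) (nat_lit 40) z1 u (Nat.mod (MG u) M)) (Nat.ble (nat_lit 518) j)) (Bool.rec (motive := fun _ => Bool) (mRel MG [T_bi, T_c, T_d, T_f, T_ci] [T_di, T_f, T_bi] M (Nat.sub (MG u) (Nat.mod (MG u) M)) (nat_lit 40) z1 u (Nat.mod (MG u) M)) (Bool.rec (motive := fun _ => Bool) (mRel MG [T_di] [T_ci, T_ci, T_b, T_d, T_ci, T_ci,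 T_b] M (Nat.sub (MG u) (Nat.mod (MG u) M)) (nat_lit 40) z1 u (Nat.mod (MG u) M)) (mRel MG [T_f, T_f, T_d, T_f, T_di, T_di] [] M (Nat.sub (MG u) (Nat.mod (MG u) M)) (nat_lit 40) z1 u (Nat.mod (MG u) M)) (Nat.ble (nat_lit 521) j)) (Nat.ble (nat_lit 520) j)) (Nat.ble (nat_lit 519) j)) (Nat.ble (nat_lit 517) j)
noncomputable def dM_112 (j z1 z2 u : ℕ) : Bool :=
  Bool.rec (motive := fun _ => Bool) (Bool.rec (motive := fun _ => Bool) (Bool.rec (motive := fun _ => Bool) (mRel MG [T_di] [T_f, T_di, T_di, T_f, T_f] M (Nat.sub (MG u) (Nat.mod (MG u) M)) (nat_lit 40) z1 u (Nat.mod (MG u) M)) (mRel MG [T_fi, T_d, T_fi, T_di, T_f, T_d, T_d] [] M (Nat.sub (MG u) (Nat.mod (MG u) M)) (nat_lit 40) z1 u (Nat.mod (MG u) M)) (Nat.ble (nat_lit 523) j)) (Bool.rec (motive := fun _ => Bool) (mRel MG [T_di, T_fi] [T_b, T_d, T_ci, T_b, T_c] M (Nat.sub (MG u) (Nat.mod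 (MG u) M)) (nat_lit 40) z1 u (Nat.mod (MG u) M)) (Bool.rec (motive := fun _ => Bool) (mRel MG [T_di, T_fi, T_bi, T_ci] [T_d, T_b, T_fi, T_d] M (Nat.sub (MG u) (Nat.mod (MG u) M)) (nat_lit 40) z1 u (Nat.mod (MG u) M)) (mRel MG [T_bi, T_fi, T_d, T_bi, T_bi, T_c] [T_d, T_c, T_bi] M (Nat.sub (MG u) (Nat.mod (MG u) M)) (nat_lit 40) z1 u (Nat.mod (MG u) M)) (Nat.ble (nat_lit 526) j)) (Nat.ble (nat_lit 525) j)) (Nat.ble (nat_lit 524) j)) (Bool.rec (motive := fun _ => Bool) (Bool.rec (motive := fun _ => Bool) (mRel MG [T_di, T_ci] [T_bi, T_c, T_fi, T_di, T_b, T_c] M (Nat.sub (MG u) (Nat.mod (MG u) M)) (nat_lit 40) z1 u (Nat.mod (MG u) M)) (mRel MG [T_f, T_di, T_c, T_di, T_c, T_c] [T_d] M (Nat.sub (MG u) (Nat.mod (MG u) M)) (nat_lit 40) z1 u (Nat.mod (MG u) M)) (Nat.ble (nat_lit 528) j)) (Bool.rec (motive := fun _ => Bool) (mRel MG [T_d, T_b] [T_fi,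 T_ci, T_bi, T_c, T_di] M (Nat.sub (MG u) (Nat.mod (MG u) M)) (nat_lit 40) z1 u (Nat.mod (MG u) M)) (Bool.rec (motive := fun _ => Bool) (mRel MG [T_d] [T_c, T_c, T_di, T_f, T_di, T_c] M (Nat.sub (MG u) (Nat.mod (MG u) M)) (nat_lit 40) z1 u (Nat.mod (MG u) M)) (mRel MG [T_d, T_ci, T_b, T_c, T_f] [T_bi, T_di] M (Nat.sub (MG u) (Nat.mod (MG u) M)) (nat_lit 40) z1 u (Nat.mod (MG u) M)) (Nat.ble (nat_lit 531) j)) (Nat.ble (nat_lit 530) j)) (Nat.ble (nat_lit 529) j)) (Nat.ble (nat_lit 527) j)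
noncomputable def dM_113 (j z1 z2 u : ℕ) : Bool :=
  Bool.rec (motive := fun _ => Bool) (dM_111 j z1 z2 u) (dM_112 j z1 z2 u) (Nat.ble (nat_lit 522) j)
noncomputable def dM_114 (j z1 z2 u : ℕ) : Bool :=
  Bool.rec (motive := fun _ => Bool) (dM_110 j z1 z2 u) (dM_113 j z1 z2 u) (Nat.ble (nat_lit 513) j)
noncomputable def dM_115 (j z1 z2 u : ℕ) : Bool :=
  Bool.rec (motive := fun _ => Bool) (Bool.rec (motive := fun _ => Bool) (Bool.rec (motive := fun _ => Bool) (mRel MG [T_bi, T_ci, T_d, T_c, T_bi, T_ci] [T_ci, T_di] M (Nat.sub (MG u) (Nat.mod (MG u) M)) (nat_lit 40) z1 u (Nat.mod (MG u) M)) (mRel MG [T_b, T_fi, T_d] [T_c, T_fi, T_di, T_ci, T_b] M (Nat.sub (MG u) (Nat.mod (MG u) M)) (nat_lit 40) z1 u (Nat.mod (MG u) M)) (Nat.ble (nat_lit 533) j)) (Bool.rec (motive := fun _ => Bool) (mRel MG [T_b, T_di, T_f, T_c, T_b] [T_fi, T_di, T_ci] M (Nat.sub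 (MG u) (Nat.mod (MG u) M)) (nat_lit 40) z1 u (Nat.mod (MG u) M)) (mRel MG [T_ci, T_ci, T_d] [T_di, T_f, T_di, T_c] M (Nat.sub (MG u) (Nat.mod (MG u) M)) (nat_lit 40) z1 u (Nat.mod (MG u) M)) (Nat.ble (nat_lit 535) j)) (Nat.ble (nat_lit 534) j)) (Bool.rec (motive := fun _ => Bool) (Bool.rec (motive := fun _ => Bool) (mRel MG [T_c, T_di, T_bi] [T_ci, T_b, T_d, T_ci, T_ci] M (Nat.sub (MG u) (Nat.mod (MG u) M)) (nat_lit 40) z1 u (Nat.mod (MG u) M)) (mRel MG [T_fi, T_bi, T_d, T_ci] [T_c, T_di, T_b, T_f] M (Nat.sub (MG u) (Nat.mod (MG u) M)) (nat_lit 40) z1 u (Nat.mod (MG u) M)) (Nat.ble (nat_lit 537) j)) (Bool.rec (motive := fun _ => Bool) (mRel MG [T_c, T_di, T_bi, T_ci] [T_fi, T_fi, T_di, T_bi] M (Nat.sub (MG u) (Nat.mod (MG u) M)) (nat_lit 40) z1 u (Nat.mod (MG u) M)) (Bool.rec (motive := fun _ => Bool) (mRel MG [T_b, T_fi, T_d, T_c, T_b, T_f]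 [T_di, T_di] M (Nat.sub (MG u) (Nat.mod (MG u) M)) (nat_lit 40) z1 u (Nat.mod (MG u) M)) (mRel MG [T_b, T_ci] [T_d, T_fi, T_c, T_fi, T_bi, T_di] M (Nat.sub (MG u) (Nat.mod (MG u) M)) (nat_lit 40) z1 u (Nat.mod (MG u) M)) (Nat.ble (nat_lit 540) j)) (Nat.ble (nat_lit 539) j)) (Nat.ble (nat_lit 538) j)) (Nat.ble (nat_lit 536) j)
noncomputable def dM_116 (j z1 z2 u : ℕ) : Bool :=
  Bool.rec (motive := fun _ => Bool) (Bool.rec (motive := fun _ => Bool) (Bool.rec (motive := fun _ => Bool) (mRel MG [T_ci, T_ci, T_d, T_ci, T_d, T_fi, T_d] [] M (Nat.sub (MG u) (Nat.mod (MG u) M)) (nat_lit 40) z1 u (Nat.mod (MG u) M)) (mRel MG [T_bi, T_c, T_bi, T_c] [T_ci, T_b, T_ci, T_b] M (Nat.sub (MG u) (Nat.mod (MG u) M)) (nat_lit 40) z1 u (Nat.mod (MG u) M)) (Nat.ble (nat_lit 542) j)) (Bool.rec (motive := fun _ => Bool) (mRel MG [T_f, T_f, T_c, T_di] [T_di, T_bi,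 T_c, T_b] M (Nat.sub (MG u) (Nat.mod (MG u) M)) (nat_lit 40) z1 u (Nat.mod (MG u) M)) (mRel MG [T_fi, T_fi, T_b, T_fi, T_fi] [T_bi] M (Nat.sub (MG u) (Nat.mod (MG u) M)) (nat_lit 40) z1 u (Nat.mod (MG u) M)) (Nat.ble (nat_lit 544) j)) (Nat.ble (nat_lit 543) j)) (Bool.rec (motive := fun _ => Bool) (Bool.rec (motive := fun _ => Bool) (mRel MG [T_bi, T_di] [T_d, T_ci, T_b, T_c, T_f] M (Nat.sub (MG u) (Nat.mod (MG u) M)) (nat_lit 40) z1 u (Nat.mod (MG u) M)) (mRel MG [T_di, T_f, T_b] [T_d, T_b, T_c, T_bi, T_ci] M (Nat.sub (MG u) (Nat.mod (MG u) M)) (nat_lit 40) z1 u (Nat.mod (MG u) M)) (Nat.ble (nat_lit 546) j)) (Bool.rec (motive := fun _ => Bool) (mRel MG [T_d, T_ci, T_ci] [T_f, T_di, T_c, T_di] M (Nat.sub (MG u) (Nat.mod (MG u) M)) (nat_lit 40) z1 u (Nat.mod (MG u) M)) (Bool.rec (motive := fun _ => Bool) (mRel MG [T_f, T_ci, T_b, T_di, T_ci,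 T_ci] [T_di, T_b] M (Nat.sub (MG u) (Nat.mod (MG u) M)) (nat_lit 40) z1 u (Nat.mod (MG u) M)) (mRel MG [T_b, T_di, T_f, T_bi, T_c] [T_c, T_d, T_f] M (Nat.sub (MG u) (Nat.mod (MG u) M)) (nat_lit 40) z1 u (Nat.mod (MG u) M)) (Nat.ble (nat_lit 549) j)) (Nat.ble (nat_lit 548) j)) (Nat.ble (nat_lit 547) j)) (Nat.ble (nat_lit 545) j)
noncomputable def dM_117 (j z1 z2 u : ℕ) : Bool :=
  Bool.rec (motive := fun _ => Bool) (dM_115 j z1 z2 u) (dM_116 j z1 z2 u) (Nat.ble (nat_lit 541) j)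
noncomputable def dM_118 (j z1 z2 u : ℕ) : Bool :=
  Bool.rec (motive := fun _ => Bool) (Bool.rec (motive := fun _ => Bool) (Bool.rec (motive := fun _ => Bool) (mRel MG [T_ci] [T_f, T_d, T_b, T_d, T_ci, T_b] M (Nat.sub (MG u) (Nat.mod (MG u) M)) (nat_lit 40) z1 u (Nat.mod (MG u) M)) (mRel MG [T_fi, T_c, T_d, T_d, T_bi, T_f] [T_b, T_ci] M (Nat.sub (MG u) (Nat.mod (MG u) M)) (nat_lit 40) z1 u (Nat.mod (MG u) M)) (Nat.ble (nat_lit 551) j)) (Bool.rec (motive := fun _ => Bool) (mRel MG [T_f, T_d] [T_d, T_f, T_di, T_f, T_di] M (Nat.sub (MG u) (Nat.mod (MG u) M)) (nat_lit 40) z1 u (Nat.mod (MG u) M)) (mRel MG [T_c] [T_fi, T_ci, T_fi, T_ci, T_fi] M (Nat.sub (MG u) (Nat.mod (MG u) M)) (nat_lit 40) z1 u (Nat.mod (MG u) M)) (Nat.ble (nat_lit 553) j)) (Nat.ble (nat_lit 552) j)) (Bool.rec (motive := fun _ => Bool) (Bool.rec (motive := fun _ => Bool) (mRel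 MG [T_c] [T_d, T_ci, T_d, T_fi, T_d, T_ci] M (Nat.sub (MG u) (Nat.mod (MG u) M)) (nat_lit 40) z1 u (Nat.mod (MG u) M)) (mRel MG [T_f, T_di, T_c, T_di] [T_d, T_ci, T_ci] M (Nat.sub (MG u) (Nat.mod (MG u) M)) (nat_lit 40) z1 u (Nat.mod (MG u) M)) (Nat.ble (nat_lit 555) j)) (Bool.rec (motive := fun _ => Bool) (mRel MG [T_bi, T_d, T_ci] [T_c, T_di, T_c, T_d, T_bi] M (Nat.sub (MG u) (Nat.mod (MG u) M)) (nat_lit 40) z1 u (Nat.mod (MG u) M)) (Bool.rec (motive := fun _ => Bool) (mRel MG [T_c, T_di, T_bi, T_c, T_c] [T_ci, T_b, T_d] M (Nat.sub (MG u) (Nat.mod (MG u) M)) (nat_lit 40) z1 u (Nat.mod (MG u) M)) (mRel MG [T_b, T_c] [T_c, T_di, T_bi, T_di, T_fi] M (Nat.sub (MG u) (Nat.mod (MG u) M)) (nat_lit 40) z1 u (Nat.mod (MG u) M)) (Nat.ble (nat_lit 558) j)) (Nat.ble (nat_lit 557) j)) (Nat.ble (nat_lit 556) j)) (Nat.ble (nat_lit 554) j)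
noncomputable def dM_119 (j z1 z2 u : ℕ) : Bool :=
  Bool.rec (motive := fun _ => Bool) (Bool.rec (motive := fun _ => Bool) (Bool.rec (motive := fun _ => Bool) (mRel MG [T_di, T_di, T_f, T_f, T_d] [T_fi] M (Nat.sub (MG u) (Nat.mod (MG u) M)) (nat_lit 40) z1 u (Nat.mod (MG u) M)) (mRel MG [T_f, T_c, T_di, T_b, T_f, T_c] [T_bi, T_d] M (Nat.sub (MG u) (Nat.mod (MG u) M)) (nat_lit 40) z1 u (Nat.mod (MG u) M)) (Nat.ble (nat_lit 560) j)) (Bool.rec (motive := fun _ => Bool) (mRel MG [T_f, T_ci, T_ci, T_f] [T_bi, T_c, T_f, T_b] M (Nat.sub (MG u) (Nat.mod (MG u) M)) (nat_lit 40) z1 u (Nat.mod (MG u) M)) (Bool.rec (motive := fun _ => Bool) (mRel MG [T_c, T_bi, T_c, T_bi, T_c, T_bi] [T_b, T_ci] M (Nat.sub (MG u) (Nat.mod (MG u) M)) (nat_lit 40) z1 u (Nat.mod (MG u) M)) (mRel MG [T_c, T_di, T_di, T_fi] [T_f, T_d, T_d, T_ci] M (Nat.sub (MG u) (Nat.mod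 (MG u) M)) (nat_lit 40) z1 u (Nat.mod (MG u) M)) (Nat.ble (nat_lit 563) j)) (Nat.ble (nat_lit 562) j)) (Nat.ble (nat_lit 561) j)) (Bool.rec (motive := fun _ => Bool) (Bool.rec (motive := fun _ => Bool) (mRel MG [T_c, T_b] [T_fi, T_d, T_bi, T_fi, T_di, T_ci] M (Nat.sub (MG u) (Nat.mod (MG u) M)) (nat_lit 40) z1 u (Nat.mod (MG u) M)) (mRel MG [T_d, T_ci, T_ci, T_d, T_ci, T_d] [T_f] M (Nat.sub (MG u) (Nat.mod (MG u) M)) (nat_lit 40) z1 u (Nat.mod (MG u) M)) (Nat.ble (nat_lit 565) j)) (Bool.rec (motive := fun _ => Bool) (mRel MG [T_d, T_b, T_fi, T_d, T_c, T_b] [T_di, T_fi] M (Nat.sub (MG u) (Nat.mod (MG u) M)) (nat_lit 40) z1 u (Nat.mod (MG u) M)) (Bool.rec (motive := fun _ => Bool) (mRel MG [T_c, T_bi, T_ci, T_d, T_c, T_bi] [T_di, T_c] M (Nat.sub (MG u) (Nat.mod (MG u) M)) (nat_lit 40) z1 u (Nat.mod (MG u) M)) (mRel MG [T_f, T_b, T_c] [T_d, T_d,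 T_b, T_c, T_bi] M (Nat.sub (MG u) (Nat.mod (MG u) M)) (nat_lit 40) z1 u (Nat.mod (MG u) M)) (Nat.ble (nat_lit 568) j)) (Nat.ble (nat_lit 567) j)) (Nat.ble (nat_lit 566) j)) (Nat.ble (nat_lit 564) j)
noncomputable def dM_120 (j z1 z2 u : ℕ) : Bool :=
  Bool.rec (motive := fun _ => Bool) (dM_118 j z1 z2 u) (dM_119 j z1 z2 u) (Nat.ble (nat_lit 559) j)
noncomputable def dM_121 (j z1 z2 u : ℕ) : Bool :=
  Bool.rec (motive := fun _ => Bool) (dM_117 j z1 z2 u) (dM_120 j z1 z2 u) (Nat.ble (nat_lit 550) j)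
noncomputable def dM_122 (j z1 z2 u : ℕ) : Bool :=
  Bool.rec (motive := fun _ => Bool) (dM_114 j z1 z2 u) (dM_121 j z1 z2 u) (Nat.ble (nat_lit 532) j)
noncomputable def dM_123 (j z1 z2 u : ℕ) : Bool :=
  Bool.rec (motive := fun _ => Bool) (Bool.rec (motive := fun _ => Bool) (Bool.rec (motive := fun _ => Bool) (mRel MG [T_c, T_d, T_c] [T_bi, T_f, T_ci, T_d, T_b] M (Nat.sub (MG u) (Nat.mod (MG u) M)) (nat_lit 40) z1 u (Nat.mod (MG u) M)) (mRel MG [T_ci, T_fi, T_d, T_bi, T_fi] [T_b, T_c, T_d] M (Nat.sub (MG u) (Nat.mod (MG u) M)) (nat_lit 40) z1 u (Nat.mod (MG u) M)) (Nat.ble (nat_lit 570) j)) (Bool.rec (motive := fun _ => Bool) (mRel MG [T_c, T_bi, T_c, T_bi, T_c, T_bi, T_c] [T_b] M (Nat.sub (MG u) (Nat.mod (MG u) M)) (nat_lit 40) z1 u (Nat.mod (MG u) M)) (mRel MG [T_di, T_c] [T_fi, T_d, T_ci, T_ci, T_d] M (Nat.sub (MG u) (Nat.mod (MG u) M))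 (nat_lit 40) z1 u (Nat.mod (MG u) M)) (Nat.ble (nat_lit 572) j)) (Nat.ble (nat_lit 571) j)) (Bool.rec (motive := fun _ => Bool) (Bool.rec (motive := fun _ => Bool) (mRel MG [T_b, T_ci, T_di, T_c] [T_ci, T_d, T_c, T_bi] M (Nat.sub (MG u) (Nat.mod (MG u) M)) (nat_lit 40) z1 u (Nat.mod (MG u) M)) (mRel MG [T_di, T_ci, T_b, T_di, T_f, T_bi] [T_f, T_ci] M (Nat.sub (MG u) (Nat.mod (MG u) M)) (nat_lit 40) z1 u (Nat.mod (MG u) M)) (Nat.ble (nat_lit 574) j)) (Bool.rec (motive := fun _ => Bool) (mRel MG [T_c, T_di, T_b, T_f] [T_fi, T_bi, T_d, T_ci] M (Nat.sub (MG u) (Nat.mod (MG u) M)) (nat_lit 40) z1 u (Nat.mod (MG u) M)) (Bool.rec (motive := fun _ => Bool) (mRel MG [T_f, T_ci, T_ci, T_f, T_bi] [T_bi, T_c, T_f] M (Nat.sub (MG u) (Nat.mod (MG u) M)) (nat_lit 40) z1 u (Nat.mod (MG u) M)) (mRel MG [T_c, T_b, T_f, T_d, T_d, T_b] [T_di, T_f] M (Nat.sub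 (MG u) (Nat.mod (MG u) M)) (nat_lit 40) z1 u (Nat.mod (MG u) M)) (Nat.ble (nat_lit 577) j)) (Nat.ble (nat_lit 576) j)) (Nat.ble (nat_lit 575) j)) (Nat.ble (nat_lit 573) j)
noncomputable def dM_124 (j z1 z2 u : ℕ) : Bool :=
  Bool.rec (motive := fun _ => Bool) (Bool.rec (motive := fun _ => Bool) (Bool.rec (motive := fun _ => Bool) (mRel MG [T_d, T_b, T_c, T_bi, T_ci, T_bi] [T_di, T_f] M (Nat.sub (MG u) (Nat.mod (MG u) M)) (nat_lit 40) z1 u (Nat.mod (MG u) M)) (mRel MG [T_d, T_b, T_ci, T_di] [T_c, T_fi, T_b, T_c] M (Nat.sub (MG u) (Nat.mod (MG u) M)) (nat_lit 40) z1 u (Nat.mod (MG u) M)) (Nat.ble (nat_lit 579) j)) (Bool.rec (motive := fun _ => Bool) (mRel MG [T_ci, T_b, T_d, T_ci, T_ci] [T_c, T_di, T_bi] M (Nat.sub (MG u) (Nat.mod (MG u) M)) (nat_lit 40) z1 u (Nat.mod (MG u) M)) (mRel MG [T_c, T_b, T_c, T_d, T_f] [T_fi, T_d, T_bi] M (Nat.sub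 (MG u) (Nat.mod (MG u) M)) (nat_lit 40) z1 u (Nat.mod (MG u) M)) (Nat.ble (nat_lit 581) j)) (Nat.ble (nat_lit 580) j)) (Bool.rec (motive := fun _ => Bool) (Bool.rec (motive := fun _ => Bool) (mRel MG [T_fi, T_b, T_c] [T_d, T_b, T_c, T_d, T_b] M (Nat.sub (MG u) (Nat.mod (MG u) M)) (nat_lit 40) z1 u (Nat.mod (MG u) M)) (mRel MG [T_b, T_d, T_ci, T_bi, T_f] [T_d, T_b, T_d, T_ci, T_bi] M (Nat.sub (MG u) (Nat.mod (MG u) M)) (nat_lit 40) z1 u (Nat.mod (MG u) M)) (Nat.ble (nat_lit 583) j)) (Bool.rec (motive := fun _ => Bool) (mRel MG [T_ci, T_b, T_d, T_f, T_f, T_c] [T_b, T_d] M (Nat.sub (MG u) (Nat.mod (MG u) M)) (nat_lit 40) z1 u (Nat.mod (MG u) M)) (Bool.rec (motive := fun _ => Bool) (mRel MG [T_ci] [T_di, T_bi, T_di, T_fi, T_ci, T_bi] M (Nat.sub (MG u) (Nat.mod (MG u) M)) (nat_lit 40) z1 u (Nat.mod (MG u) M)) (mRel MG [T_bi, T_d, T_fi, T_c, T_fi]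 [T_ci, T_d, T_b] M (Nat.sub (MG u) (Nat.mod (MG u) M)) (nat_lit 40) z1 u (Nat.mod (MG u) M)) (Nat.ble (nat_lit 586) j)) (Nat.ble (nat_lit 585) j)) (Nat.ble (nat_lit 584) j)) (Nat.ble (nat_lit 582) j)
noncomputable def dM_125 (j z1 z2 u : ℕ) : Bool :=
  Bool.rec (motive := fun _ => Bool) (dM_123 j z1 z2 u) (dM_124 j z1 z2 u) (Nat.ble (nat_lit 578) j)
noncomputable def dM_126 (j z1 z2 u : ℕ) : Bool :=
  Bool.rec (motive := fun _ => Bool) (Bool.rec (motive := fun _ => Bool) (Bool.rec (motive := fun _ => Bool) (mRel MG [T_c, T_c, T_d, T_bi] [T_bi, T_d, T_f, T_ci] M (Nat.sub (MG u) (Nat.mod (MG u) M)) (nat_lit 40) z1 u (Nat.mod (MG u) M)) (mRel MG [T_b, T_d, T_ci, T_ci] [T_c, T_c, T_di, T_bi] M (Nat.sub (MG u) (Nat.mod (MG u) M)) (nat_lit 40) z1 u (Nat.mod (MG u) M)) (Nat.ble (nat_lit 588) j)) (Bool.rec (motive := fun _ => Bool) (mRel MG [T_f,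 T_d, T_b, T_d, T_ci, T_b] [T_ci] M (Nat.sub (MG u) (Nat.mod (MG u) M)) (nat_lit 40) z1 u (Nat.mod (MG u) M)) (mRel MG [T_b, T_ci, T_bi, T_f] [T_di, T_ci, T_bi, T_di] M (Nat.sub (MG u) (Nat.mod (MG u) M)) (nat_lit 40) z1 u (Nat.mod (MG u) M)) (Nat.ble (nat_lit 590) j)) (Nat.ble (nat_lit 589) j)) (Bool.rec (motive := fun _ => Bool) (Bool.rec (motive := fun _ => Bool) (mRel MG [T_b, T_c] [T_fi, T_d, T_d, T_b, T_c, T_bi] M (Nat.sub (MG u) (Nat.mod (MG u) M)) (nat_lit 40) z1 u (Nat.mod (MG u) M)) (mRel MG [T_ci, T_bi, T_ci, T_fi] [T_d, T_f, T_b, T_di] M (Nat.sub (MG u) (Nat.mod (MG u) M)) (nat_lit 40) z1 u (Nat.mod (MG u) M)) (Nat.ble (nat_lit 592) j)) (Bool.rec (motive := fun _ => Bool) (mRel MG [T_fi, T_b, T_c, T_d, T_c, T_bi] [T_ci, T_d] M (Nat.sub (MG u) (Nat.mod (MG u) M)) (nat_lit 40) z1 u (Nat.mod (MG u) M)) (Bool.rec (motive := fun _ =>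 Bool) (mRel MG [T_c, T_fi] [T_f, T_di, T_b, T_ci, T_d, T_b] M (Nat.sub (MG u) (Nat.mod (MG u) M)) (nat_lit 40) z1 u (Nat.mod (MG u) M)) (mRel MG [T_z, T_fi, T_zi] [T_fi] M (Nat.sub (MG u) (Nat.mod (MG u) M)) (nat_lit 40) z1 u (Nat.mod (MG u) M)) (Nat.ble (nat_lit 595) j)) (Nat.ble (nat_lit 594) j)) (Nat.ble (nat_lit 593) j)) (Nat.ble (nat_lit 591) j)
noncomputable def dM_127 (j z1 z2 u : ℕ) : Bool :=
  Bool.rec (motive := fun _ => Bool) (Bool.rec (motive := fun _ => Bool) (Bool.rec (motive := fun _ => Bool) (mRel MG [T_fi, T_fi, T_di, T_bi, T_c, T_b, T_d, T_ci] [] M (Nat.sub (MG u) (Nat.mod (MG u) M)) (nat_lit 40) z1 u (Nat.mod (MG u) M)) (mRel MG [T_d, T_c, T_bi, T_ci] [T_c, T_b, T_ci, T_di] M (Nat.sub (MG u) (Nat.mod (MG u) M)) (nat_lit 40) z1 u (Nat.mod (MG u) M)) (Nat.ble (nat_lit 597) j)) (Bool.rec (motive := fun _ => Bool) (mRel MG [T_d,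 T_f, T_ci, T_b, T_di, T_ci] [T_b, T_c] M (Nat.sub (MG u) (Nat.mod (MG u) M)) (nat_lit 40) z1 u (Nat.mod (MG u) M)) (Bool.rec (motive := fun _ => Bool) (mRel MG [T_f, T_bi, T_c, T_fi] [T_d, T_bi, T_c, T_d] M (Nat.sub (MG u) (Nat.mod (MG u) M)) (nat_lit 40) z1 u (Nat.mod (MG u) M)) (mRel MG [T_b, T_d, T_ci] [T_c, T_c, T_di, T_bi, T_c] M (Nat.sub (MG u) (Nat.mod (MG u) M)) (nat_lit 40) z1 u (Nat.mod (MG u) M)) (Nat.ble (nat_lit 600) j)) (Nat.ble (nat_lit 599) j)) (Nat.ble (nat_lit 598) j)) (Bool.rec (motive := fun _ => Bool) (Bool.rec (motive := fun _ => Bool) (mRel MG [T_f, T_d, T_d] [T_d, T_f, T_di, T_f] M (Nat.sub (MG u) (Nat.mod (MG u) M)) (nat_lit 40) z1 u (Nat.mod (MG u) M)) (mRel MG [T_fi, T_d, T_c, T_b] [T_bi, T_di, T_di, T_fi] M (Nat.sub (MG u) (Nat.mod (MG u) M)) (nat_lit 40) z1 u (Nat.mod (MG u) M)) (Nat.ble (nat_lit 602) j)) (Bool.rec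 (motive := fun _ => Bool) (mRel MG [T_ci, T_fi, T_fi, T_di, T_bi] [T_di, T_bi, T_ci] M (Nat.sub (MG u) (Nat.mod (MG u) M)) (nat_lit 40) z1 u (Nat.mod (MG u) M)) (Bool.rec (motive := fun _ => Bool) (mRel MG [T_b, T_ci, T_fi] [T_fi, T_c, T_d, T_d, T_bi] M (Nat.sub (MG u) (Nat.mod (MG u) M)) (nat_lit 40) z1 u (Nat.mod (MG u) M)) (mRel MG [T_b, T_c] [T_f, T_ci, T_d, T_b, T_ci, T_di] M (Nat.sub (MG u) (Nat.mod (MG u) M)) (nat_lit 40) z1 u (Nat.mod (MG u) M)) (Nat.ble (nat_lit 605) j)) (Nat.ble (nat_lit 604) j)) (Nat.ble (nat_lit 603) j)) (Nat.ble (nat_lit 601) j)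
noncomputable def dM_128 (j z1 z2 u : ℕ) : Bool :=
  Bool.rec (motive := fun _ => Bool) (dM_126 j z1 z2 u) (dM_127 j z1 z2 u) (Nat.ble (nat_lit 596) j)
noncomputable def dM_129 (j z1 z2 u : ℕ) : Bool :=
  Bool.rec (motive := fun _ => Bool) (dM_125 j z1 z2 u) (dM_128 j z1 z2 u) (Nat.ble (nat_lit 587) j)
noncomputable def dM_130 (j z1 z2 u : ℕ) : Bool :=
  Bool.rec (motive := fun _ => Bool) (Bool.rec (motive := fun _ => Bool) (Bool.rec (motive := fun _ => Bool) (mRel MG [T_ci, T_bi, T_di, T_di] [T_bi, T_ci, T_bi, T_fi] M (Nat.sub (MG u) (Nat.mod (MG u) M)) (nat_lit 40) z1 u (Nat.mod (MG u) M)) (mRel MG [T_f, T_di, T_b] [T_c, T_fi, T_bi, T_di, T_c] M (Nat.sub (MG u) (Nat.mod (MG u) M)) (nat_lit 40) z1 u (Nat.mod (MG u) M)) (Nat.ble (nat_lit 607) j)) (Bool.rec (motive := fun _ => Bool) (mRel MG [T_f, T_c, T_di] [T_fi, T_di, T_bi, T_c, T_b] M (Nat.sub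 (MG u) (Nat.mod (MG u) M)) (nat_lit 40) z1 u (Nat.mod (MG u) M)) (mRel MG [T_ei, T_ei, T_ei, T_ei] [T_e] M (Nat.sub (MG u) (Nat.mod (MG u) M)) (nat_lit 40) z1 u (Nat.mod (MG u) M)) (Nat.ble (nat_lit 609) j)) (Nat.ble (nat_lit 608) j)) (Bool.rec (motive := fun _ => Bool) (Bool.rec (motive := fun _ => Bool) (mRel MG [T_d, T_f, T_ci, T_b, T_di] [T_b, T_c, T_c] M (Nat.sub (MG u) (Nat.mod (MG u) M)) (nat_lit 40) z1 u (Nat.mod (MG u) M)) (mRel MG [T_c, T_di] [T_fi, T_bi, T_d, T_ci, T_fi, T_bi] M (Nat.sub (MG u) (Nat.mod (MG u) M)) (nat_lit 40) z1 u (Nat.mod (MG u) M)) (Nat.ble (nat_lit 611) j)) (Bool.rec (motive := fun _ => Bool) (mRel MG [T_ci, T_ci, T_f, T_bi, T_fi] [T_fi, T_bi, T_c] M (Nat.sub (MG u) (Nat.mod (MG u) M)) (nat_lit 40) z1 u (Nat.mod (MG u) M)) (Bool.rec (motive := fun _ => Bool) (mRel MG [T_c, T_c, T_di, T_f, T_di, T_c] [T_d] M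 (Nat.sub (MG u) (Nat.mod (MG u) M)) (nat_lit 40) z1 u (Nat.mod (MG u) M)) (mRel MG [T_z, T_e, T_c, T_e, T_bi] [T_b, T_ei, T_ci, T_ei] M (Nat.sub (MG u) (Nat.mod (MG u) M)) (nat_lit 40) z1 u (Nat.mod (MG u) M)) (Nat.ble (nat_lit 614) j)) (Nat.ble (nat_lit 613) j)) (Nat.ble (nat_lit 612) j)) (Nat.ble (nat_lit 610) j)
noncomputable def dM_131 (j z1 z2 u : ℕ) : Bool :=
  Bool.rec (motive := fun _ => Bool) (Bool.rec (motive := fun _ => Bool) (Bool.rec (motive := fun _ => Bool) (mRel MG [T_di, T_f, T_di, T_di] [T_fi, T_di, T_f] M (Nat.sub (MG u) (Nat.mod (MG u) M)) (nat_lit 40) z1 u (Nat.mod (MG u) M)) (mRel MG [T_bi, T_bi, T_c, T_bi, T_ei, T_b, T_ci, T_b] [T_e, T_bi] M (Nat.sub (MG u) (Nat.mod (MG u) M)) (nat_lit 40) z1 u (Nat.mod (MG u) M)) (Nat.ble (nat_lit 616) j)) (Bool.rec (motive := fun _ => Bool) (mRel MG [T_ci, T_ci, T_d, T_ci, T_d] [T_di,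 T_f] M (Nat.sub (MG u) (Nat.mod (MG u) M)) (nat_lit 40) z1 u (Nat.mod (MG u) M)) (Bool.rec (motive := fun _ => Bool) (mRel MG [T_bi, T_bi, T_c, T_bi, T_ei, T_b, T_ci, T_b, T_b, T_ei] [] M (Nat.sub (MG u) (Nat.mod (MG u) M)) (nat_lit 40) z1 u (Nat.mod (MG u) M)) (mRel MG [T_f, T_di, T_di, T_fi, T_d] [T_d, T_fi] M (Nat.sub (MG u) (Nat.mod (MG u) M)) (nat_lit 40) z1 u (Nat.mod (MG u) M)) (Nat.ble (nat_lit 619) j)) (Nat.ble (nat_lit 618) j)) (Nat.ble (nat_lit 617) j)) (Bool.rec (motive := fun _ => Bool) (Bool.rec (motive := fun _ => Bool) (mRel MG [T_fi, T_di, T_b] [T_ci, T_b, T_di, T_ci, T_ci] M (Nat.sub (MG u) (Nat.mod (MG u) M)) (nat_lit 40) z1 u (Nat.mod (MG u) M)) (mRel MG [T_d, T_b, T_c, T_ei, T_ci, T_bi, T_di, T_c] [T_c, T_ei] M (Nat.sub (MG u) (Nat.mod (MG u) M)) (nat_lit 40) z1 u (Nat.mod (MG u) M)) (Nat.ble (nat_lit 621) j)) (Bool.rec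 (motive := fun _ => Bool) (mRel MG [T_bi, T_c] [T_b, T_ei, T_bi, T_bi, T_c, T_bi, T_ei, T_b] M (Nat.sub (MG u) (Nat.mod (MG u) M)) (nat_lit 40) z1 u (Nat.mod (MG u) M)) (Bool.rec (motive := fun _ => Bool) (mRel MG [T_di, T_c, T_d, T_bi, T_c, T_di] [T_ci, T_bi] M (Nat.sub (MG u) (Nat.mod (MG u) M)) (nat_lit 40) z1 u (Nat.mod (MG u) M)) (mRel MG [T_c, T_bi, T_ci, T_bi] [T_bi, T_di, T_di, T_f] M (Nat.sub (MG u) (Nat.mod (MG u) M)) (nat_lit 40) z1 u (Nat.mod (MG u) M)) (Nat.ble (nat_lit 624) j)) (Nat.ble (nat_lit 623) j)) (Nat.ble (nat_lit 622) j)) (Nat.ble (nat_lit 620) j)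
noncomputable def dM_132 (j z1 z2 u : ℕ) : Bool :=
  Bool.rec (motive := fun _ => Bool) (dM_130 j z1 z2 u) (dM_131 j z1 z2 u) (Nat.ble (nat_lit 615) j)
noncomputable def dM_133 (j z1 z2 u : ℕ) : Bool :=
  Bool.rec (motive := fun _ => Bool) (Bool.rec (motive := fun _ => Bool) (Bool.rec (motive := fun _ => Bool) (mRel MG [T_ci] [T_b, T_ci, T_bi, T_di, T_di, T_f, T_b] M (Nat.sub (MG u) (Nat.mod (MG u) M)) (nat_lit 40) z1 u (Nat.mod (MG u) M)) (mRel MG [T_c, T_fi] [T_d, T_b, T_ci, T_di, T_ci, T_bi] M (Nat.sub (MG u) (Nat.mod (MG u) M)) (nat_lit 40) z1 u (Nat.mod (MG u) M)) (Nat.ble (nat_lit 626) j)) (Bool.rec (motive := fun _ => Bool) (mRel MG [T_d, T_fi, T_d] [T_c, T_di, T_c, T_c] M (Nat.sub (MG u) (Nat.mod (MG u) M)) (nat_lit 40) z1 u (Nat.mod (MG u) M)) (mRel MG [T_d, T_fi, T_d] [T_di, T_fi, T_d, T_f] M (Nat.sub (MG u) (Nat.mod (MG u) M)) (nat_lit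 40) z1 u (Nat.mod (MG u) M)) (Nat.ble (nat_lit 628) j)) (Nat.ble (nat_lit 627) j)) (Bool.rec (motive := fun _ => Bool) (Bool.rec (motive := fun _ => Bool) (mRel MG [T_ci, T_d, T_ci] [T_c, T_di, T_f, T_di] M (Nat.sub (MG u) (Nat.mod (MG u) M)) (nat_lit 40) z1 u (Nat.mod (MG u) M)) (mRel MG [T_d, T_bi, T_f, T_c, T_bi, T_fi, T_c] [T_di] M (Nat.sub (MG u) (Nat.mod (MG u) M)) (nat_lit 40) z1 u (Nat.mod (MG u) M)) (Nat.ble (nat_lit 630) j)) (Bool.rec (motive := fun _ => Bool) (mRel MG [T_c, T_b, T_f, T_d, T_d] [T_di, T_f, T_bi] M (Nat.sub (MG u) (Nat.mod (MG u) M)) (nat_lit 40) z1 u (Nat.mod (MG u) M)) (Bool.rec (motive := fun _ => Bool) (mRel MG [T_e, T_c, T_e, T_bi] [T_b, T_ei, T_ci, T_ei, T_zi] M (Nat.sub (MG u) (Nat.mod (MG u) M)) (nat_lit 40) z1 u (Nat.mod (MG u) M)) (mRel MG [T_b, T_e, T_bi, T_bi] [T_bi, T_c, T_bi, T_ei, T_b, T_ci] M (Nat.sub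 (MG u) (Nat.mod (MG u) M)) (nat_lit 40) z1 u (Nat.mod (MG u) M)) (Nat.ble (nat_lit 633) j)) (Nat.ble (nat_lit 632) j)) (Nat.ble (nat_lit 631) j)) (Nat.ble (nat_lit 629) j)
noncomputable def dM_134 (j z1 z2 u : ℕ) : Bool :=
  Bool.rec (motive := fun _ => Bool) (Bool.rec (motive := fun _ => Bool) (Bool.rec (motive := fun _ => Bool) (mRel MG [T_b, T_d, T_ci, T_ci, T_b] [T_c, T_c, T_di] M (Nat.sub (MG u) (Nat.mod (MG u) M)) (nat_lit 40) z1 u (Nat.mod (MG u) M)) (mRel MG [T_ci, T_b, T_b] [T_bi, T_e, T_b, T_ci, T_b, T_b, T_e] M (Nat.sub (MG u) (Nat.mod (MG u) M)) (nat_lit 40) z1 u (Nat.mod (MG u) M)) (Nat.ble (nat_lit 635) j)) (Bool.rec (motive := fun _ => Bool) (mRel MG [T_di, T_b, T_ci, T_d, T_b] [T_fi, T_c, T_fi] M (Nat.sub (MG u) (Nat.mod (MG u) M)) (nat_lit 40) z1 u (Nat.mod (MG u) M)) (Bool.rec (motive := fun _ => Bool) (mRel MG [T_bi] [T_ci,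 T_b, T_b, T_ei, T_bi, T_bi, T_c, T_bi, T_ei] M (Nat.sub (MG u) (Nat.mod (MG u) M)) (nat_lit 40) z1 u (Nat.mod (MG u) M)) (mRel MG [T_di, T_c, T_c, T_di, T_f, T_di] [T_ci] M (Nat.sub (MG u) (Nat.mod (MG u) M)) (nat_lit 40) z1 u (Nat.mod (MG u) M)) (Nat.ble (nat_lit 638) j)) (Nat.ble (nat_lit 637) j)) (Nat.ble (nat_lit 636) j)) (Bool.rec (motive := fun _ => Bool) (Bool.rec (motive := fun _ => Bool) (mRel MG [T_di, T_di, T_fi, T_bi, T_ci] [T_b, T_fi, T_d] M (Nat.sub (MG u) (Nat.mod (MG u) M)) (nat_lit 40) z1 u (Nat.mod (MG u) M)) (mRel MG [T_fi, T_b, T_c, T_bi] [T_d, T_b, T_c, T_d] M (Nat.sub (MG u) (Nat.mod (MG u) M)) (nat_lit 40) z1 u (Nat.mod (MG u) M)) (Nat.ble (nat_lit 640) j)) (Bool.rec (motive := fun _ => Bool) (mRel MG [T_c, T_e, T_bi, T_z] [T_ei, T_b, T_ei, T_ci, T_ei] M (Nat.sub (MG u) (Nat.mod (MG u) M)) (nat_lit 40) z1 u (Nat.mod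 (MG u) M)) (Bool.rec (motive := fun _ => Bool) (mRel MG [T_di, T_c, T_e, T_ci, T_d, T_b, T_c, T_ei] [T_b, T_c] M (Nat.sub (MG u) (Nat.mod (MG u) M)) (nat_lit 40) z1 u (Nat.mod (MG u) M)) (mRel MG [T_b, T_di, T_di] [T_f, T_c, T_bi, T_fi, T_c] M (Nat.sub (MG u) (Nat.mod (MG u) M)) (nat_lit 40) z1 u (Nat.mod (MG u) M)) (Nat.ble (nat_lit 643) j)) (Nat.ble (nat_lit 642) j)) (Nat.ble (nat_lit 641) j)) (Nat.ble (nat_lit 639) j)
noncomputable def dM_135 (j z1 z2 u : ℕ) : Bool :=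
  Bool.rec (motive := fun _ => Bool) (dM_133 j z1 z2 u) (dM_134 j z1 z2 u) (Nat.ble (nat_lit 634) j)
noncomputable def dM_136 (j z1 z2 u : ℕ) : Bool :=
  Bool.rec (motive := fun _ => Bool) (dM_132 j z1 z2 u) (dM_135 j z1 z2 u) (Nat.ble (nat_lit 625) j)
noncomputable def dM_137 (j z1 z2 u : ℕ) : Bool :=
  Bool.rec (motive := fun _ => Bool) (dM_129 j z1 z2 u) (dM_136 j z1 z2 u) (Nat.ble (nat_lit 606) j)
noncomputable def dM_138 (j z1 z2 u : ℕ) : Bool :=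
  Bool.rec (motive := fun _ => Bool) (dM_122 j z1 z2 u) (dM_137 j z1 z2 u) (Nat.ble (nat_lit 569) j)
noncomputable def dM_139 (j z1 z2 u : ℕ) : Bool :=
  Bool.rec (motive := fun _ => Bool) (Bool.rec (motive := fun _ => Bool) (Bool.rec (motive := fun _ => Bool) (mRel MG [T_ci, T_bi, T_d, T_f] [T_c, T_d, T_bi, T_c] M (Nat.sub (MG u) (Nat.mod (MG u) M)) (nat_lit 40) z1 u (Nat.mod (MG u) M)) (mRel MG [T_bi, T_d, T_b, T_d, T_ci, T_bi] [T_d, T_ci, T_bi, T_f] M (Nat.sub (MG u) (Nat.mod (MG u) M)) (nat_lit 40) z1 u (Nat.mod (MG u) M)) (Nat.ble (nat_lit 645) j)) (Bool.rec (motive := fun _ => Bool) (mRel MG [T_f, T_c] [T_fi, T_di, T_bi, T_c, T_b, T_d] M (Nat.sub (MG u) (Nat.mod (MG u) M)) (nat_lit 40) z1 u (Nat.mod (MG u) M)) (mRel MG [T_b, T_ci] [T_ci, T_bi, T_fi, T_d, T_d, T_b] M (Nat.sub (MG u) (Nat.mod (MG u) M)) (nat_lit 40) z1 u (Nat.mod (MG u)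 M)) (Nat.ble (nat_lit 647) j)) (Nat.ble (nat_lit 646) j)) (Bool.rec (motive := fun _ => Bool) (Bool.rec (motive := fun _ => Bool) (mRel MG [T_c, T_bi, T_d, T_fi, T_c] [T_d, T_b, T_f] M (Nat.sub (MG u) (Nat.mod (MG u) M)) (nat_lit 40) z1 u (Nat.mod (MG u) M)) (mRel MG [T_bi, T_c, T_b, T_d, T_ci, T_fi] [T_d, T_f] M (Nat.sub (MG u) (Nat.mod (MG u) M)) (nat_lit 40) z1 u (Nat.mod (MG u) M)) (Nat.ble (nat_lit 649) j)) (Bool.rec (motive := fun _ => Bool) (mRel MG [T_fi, T_d, T_d, T_fi, T_di] [T_f] M (Nat.sub (MG u) (Nat.mod (MG u) M)) (nat_lit 40) z1 u (Nat.mod (MG u) M)) (Bool.rec (motive := fun _ => Bool) (mRel MG [T_di, T_di, T_fi, T_d, T_f] [T_fi, T_d] M (Nat.sub (MG u) (Nat.mod (MG u) M)) (nat_lit 40) z1 u (Nat.mod (MG u) M)) (mRel MG [T_e, T_fi, T_d, T_ci, T_e, T_c, T_di] [T_fi] M (Nat.sub (MG u) (Nat.mod (MG u) M)) (nat_lit 40) z1 u (Nat.mod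 (MG u) M)) (Nat.ble (nat_lit 652) j)) (Nat.ble (nat_lit 651) j)) (Nat.ble (nat_lit 650) j)) (Nat.ble (nat_lit 648) j)
noncomputable def dM_140 (j z1 z2 u : ℕ) : Bool :=
  Bool.rec (motive := fun _ => Bool) (Bool.rec (motive := fun _ => Bool) (Bool.rec (motive := fun _ => Bool) (mRel MG [T_e, T_c, T_di] [T_c, T_di, T_f, T_ei, T_fi] M (Nat.sub (MG u) (Nat.mod (MG u) M)) (nat_lit 40) z1 u (Nat.mod (MG u) M)) (mRel MG [T_b] [T_z, T_e, T_c, T_e, T_bi, T_e, T_c, T_e] M (Nat.sub (MG u) (Nat.mod (MG u) M)) (nat_lit 40) z1 u (Nat.mod (MG u) M)) (Nat.ble (nat_lit 654) j)) (Bool.rec (motive := fun _ => Bool) (mRel MG [T_c, T_di, T_f, T_di, T_c, T_di] [T_ci] M (Nat.sub (MG u) (Nat.mod (MG u) M)) (nat_lit 40) z1 u (Nat.mod (MG u) M)) (mRel MG [T_ci, T_ei] [T_di, T_f, T_e, T_fi, T_d, T_ci] M (Nat.sub (MG u) (Nat.mod (MG u) M)) (nat_lit 40) z1 u (Nat.mod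 (MG u) M)) (Nat.ble (nat_lit 656) j)) (Nat.ble (nat_lit 655) j)) (Bool.rec (motive := fun _ => Bool) (Bool.rec (motive := fun _ => Bool) (mRel MG [T_c, T_f, T_d, T_b, T_d, T_ci] [T_bi] M (Nat.sub (MG u) (Nat.mod (MG u) M)) (nat_lit 40) z1 u (Nat.mod (MG u) M)) (mRel MG [T_ci, T_ci, T_ci, T_ci, T_ci] [] M (Nat.sub (MG u) (Nat.mod (MG u) M)) (nat_lit 40) z1 u (Nat.mod (MG u) M)) (Nat.ble (nat_lit 658) j)) (Bool.rec (motive := fun _ => Bool) (mRel MG [T_z, T_e] [T_b, T_ei, T_ci, T_ei, T_b, T_ei, T_ci] M (Nat.sub (MG u) (Nat.mod (MG u) M)) (nat_lit 40) z1 u (Nat.mod (MG u) M)) (Bool.rec (motive := fun _ => Bool) (mRel MG [T_bi, T_c, T_bi, T_ei, T_b, T_ci, T_b] [T_b, T_e, T_bi] M (Nat.sub (MG u) (Nat.mod (MG u) M)) (nat_lit 40) z1 u (Nat.mod (MG u) M)) (mRel MG [T_ei, T_ci, T_ei, T_b, T_ei, T_ci, T_ei, T_zi] [T_bi] M (Nat.sub (MG u) (Nat.mod (MG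 u) M)) (nat_lit 40) z1 u (Nat.mod (MG u) M)) (Nat.ble (nat_lit 661) j)) (Nat.ble (nat_lit 660) j)) (Nat.ble (nat_lit 659) j)) (Nat.ble (nat_lit 657) j)
noncomputable def dM_141 (j z1 z2 u : ℕ) : Bool :=
  Bool.rec (motive := fun _ => Bool) (dM_139 j z1 z2 u) (dM_140 j z1 z2 u) (Nat.ble (nat_lit 653) j)
noncomputable def dM_142 (j z1 z2 u : ℕ) : Bool :=
  Bool.rec (motive := fun _ => Bool) (Bool.rec (motive := fun _ => Bool) (Bool.rec (motive := fun _ => Bool) (mRel MG [T_zi, T_ei, T_z] [T_ei] M (Nat.sub (MG u) (Nat.mod (MG u) M)) (nat_lit 40) z1 u (Nat.mod (MG u) M)) (mRel MG [T_b, T_ei, T_ci, T_ei, T_zi, T_b] [T_e, T_c, T_e] M (Nat.sub (MG u) (Nat.mod (MG u) M)) (nat_lit 40) z1 u (Nat.mod (MG u) M)) (Nat.ble (nat_lit 663) j)) (Bool.rec (motive := fun _ => Bool) (mRel MG [T_b, T_di] [T_c, T_di, T_b, T_c, T_di, T_c] M (Nat.sub (MG u) (Nat.mod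 (MG u) M)) (nat_lit 40) z1 u (Nat.mod (MG u) M)) (mRel MG [T_c, T_e, T_bi, T_e, T_c, T_e, T_bi, T_z] [T_ei] M (Nat.sub (MG u) (Nat.mod (MG u) M)) (nat_lit 40) z1 u (Nat.mod (MG u) M)) (Nat.ble (nat_lit 665) j)) (Nat.ble (nat_lit 664) j)) (Bool.rec (motive := fun _ => Bool) (Bool.rec (motive := fun _ => Bool) (mRel MG [T_bi, T_c, T_di, T_bi] [T_c, T_f, T_d] M (Nat.sub (MG u) (Nat.mod (MG u) M)) (nat_lit 40) z1 u (Nat.mod (MG u) M)) (mRel MG [T_b, T_ei, T_ci, T_ei, T_zi, T_b, T_ei, T_ci, T_ei] [] M (Nat.sub (MG u) (Nat.mod (MG u) M)) (nat_lit 40) z1 u (Nat.mod (MG u) M)) (Nat.ble (nat_lit 667) j)) (Bool.rec (motive := fun _ => Bool) (mRel MG [T_zi, T_b, T_ei, T_ci, T_ei, T_b, T_ei] [T_e, T_c] M (Nat.sub (MG u) (Nat.mod (MG u) M)) (nat_lit 40) z1 u (Nat.mod (MG u) M)) (Bool.rec (motive := fun _ => Bool) (mRel MG [T_ci, T_bi] [T_bi, T_ci, T_bi,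 T_fi, T_d, T_d] M (Nat.sub (MG u) (Nat.mod (MG u) M)) (nat_lit 40) z1 u (Nat.mod (MG u) M)) (mRel MG [T_bi] [T_di, T_b, T_b, T_d] M (Nat.sub (MG u) (Nat.mod (MG u) M)) (nat_lit 40) z1 u (Nat.mod (MG u) M)) (Nat.ble (nat_lit 670) j)) (Nat.ble (nat_lit 669) j)) (Nat.ble (nat_lit 668) j)) (Nat.ble (nat_lit 666) j)
noncomputable def dM_143 (j z1 z2 u : ℕ) : Bool :=
  Bool.rec (motive := fun _ => Bool) (Bool.rec (motive := fun _ => Bool) (Bool.rec (motive := fun _ => Bool) (mRel MG [T_f, T_ei, T_fi, T_d, T_ci] [T_d, T_ci, T_e] M (Nat.sub (MG u) (Nat.mod (MG u) M)) (nat_lit 40) z1 u (Nat.mod (MG u) M)) (mRel MG [T_c, T_di, T_f, T_di, T_c] [T_ci, T_d] M (Nat.sub (MG u) (Nat.mod (MG u) M)) (nat_lit 40) z1 u (Nat.mod (MG u) M)) (Nat.ble (nat_lit 672) j)) (Bool.rec (motive := fun _ => Bool) (mRel MG [T_e, T_c, T_e, T_bi, T_e, T_c] [T_zi, T_b, T_ei]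 M (Nat.sub (MG u) (Nat.mod (MG u) M)) (nat_lit 40) z1 u (Nat.mod (MG u) M)) (Bool.rec (motive := fun _ => Bool) (mRel MG [T_c, T_di] [T_e, T_c, T_di, T_f, T_e, T_fi] M (Nat.sub (MG u) (Nat.mod (MG u) M)) (nat_lit 40) z1 u (Nat.mod (MG u) M)) (mRel MG [T_f, T_bi, T_di, T_di] [T_d, T_c, T_b, T_f] M (Nat.sub (MG u) (Nat.mod (MG u) M)) (nat_lit 40) z1 u (Nat.mod (MG u) M)) (Nat.ble (nat_lit 675) j)) (Nat.ble (nat_lit 674) j)) (Nat.ble (nat_lit 673) j)) (Bool.rec (motive := fun _ => Bool) (Bool.rec (motive := fun _ => Bool) (mRel MG [T_z, T_e, T_c, T_e, T_bi, T_e, T_c] [T_b, T_ei] M (Nat.sub (MG u) (Nat.mod (MG u) M)) (nat_lit 40) z1 u (Nat.mod (MG u) M)) (mRel MG [T_fi, T_d, T_bi] [T_c, T_b, T_c, T_d, T_f] M (Nat.sub (MG u) (Nat.mod (MG u) M)) (nat_lit 40) z1 u (Nat.mod (MG u) M)) (Nat.ble (nat_lit 677) j)) (Bool.rec (motive := fun _ => Bool)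 (mRel MG [T_di, T_fi, T_d, T_f] [T_d, T_fi, T_d] M (Nat.sub (MG u) (Nat.mod (MG u) M)) (nat_lit 40) z1 u (Nat.mod (MG u) M)) (Bool.rec (motive := fun _ => Bool) (mRel MG [T_fi, T_ci] [T_d, T_b, T_d, T_ci, T_b] M (Nat.sub (MG u) (Nat.mod (MG u) M)) (nat_lit 40) z1 u (Nat.mod (MG u) M)) (mRel MG [T_ei, T_ci, T_bi, T_di, T_c] [T_ci, T_bi, T_di, T_c, T_ei] M (Nat.sub (MG u) (Nat.mod (MG u) M)) (nat_lit 40) z1 u (Nat.mod (MG u) M)) (Nat.ble (nat_lit 680) j)) (Nat.ble (nat_lit 679) j)) (Nat.ble (nat_lit 678) j)) (Nat.ble (nat_lit 676) j)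
noncomputable def dM_144 (j z1 z2 u : ℕ) : Bool :=
  Bool.rec (motive := fun _ => Bool) (dM_142 j z1 z2 u) (dM_143 j z1 z2 u) (Nat.ble (nat_lit 671) j)
noncomputable def dM_145 (j z1 z2 u : ℕ) : Bool :=
  Bool.rec (motive := fun _ => Bool) (dM_141 j z1 z2 u) (dM_144 j z1 z2 u) (Nat.ble (nat_lit 662) j)
noncomputable def dM_146 (j z1 z2 u : ℕ) : Bool :=
  Bool.rec (motive := fun _ => Bool) (Bool.rec (motive := fun _ => Bool) (Bool.rec (motive := fun _ => Bool) (mRel MG [T_ei] [T_c, T_e, T_bi, T_z, T_e, T_c, T_e, T_bi] M (Nat.sub (MG u) (Nat.mod (MG u) M)) (nat_lit 40) z1 u (Nat.mod (MG u) M)) (mRel MG [T_ei] [T_bi, T_z, T_e, T_c, T_e, T_bi, T_e, T_c] M (Nat.sub (MG u) (Nat.mod (MG u) M)) (nat_lit 40) z1 u (Nat.mod (MG u) M)) (Nat.ble (nat_lit 682) j)) (Bool.rec (motive := fun _ => Bool) (mRel MG [T_f, T_ci, T_b, T_di, T_ci] [T_di, T_b, T_c]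 M (Nat.sub (MG u) (Nat.mod (MG u) M)) (nat_lit 40) z1 u (Nat.mod (MG u) M)) (mRel MG [T_bi, T_di, T_c, T_ei, T_ci] [T_c, T_ei, T_ci, T_bi, T_di] M (Nat.sub (MG u) (Nat.mod (MG u) M)) (nat_lit 40) z1 u (Nat.mod (MG u) M)) (Nat.ble (nat_lit 684) j)) (Nat.ble (nat_lit 683) j)) (Bool.rec (motive := fun _ => Bool) (Bool.rec (motive := fun _ => Bool) (mRel MG [T_ci] [T_di, T_c, T_c, T_di, T_f, T_di] M (Nat.sub (MG u) (Nat.mod (MG u) M)) (nat_lit 40) z1 u (Nat.mod (MG u) M)) (mRel MG [T_c, T_bi, T_c, T_bi, T_c] [T_b, T_ci, T_b] M (Nat.sub (MG u) (Nat.mod (MG u) M)) (nat_lit 40) z1 u (Nat.mod (MG u) M)) (Nat.ble (nat_lit 686) j)) (Bool.rec (motive := fun _ => Bool) (mRel MG [T_c, T_di, T_f, T_e, T_fi, T_d, T_ci, T_e] [] M (Nat.sub (MG u) (Nat.mod (MG u) M)) (nat_lit 40) z1 u (Nat.mod (MG u) M)) (Bool.rec (motive := fun _ => Bool) (mRel MG [T_zi] [T_e,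 T_c, T_e, T_bi, T_e, T_c, T_e, T_bi] M (Nat.sub (MG u) (Nat.mod (MG u) M)) (nat_lit 40) z1 u (Nat.mod (MG u) M)) (mRel MG [T_bi, T_ci, T_b] [T_d, T_ci, T_fi, T_fi, T_di] M (Nat.sub (MG u) (Nat.mod (MG u) M)) (nat_lit 40) z1 u (Nat.mod (MG u) M)) (Nat.ble (nat_lit 689) j)) (Nat.ble (nat_lit 688) j)) (Nat.ble (nat_lit 687) j)) (Nat.ble (nat_lit 685) j)
noncomputable def dM_147 (j z1 z2 u : ℕ) : Bool :=
  Bool.rec (motive := fun _ => Bool) (Bool.rec (motive := fun _ => Bool) (Bool.rec (motive := fun _ => Bool) (mRel MG [T_b, T_c, T_b, T_ci] [T_fi, T_d, T_d, T_b] M (Nat.sub (MG u) (Nat.mod (MG u) M)) (nat_lit 40) z1 u (Nat.mod (MG u) M)) (mRel MG [T_e, T_c, T_e, T_bi, T_e, T_c, T_e, T_bi, T_z] [] M (Nat.sub (MG u) (Nat.mod (MG u) M)) (nat_lit 40) z1 u (Nat.mod (MG u) M)) (Nat.ble (nat_lit 691) j)) (Bool.rec (motive := fun _ => Bool) (mRel MG [T_di,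 T_f, T_di] [T_ci, T_ci, T_d, T_ci] M (Nat.sub (MG u) (Nat.mod (MG u) M)) (nat_lit 40) z1 u (Nat.mod (MG u) M)) (Bool.rec (motive := fun _ => Bool) (mRel MG [T_di, T_c, T_ei, T_ci, T_d, T_b, T_c, T_e] [T_b, T_c] M (Nat.sub (MG u) (Nat.mod (MG u) M)) (nat_lit 40) z1 u (Nat.mod (MG u) M)) (mRel MG [T_fi, T_di] [T_b, T_di, T_f, T_c, T_b, T_c] M (Nat.sub (MG u) (Nat.mod (MG u) M)) (nat_lit 40) z1 u (Nat.mod (MG u) M)) (Nat.ble (nat_lit 694) j)) (Nat.ble (nat_lit 693) j)) (Nat.ble (nat_lit 692) j)) (Bool.rec (motive := fun _ => Bool) (Bool.rec (motive := fun _ => Bool) (mRel MG [T_zi, T_b, T_ei, T_ci, T_ei] [T_e, T_c, T_e, T_bi] M (Nat.sub (MG u) (Nat.mod (MG u) M)) (nat_lit 40) z1 u (Nat.mod (MG u) M)) (mRel MG [T_fi, T_d, T_ci, T_ei, T_c] [T_e, T_fi, T_d] M (Nat.sub (MG u) (Nat.mod (MG u) M)) (nat_lit 40) z1 u (Nat.mod (MG u) M)) (Nat.ble (nat_lit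 696) j)) (Bool.rec (motive := fun _ => Bool) (mRel MG [T_b, T_fi, T_c, T_c] [T_fi, T_ci, T_b, T_f] M (Nat.sub (MG u) (Nat.mod (MG u) M)) (nat_lit 40) z1 u (Nat.mod (MG u) M)) (Bool.rec (motive := fun _ => Bool) (mRel MG [T_c, T_fi, T_di] [T_b, T_fi, T_d, T_bi, T_c] M (Nat.sub (MG u) (Nat.mod (MG u) M)) (nat_lit 40) z1 u (Nat.mod (MG u) M)) (mRel MG [T_ci, T_bi, T_di, T_c] [T_ei, T_ci, T_bi, T_di, T_c, T_e] M (Nat.sub (MG u) (Nat.mod (MG u) M)) (nat_lit 40) z1 u (Nat.mod (MG u) M)) (Nat.ble (nat_lit 699) j)) (Nat.ble (nat_lit 698) j)) (Nat.ble (nat_lit 697) j)) (Nat.ble (nat_lit 695) j)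
noncomputable def dM_148 (j z1 z2 u : ℕ) : Bool :=
  Bool.rec (motive := fun _ => Bool) (dM_146 j z1 z2 u) (dM_147 j z1 z2 u) (Nat.ble (nat_lit 690) j)
noncomputable def dM_149 (j z1 z2 u : ℕ) : Bool :=
  Bool.rec (motive := fun _ => Bool) (Bool.rec (motive := fun _ => Bool) (Bool.rec (motive := fun _ => Bool) (mRel MG [T_ci, T_b] [T_di, T_bi, T_di, T_fi, T_ci] M (Nat.sub (MG u) (Nat.mod (MG u) M)) (nat_lit 40) z1 u (Nat.mod (MG u) M)) (mRel MG [T_di, T_f, T_b, T_ci] [T_ei, T_c, T_c, T_di, T_ci, T_d, T_e] M (Nat.sub (MG u) (Nat.mod (MG u) M)) (nat_lit 40) z1 u (Nat.mod (MG u) M)) (Nat.ble (nat_lit 701) j)) (Bool.rec (motive := fun _ => Bool) (mRel MG [T_ci, T_bi, T_d, T_f, T_ci] [T_c, T_d, T_bi] M (Nat.sub (MG u) (Nat.mod (MG u) M)) (nat_lit 40) z1 u (Nat.mod (MG u) M)) (mRel MG [T_b, T_c, T_ei, T_ci, T_bi] [T_di, T_c, T_ei, T_ci, T_d] M (Nat.sub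 (MG u) (Nat.mod (MG u) M)) (nat_lit 40) z1 u (Nat.mod (MG u) M)) (Nat.ble (nat_lit 703) j)) (Nat.ble (nat_lit 702) j)) (Bool.rec (motive := fun _ => Bool) (Bool.rec (motive := fun _ => Bool) (mRel MG [T_di, T_fi, T_d] [T_d, T_fi, T_d, T_fi] M (Nat.sub (MG u) (Nat.mod (MG u) M)) (nat_lit 40) z1 u (Nat.mod (MG u) M)) (mRel MG [T_ei] [T_c, T_di, T_f, T_e, T_fi, T_d, T_ci] M (Nat.sub (MG u) (Nat.mod (MG u) M)) (nat_lit 40) z1 u (Nat.mod (MG u) M)) (Nat.ble (nat_lit 705) j)) (Bool.rec (motive := fun _ => Bool) (mRel MG [T_c, T_d] [T_bi, T_ci, T_fi, T_d, T_bi, T_fi] M (Nat.sub (MG u) (Nat.mod (MG u) M)) (nat_lit 40) z1 u (Nat.mod (MG u) M)) (Bool.rec (motive := fun _ => Bool) (mRel MG [T_b, T_c, T_ei, T_ci, T_bi, T_di, T_c, T_e, T_ci] [T_di] M (Nat.sub (MG u) (Nat.mod (MG u) M)) (nat_lit 40) z1 u (Nat.mod (MG u) M)) (mRel MG [T_c, T_d] [T_b, T_di,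 T_f, T_bi, T_c, T_fi] M (Nat.sub (MG u) (Nat.mod (MG u) M)) (nat_lit 40) z1 u (Nat.mod (MG u) M)) (Nat.ble (nat_lit 708) j)) (Nat.ble (nat_lit 707) j)) (Nat.ble (nat_lit 706) j)) (Nat.ble (nat_lit 704) j)
noncomputable def dM_150 (j z1 z2 u : ℕ) : Bool :=
  Bool.rec (motive := fun _ => Bool) (Bool.rec (motive := fun _ => Bool) (Bool.rec (motive := fun _ => Bool) (mRel MG [T_ci, T_d, T_fi, T_d, T_ci, T_ci] [T_di] M (Nat.sub (MG u) (Nat.mod (MG u) M)) (nat_lit 40) z1 u (Nat.mod (MG u) M)) (mRel MG [T_f, T_b] [T_d, T_d, T_b, T_c, T_bi, T_ci] M (Nat.sub (MG u) (Nat.mod (MG u) M)) (nat_lit 40) z1 u (Nat.mod (MG u) M)) (Nat.ble (nat_lit 710) j)) (Bool.rec (motive := fun _ => Bool) (mRel MG [T_c, T_fi, T_di, T_ci, T_b, T_di, T_f, T_bi] [] M (Nat.sub (MG u) (Nat.mod (MG u) M)) (nat_lit 40) z1 u (Nat.mod (MG u) M)) (Bool.rec (motive := fun _ => Bool)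 (mRel MG [T_b, T_d] [T_di, T_fi, T_ci, T_bi, T_c] M (Nat.sub (MG u) (Nat.mod (MG u) M)) (nat_lit 40) z1 u (Nat.mod (MG u) M)) (mRel MG [T_c, T_d, T_bi, T_c] [T_ci, T_bi, T_d, T_f] M (Nat.sub (MG u) (Nat.mod (MG u) M)) (nat_lit 40) z1 u (Nat.mod (MG u) M)) (Nat.ble (nat_lit 713) j)) (Nat.ble (nat_lit 712) j)) (Nat.ble (nat_lit 711) j)) (Bool.rec (motive := fun _ => Bool) (Bool.rec (motive := fun _ => Bool) (mRel MG [T_fi, T_fi] [T_d, T_f, T_di, T_di] M (Nat.sub (MG u) (Nat.mod (MG u) M)) (nat_lit 40) z1 u (Nat.mod (MG u) M)) (mRel MG [T_d, T_ci, T_ei, T_c] [T_f, T_e, T_fi, T_d] M (Nat.sub (MG u) (Nat.mod (MG u) M)) (nat_lit 40) z1 u (Nat.mod (MG u) M)) (Nat.ble (nat_lit 715) j)) (Bool.rec (motive := fun _ => Bool) (mRel MG [T_bi, T_c, T_d] [T_di, T_f, T_bi, T_c, T_fi] M (Nat.sub (MG u) (Nat.mod (MG u) M)) (nat_lit 40) z1 u (Nat.mod (MG u) M))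 (Bool.rec (motive := fun _ => Bool) (mRel MG [T_d] [T_bi, T_di, T_fi, T_ci, T_bi, T_c] M (Nat.sub (MG u) (Nat.mod (MG u) M)) (nat_lit 40) z1 u (Nat.mod (MG u) M)) (mRel MG [T_di, T_b, T_c, T_c, T_d, T_bi, T_c] [T_f] M (Nat.sub (MG u) (Nat.mod (MG u) M)) (nat_lit 40) z1 u (Nat.mod (MG u) M)) (Nat.ble (nat_lit 718) j)) (Nat.ble (nat_lit 717) j)) (Nat.ble (nat_lit 716) j)) (Nat.ble (nat_lit 714) j)
noncomputable def dM_151 (j z1 z2 u : ℕ) : Bool :=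
  Bool.rec (motive := fun _ => Bool) (dM_149 j z1 z2 u) (dM_150 j z1 z2 u) (Nat.ble (nat_lit 709) j)
noncomputable def dM_152 (j z1 z2 u : ℕ) : Bool :=
  Bool.rec (motive := fun _ => Bool) (dM_148 j z1 z2 u) (dM_151 j z1 z2 u) (Nat.ble (nat_lit 700) j)
noncomputable def dM_153 (j z1 z2 u : ℕ) : Bool :=
  Bool.rec (motive := fun _ => Bool) (dM_145 j z1 z2 u) (dM_152 j z1 z2 u) (Nat.ble (nat_lit 681) j)
noncomputable def dM_154 (j z1 z2 u : ℕ) : Bool :=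
  Bool.rec (motive := fun _ => Bool) (Bool.rec (motive := fun _ => Bool) (Bool.rec (motive := fun _ => Bool) (mRel MG [T_c, T_di, T_c, T_d, T_bi, T_c, T_di, T_b] [] M (Nat.sub (MG u) (Nat.mod (MG u) M)) (nat_lit 40) z1 u (Nat.mod (MG u) M)) (mRel MG [T_bi, T_di, T_di, T_fi, T_bi] [T_fi, T_d, T_c] M (Nat.sub (MG u) (Nat.mod (MG u) M)) (nat_lit 40) z1 u (Nat.mod (MG u) M)) (Nat.ble (nat_lit 720) j)) (Bool.rec (motive := fun _ => Bool) (mRel MG [T_ci, T_d] [T_c, T_di, T_f, T_di, T_c] M (Nat.sub (MG u) (Nat.mod (MG u) M)) (nat_lit 40) z1 u (Nat.mod (MG u) M)) (mRel MG [T_c, T_e, T_ci, T_d] [T_d, T_b, T_c, T_e, T_ci, T_bi] M (Nat.sub (MG u) (Nat.mod (MG u) M)) (nat_lit 40) z1 u (Nat.mod (MG u) M)) (Nat.ble (nat_lit 722) j)) (Nat.ble (nat_lit 721) j)) (Bool.rec (motive := fun _ => Bool) (Bool.rec (motive := fun _ => Bool) (mRel MG [T_b, T_c, T_e,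 T_ci, T_bi, T_di] [T_di, T_c, T_e, T_ci] M (Nat.sub (MG u) (Nat.mod (MG u) M)) (nat_lit 40) z1 u (Nat.mod (MG u) M)) (mRel MG [T_z, T_e, T_c, T_e, T_bi, T_e, T_c, T_e] [T_b] M (Nat.sub (MG u) (Nat.mod (MG u) M)) (nat_lit 40) z1 u (Nat.mod (MG u) M)) (Nat.ble (nat_lit 724) j)) (Bool.rec (motive := fun _ => Bool) (mRel MG [T_e, T_b, T_ci, T_b, T_b] [T_b, T_ci, T_b, T_b, T_ei] M (Nat.sub (MG u) (Nat.mod (MG u) M)) (nat_lit 40) z1 u (Nat.mod (MG u) M)) (Bool.rec (motive := fun _ => Bool) (mRel MG [T_d, T_b, T_c, T_bi, T_ci] [T_di, T_f, T_b] M (Nat.sub (MG u) (Nat.mod (MG u) M)) (nat_lit 40) z1 u (Nat.mod (MG u) M)) (mRel MG [T_fi, T_di, T_ci, T_bi] [T_b, T_di, T_f, T_c] M (Nat.sub (MG u) (Nat.mod (MG u) M)) (nat_lit 40) z1 u (Nat.mod (MG u) M)) (Nat.ble (nat_lit 727) j)) (Nat.ble (nat_lit 726) j)) (Nat.ble (nat_lit 725) j)) (Nat.ble (nat_lit 723)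 j)
noncomputable def dM_155 (j z1 z2 u : ℕ) : Bool :=
  Bool.rec (motive := fun _ => Bool) (Bool.rec (motive := fun _ => Bool) (Bool.rec (motive := fun _ => Bool) (mRel MG [T_d, T_b, T_c, T_d, T_b, T_ci] [T_fi, T_b] M (Nat.sub (MG u) (Nat.mod (MG u) M)) (nat_lit 40) z1 u (Nat.mod (MG u) M)) (mRel MG [T_d] [T_fi, T_bi, T_ci, T_di, T_f, T_bi, T_di] M (Nat.sub (MG u) (Nat.mod (MG u) M)) (nat_lit 40) z1 u (Nat.mod (MG u) M)) (Nat.ble (nat_lit 729) j)) (Bool.rec (motive := fun _ => Bool) (mRel MG [T_b, T_ci, T_b] [T_ei, T_b, T_ci, T_b, T_b, T_ei, T_bi] M (Nat.sub (MG u) (Nat.mod (MG u) M)) (nat_lit 40) z1 u (Nat.mod (MG u) M)) (mRel MG [T_f, T_di, T_b, T_ci, T_d, T_b, T_f] [T_c] M (Nat.sub (MG u) (Nat.mod (MG u) M)) (nat_lit 40) z1 u (Nat.mod (MG u) M)) (Nat.ble (nat_lit 731) j)) (Nat.ble (nat_lit 730) j)) (Bool.rec (motive := fun _ => Bool) (Bool.rec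 (motive := fun _ => Bool) (mRel MG [T_ci, T_b, T_di, T_ci] [T_fi, T_di, T_b, T_c] M (Nat.sub (MG u) (Nat.mod (MG u) M)) (nat_lit 40) z1 u (Nat.mod (MG u) M)) (mRel MG [T_e, T_ci, T_bi, T_di] [T_ci, T_bi, T_di, T_c, T_e, T_ci] M (Nat.sub (MG u) (Nat.mod (MG u) M)) (nat_lit 40) z1 u (Nat.mod (MG u) M)) (Nat.ble (nat_lit 733) j)) (Bool.rec (motive := fun _ => Bool) (mRel MG [T_ci, T_b, T_b, T_e] [T_bi, T_ei, T_b, T_ci, T_b, T_b] M (Nat.sub (MG u) (Nat.mod (MG u) M)) (nat_lit 40) z1 u (Nat.mod (MG u) M)) (Bool.rec (motive := fun _ => Bool) (mRel MG [T_b, T_ci, T_b] [T_e, T_b, T_ci, T_b, T_b, T_e, T_bi] M (Nat.sub (MG u) (Nat.mod (MG u) M)) (nat_lit 40) z1 u (Nat.mod (MG u) M)) (mRel MG [T_c, T_di, T_c, T_c, T_di, T_f] [T_d] M (Nat.sub (MG u) (Nat.mod (MG u) M)) (nat_lit 40) z1 u (Nat.mod (MG u) M)) (Nat.ble (nat_lit 736) j)) (Nat.ble (nat_lit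 735) j)) (Nat.ble (nat_lit 734) j)) (Nat.ble (nat_lit 732) j)
noncomputable def dM_156 (j z1 z2 u : ℕ) : Bool :=
  Bool.rec (motive := fun _ => Bool) (dM_154 j z1 z2 u) (dM_155 j z1 z2 u) (Nat.ble (nat_lit 728) j)
noncomputable def dM_157 (j z1 z2 u : ℕ) : Bool :=
  Bool.rec (motive := fun _ => Bool) (Bool.rec (motive := fun _ => Bool) (Bool.rec (motive := fun _ => Bool) (mRel MG [T_di, T_c] [T_b, T_c, T_e, T_ci, T_bi, T_di, T_c, T_ei] M (Nat.sub (MG u) (Nat.mod (MG u) M)) (nat_lit 40) z1 u (Nat.mod (MG u) M)) (mRel MG [T_di, T_ci, T_f, T_b, T_ci] [T_d, T_bi, T_f] M (Nat.sub (MG u) (Nat.mod (MG u) M)) (nat_lit 40) z1 u (Nat.mod (MG u) M)) (Nat.ble (nat_lit 738) j)) (Bool.rec (motive := fun _ => Bool) (mRel MG [T_d, T_f, T_ci, T_b] [T_ci, T_b, T_di, T_f] M (Nat.sub (MG u) (Nat.mod (MG u) M)) (nat_lit 40) z1 u (Nat.mod (MG u) M)) (mRel MG [T_di,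 T_c, T_d, T_ci, T_ci, T_e, T_di, T_f, T_b, T_ci] [T_e] M (Nat.sub (MG u) (Nat.mod (MG u) M)) (nat_lit 40) z1 u (Nat.mod (MG u) M)) (Nat.ble (nat_lit 740) j)) (Nat.ble (nat_lit 739) j)) (Bool.rec (motive := fun _ => Bool) (Bool.rec (motive := fun _ => Bool) (mRel MG [T_d, T_d, T_b] [T_f, T_b, T_c, T_b, T_ci] M (Nat.sub (MG u) (Nat.mod (MG u) M)) (nat_lit 40) z1 u (Nat.mod (MG u) M)) (mRel MG [T_ci, T_d, T_b, T_c] [T_e, T_ci, T_d, T_b, T_c, T_ei] M (Nat.sub (MG u) (Nat.mod (MG u) M)) (nat_lit 40) z1 u (Nat.mod (MG u) M)) (Nat.ble (nat_lit 742) j)) (Bool.rec (motive := fun _ => Bool) (mRel MG [T_ci, T_b, T_c, T_f] [T_di, T_bi, T_di] M (Nat.sub (MG u) (Nat.mod (MG u) M)) (nat_lit 40) z1 u (Nat.mod (MG u) M)) (Bool.rec (motive := fun _ => Bool) (mRel MG [T_ci, T_bi, T_di, T_c, T_ei] [T_ei, T_ci, T_bi, T_di, T_c] M (Nat.sub (MG u) (Nat.mod (MG u)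 M)) (nat_lit 40) z1 u (Nat.mod (MG u) M)) (mRel MG [T_d, T_ci, T_ci] [T_bi, T_c, T_c, T_di, T_bi] M (Nat.sub (MG u) (Nat.mod (MG u) M)) (nat_lit 40) z1 u (Nat.mod (MG u) M)) (Nat.ble (nat_lit 745) j)) (Nat.ble (nat_lit 744) j)) (Nat.ble (nat_lit 743) j)) (Nat.ble (nat_lit 741) j)
noncomputable def dM_158 (j z1 z2 u : ℕ) : Bool :=
  Bool.rec (motive := fun _ => Bool) (Bool.rec (motive := fun _ => Bool) (Bool.rec (motive := fun _ => Bool) (mRel MG [T_b, T_c, T_d, T_f, T_b] [T_ci, T_fi, T_d] M (Nat.sub (MG u) (Nat.mod (MG u) M)) (nat_lit 40) z1 u (Nat.mod (MG u) M)) (mRel MG [T_d, T_c, T_bi, T_ci, T_d, T_c] [T_c, T_b] M (Nat.sub (MG u) (Nat.mod (MG u) M)) (nat_lit 40) z1 u (Nat.mod (MG u) M)) (Nat.ble (nat_lit 747) j)) (Bool.rec (motive := fun _ => Bool) (mRel MG [T_fi, T_b, T_fi] [T_f, T_bi, T_f] M (Nat.sub (MG u) (Nat.mod (MG u) M)) (nat_lit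 40) z1 u (Nat.mod (MG u) M)) (Bool.rec (motive := fun _ => Bool) (mRel MG [T_c, T_di, T_di] [T_f, T_d, T_d, T_ci, T_f] M (Nat.sub (MG u) (Nat.mod (MG u) M)) (nat_lit 40) z1 u (Nat.mod (MG u) M)) (mRel MG [T_c, T_fi, T_bi, T_c, T_f, T_b] [T_ci, T_f] M (Nat.sub (MG u) (Nat.mod (MG u) M)) (nat_lit 40) z1 u (Nat.mod (MG u) M)) (Nat.ble (nat_lit 750) j)) (Nat.ble (nat_lit 749) j)) (Nat.ble (nat_lit 748) j)) (Bool.rec (motive := fun _ => Bool) (Bool.rec (motive := fun _ => Bool) (mRel MG [T_di] [T_b, T_d, T_ci, T_b, T_c, T_f] M (Nat.sub (MG u) (Nat.mod (MG u) M)) (nat_lit 40) z1 u (Nat.mod (MG u) M)) (mRel MG [T_di] [T_f, T_b, T_di, T_f, T_c, T_b, T_c] M (Nat.sub (MG u) (Nat.mod (MG u) M)) (nat_lit 40) z1 u (Nat.mod (MG u) M)) (Nat.ble (nat_lit 752) j)) (Bool.rec (motive := fun _ => Bool) (mRel MG [T_fi, T_di, T_f, T_d] [T_di, T_f, T_di] M (Nat.sub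 (MG u) (Nat.mod (MG u) M)) (nat_lit 40) z1 u (Nat.mod (MG u) M)) (Bool.rec (motive := fun _ => Bool) (mRel MG [T_ei, T_b, T_ci, T_b, T_b, T_ei] [T_b, T_ci, T_b, T_b] M (Nat.sub (MG u) (Nat.mod (MG u) M)) (nat_lit 40) z1 u (Nat.mod (MG u) M)) (mRel MG [T_ci, T_bi, T_di, T_c] [T_e, T_ci, T_bi, T_di, T_c, T_ei] M (Nat.sub (MG u) (Nat.mod (MG u) M)) (nat_lit 40) z1 u (Nat.mod (MG u) M)) (Nat.ble (nat_lit 755) j)) (Nat.ble (nat_lit 754) j)) (Nat.ble (nat_lit 753) j)) (Nat.ble (nat_lit 751) j)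
noncomputable def dM_159 (j z1 z2 u : ℕ) : Bool :=
  Bool.rec (motive := fun _ => Bool) (dM_157 j z1 z2 u) (dM_158 j z1 z2 u) (Nat.ble (nat_lit 746) j)
noncomputable def dM_160 (j z1 z2 u : ℕ) : Bool :=
  Bool.rec (motive := fun _ => Bool) (dM_156 j z1 z2 u) (dM_159 j z1 z2 u) (Nat.ble (nat_lit 737) j)
noncomputable def dM_161 (j z1 z2 u : ℕ) : Bool :=
  Bool.rec (motive := fun _ => Bool) (Bool.rec (motive := fun _ => Bool) (Bool.rec (motive := fun _ => Bool) (mRel MG [T_e, T_b, T_ci, T_b, T_b, T_e] [T_b, T_ci, T_b, T_b] M (Nat.sub (MG u) (Nat.mod (MG u) M)) (nat_lit 40) z1 u (Nat.mod (MG u) M)) (mRel MG [T_e, T_bi, T_bi, T_c, T_bi, T_e] [T_bi, T_bi, T_c, T_bi] M (Nat.sub (MG u) (Nat.mod (MG u) M)) (nat_lit 40) z1 u (Nat.mod (MG u) M)) (Nat.ble (nat_lit 757) j)) (Bool.rec (motive := fun _ => Bool) (mRel MG [T_d, T_d, T_b, T_c] [T_f, T_b, T_c,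 T_b] M (Nat.sub (MG u) (Nat.mod (MG u) M)) (nat_lit 40) z1 u (Nat.mod (MG u) M)) (mRel MG [T_e, T_c, T_e, T_bi, T_z, T_e] [T_b, T_ei, T_ci] M (Nat.sub (MG u) (Nat.mod (MG u) M)) (nat_lit 40) z1 u (Nat.mod (MG u) M)) (Nat.ble (nat_lit 759) j)) (Nat.ble (nat_lit 758) j)) (Bool.rec (motive := fun _ => Bool) (Bool.rec (motive := fun _ => Bool) (mRel MG [T_f, T_di, T_b, T_ci] [T_c, T_fi, T_bi, T_di] M (Nat.sub (MG u) (Nat.mod (MG u) M)) (nat_lit 40) z1 u (Nat.mod (MG u) M)) (mRel MG [T_f, T_d] [T_ci, T_bi, T_c, T_di, T_bi] M (Nat.sub (MG u) (Nat.mod (MG u) M)) (nat_lit 40) z1 u (Nat.mod (MG u) M)) (Nat.ble (nat_lit 761) j)) (Bool.rec (motive := fun _ => Bool) (mRel MG [T_e] [T_c, T_di, T_f, T_ei, T_fi, T_d, T_ci] M (Nat.sub (MG u) (Nat.mod (MG u) M)) (nat_lit 40) z1 u (Nat.mod (MG u) M)) (Bool.rec (motive := fun _ => Bool) (mRel MG [T_d, T_ci,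 T_bi, T_d, T_ci, T_b] [T_c, T_d] M (Nat.sub (MG u) (Nat.mod (MG u) M)) (nat_lit 40) z1 u (Nat.mod (MG u) M)) (mRel MG [T_f, T_bi] [T_fi, T_b, T_fi, T_fi] M (Nat.sub (MG u) (Nat.mod (MG u) M)) (nat_lit 40) z1 u (Nat.mod (MG u) M)) (Nat.ble (nat_lit 764) j)) (Nat.ble (nat_lit 763) j)) (Nat.ble (nat_lit 762) j)) (Nat.ble (nat_lit 760) j)
noncomputable def dM_162 (j z1 z2 u : ℕ) : Bool :=
  Bool.rec (motive := fun _ => Bool) (Bool.rec (motive := fun _ => Bool) (Bool.rec (motive := fun _ => Bool) (mRel MG [T_bi, T_c, T_di, T_bi, T_di] [T_c, T_f] M (Nat.sub (MG u) (Nat.mod (MG u) M)) (nat_lit 40) z1 u (Nat.mod (MG u) M)) (mRel MG [T_e, T_c, T_e, T_bi, T_z, T_e, T_c] [T_b, T_ei] M (Nat.sub (MG u) (Nat.mod (MG u) M)) (nat_lit 40) z1 u (Nat.mod (MG u) M)) (Nat.ble (nat_lit 766) j)) (Bool.rec (motive := fun _ => Bool) (mRel MG [T_d, T_d, T_ci] [T_fi,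 T_c, T_di, T_di, T_fi] M (Nat.sub (MG u) (Nat.mod (MG u) M)) (nat_lit 40) z1 u (Nat.mod (MG u) M)) (Bool.rec (motive := fun _ => Bool) (mRel MG [T_z, T_c, T_zi, T_ci] [] M (Nat.sub (MG u) (Nat.mod (MG u) M)) (nat_lit 40) z1 u (Nat.mod (MG u) M)) (mRel MG [T_bi, T_ei, T_b, T_ci] [T_ci, T_b, T_b, T_e, T_bi, T_bi] M (Nat.sub (MG u) (Nat.mod (MG u) M)) (nat_lit 40) z1 u (Nat.mod (MG u) M)) (Nat.ble (nat_lit 769) j)) (Nat.ble (nat_lit 768) j)) (Nat.ble (nat_lit 767) j)) (Bool.rec (motive := fun _ => Bool) (Bool.rec (motive := fun _ => Bool) (mRel MG [T_e, T_bi, T_e, T_c, T_e, T_bi, T_z] [T_ci, T_ei] M (Nat.sub (MG u) (Nat.mod (MG u) M)) (nat_lit 40) z1 u (Nat.mod (MG u) M)) (mRel MG [T_c, T_ei, T_ci, T_d] [T_d, T_b, T_c, T_ei, T_ci, T_bi] M (Nat.sub (MG u) (Nat.mod (MG u) M)) (nat_lit 40) z1 u (Nat.mod (MG u) M)) (Nat.ble (nat_lit 771) j)) (Bool.rec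 (motive := fun _ => Bool) (mRel MG [T_di, T_fi, T_fi, T_d] [T_f, T_di] M (Nat.sub (MG u) (Nat.mod (MG u) M)) (nat_lit 40) z1 u (Nat.mod (MG u) M)) (Bool.rec (motive := fun _ => Bool) (mRel MG [T_c, T_bi, T_ei, T_b, T_ci, T_b] [T_b, T_b, T_e, T_bi] M (Nat.sub (MG u) (Nat.mod (MG u) M)) (nat_lit 40) z1 u (Nat.mod (MG u) M)) (mRel MG [T_d, T_ci, T_e, T_c, T_di, T_f, T_e, T_fi] [] M (Nat.sub (MG u) (Nat.mod (MG u) M)) (nat_lit 40) z1 u (Nat.mod (MG u) M)) (Nat.ble (nat_lit 774) j)) (Nat.ble (nat_lit 773) j)) (Nat.ble (nat_lit 772) j)) (Nat.ble (nat_lit 770) j)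
noncomputable def dM_163 (j z1 z2 u : ℕ) : Bool :=
  Bool.rec (motive := fun _ => Bool) (dM_161 j z1 z2 u) (dM_162 j z1 z2 u) (Nat.ble (nat_lit 765) j)
noncomputable def dM_164 (j z1 z2 u : ℕ) : Bool :=
  Bool.rec (motive := fun _ => Bool) (Bool.rec (motive := fun _ => Bool) (Bool.rec (motive := fun _ => Bool) (mRel MG [T_z, T_fi, T_zi, T_f] [] M (Nat.sub (MG u) (Nat.mod (MG u) M)) (nat_lit 40) z1 u (Nat.mod (MG u) M)) (mRel MG [T_c, T_c, T_di, T_ci, T_d, T_e] [T_e, T_di, T_f, T_b, T_ci] M (Nat.sub (MG u) (Nat.mod (MG u) M)) (nat_lit 40) z1 u (Nat.mod (MG u) M)) (Nat.ble (nat_lit 776) j)) (Bool.rec (motive := fun _ => Bool) (mRel MG [T_bi, T_di] [T_c, T_ei, T_ci, T_bi, T_di, T_c, T_e, T_ci] M (Nat.sub (MG u) (Nat.mod (MG u) M)) (nat_lit 40) z1 u (Nat.mod (MG u) M)) (mRel MG [T_ci, T_d] [T_b, T_ci, T_di, T_c, T_b, T_ci] M (Nat.sub (MG u) (Nat.mod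 (MG u) M)) (nat_lit 40) z1 u (Nat.mod (MG u) M)) (Nat.ble (nat_lit 778) j)) (Nat.ble (nat_lit 777) j)) (Bool.rec (motive := fun _ => Bool) (Bool.rec (motive := fun _ => Bool) (mRel MG [T_b, T_c, T_bi, T_di] [T_f, T_d, T_b, T_c] M (Nat.sub (MG u) (Nat.mod (MG u) M)) (nat_lit 40) z1 u (Nat.mod (MG u) M)) (mRel MG [T_ci, T_d, T_b] [T_fi, T_b, T_c, T_d, T_c] M (Nat.sub (MG u) (Nat.mod (MG u) M)) (nat_lit 40) z1 u (Nat.mod (MG u) M)) (Nat.ble (nat_lit 780) j)) (Bool.rec (motive := fun _ => Bool) (mRel MG [T_f, T_c, T_b, T_c, T_d] [T_d, T_bi, T_fi] M (Nat.sub (MG u) (Nat.mod (MG u) M)) (nat_lit 40) z1 u (Nat.mod (MG u) M)) (Bool.rec (motive := fun _ => Bool) (mRel MG [T_ei, T_ci] [T_ci, T_d, T_b, T_c, T_ei, T_ci, T_bi, T_di] M (Nat.sub (MG u) (Nat.mod (MG u) M)) (nat_lit 40) z1 u (Nat.mod (MG u) M)) (mRel MG [T_bi, T_c, T_fi] [T_fi, T_d, T_bi, T_c,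 T_d] M (Nat.sub (MG u) (Nat.mod (MG u) M)) (nat_lit 40) z1 u (Nat.mod (MG u) M)) (Nat.ble (nat_lit 783) j)) (Nat.ble (nat_lit 782) j)) (Nat.ble (nat_lit 781) j)) (Nat.ble (nat_lit 779) j)
noncomputable def dM_165 (j z1 z2 u : ℕ) : Bool :=
  Bool.rec (motive := fun _ => Bool) (Bool.rec (motive := fun _ => Bool) (Bool.rec (motive := fun _ => Bool) (mRel MG [T_di, T_c, T_b, T_ci] [T_c, T_bi, T_ci, T_d] M (Nat.sub (MG u) (Nat.mod (MG u) M)) (nat_lit 40) z1 u (Nat.mod (MG u) M)) (mRel MG [T_d, T_d, T_fi, T_d] [T_fi, T_d, T_f] M (Nat.sub (MG u) (Nat.mod (MG u) M)) (nat_lit 40) z1 u (Nat.mod (MG u) M)) (Nat.ble (nat_lit 785) j)) (Bool.rec (motive := fun _ => Bool) (mRel MG [T_bi, T_c, T_b, T_d, T_ci, T_fi, T_fi] [T_d] M (Nat.sub (MG u) (Nat.mod (MG u) M)) (nat_lit 40) z1 u (Nat.mod (MG u) M)) (Bool.rec (motive := fun _ => Bool) (mRel MG [T_bi, T_di,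 T_c, T_fi] [T_ci, T_di, T_ci, T_bi] M (Nat.sub (MG u) (Nat.mod (MG u) M)) (nat_lit 40) z1 u (Nat.mod (MG u) M)) (mRel MG [T_bi, T_ci, T_d, T_c, T_bi] [T_ci, T_di, T_c] M (Nat.sub (MG u) (Nat.mod (MG u) M)) (nat_lit 40) z1 u (Nat.mod (MG u) M)) (Nat.ble (nat_lit 788) j)) (Nat.ble (nat_lit 787) j)) (Nat.ble (nat_lit 786) j)) (Bool.rec (motive := fun _ => Bool) (Bool.rec (motive := fun _ => Bool) (mRel MG [T_ci, T_ci, T_bi, T_d, T_f] [T_d, T_bi, T_c] M (Nat.sub (MG u) (Nat.mod (MG u) M)) (nat_lit 40) z1 u (Nat.mod (MG u) M)) (mRel MG [T_fi, T_b, T_c, T_d] [T_ci, T_d, T_b, T_ci] M (Nat.sub (MG u) (Nat.mod (MG u) M)) (nat_lit 40) z1 u (Nat.mod (MG u) M)) (Nat.ble (nat_lit 790) j)) (Bool.rec (motive := fun _ => Bool) (mRel MG [T_d, T_b, T_c, T_ei, T_ci, T_bi, T_di] [T_c, T_ei, T_ci] M (Nat.sub (MG u) (Nat.mod (MG u) M)) (nat_lit 40) z1 u (Nat.mod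 (MG u) M)) (Bool.rec (motive := fun _ => Bool) (mRel MG [T_fi, T_z, T_f, T_zi] [] M (Nat.sub (MG u) (Nat.mod (MG u) M)) (nat_lit 40) z1 u (Nat.mod (MG u) M)) (mRel MG [T_z, T_ei, T_zi] [T_ei] M (Nat.sub (MG u) (Nat.mod (MG u) M)) (nat_lit 40) z1 u (Nat.mod (MG u) M)) (Nat.ble (nat_lit 793) j)) (Nat.ble (nat_lit 792) j)) (Nat.ble (nat_lit 791) j)) (Nat.ble (nat_lit 789) j)
noncomputable def dM_166 (j z1 z2 u : ℕ) : Bool :=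
  Bool.rec (motive := fun _ => Bool) (dM_164 j z1 z2 u) (dM_165 j z1 z2 u) (Nat.ble (nat_lit 784) j)
noncomputable def dM_167 (j z1 z2 u : ℕ) : Bool :=
  Bool.rec (motive := fun _ => Bool) (dM_163 j z1 z2 u) (dM_166 j z1 z2 u) (Nat.ble (nat_lit 775) j)
noncomputable def dM_168 (j z1 z2 u : ℕ) : Bool :=
  Bool.rec (motive := fun _ => Bool) (dM_160 j z1 z2 u) (dM_167 j z1 z2 u) (Nat.ble (nat_lit 756) j)
noncomputable def dM_169 (j z1 z2 u : ℕ) : Bool :=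
  Bool.rec (motive := fun _ => Bool) (dM_153 j z1 z2 u) (dM_168 j z1 z2 u) (Nat.ble (nat_lit 719) j)
noncomputable def dM_170 (j z1 z2 u : ℕ) : Bool :=
  Bool.rec (motive := fun _ => Bool) (dM_138 j z1 z2 u) (dM_169 j z1 z2 u) (Nat.ble (nat_lit 644) j)
noncomputable def dM_171 (j z1 z2 u : ℕ) : Bool :=
  Bool.rec (motive := fun _ => Bool) (dM_107 j z1 z2 u) (dM_170 j z1 z2 u) (Nat.ble (nat_lit 495) j)
noncomputable def dM_172 (j z1 z2 u : ℕ) : Bool :=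
  Bool.rec (motive := fun _ => Bool) (dM_70 j z1 z2 u) (dM_171 j z1 z2 u) (Nat.ble (nat_lit 322) j)
noncomputable def dM_173 (j z1 z2 u : ℕ) : Bool :=
  Bool.rec (motive := fun _ => Bool) (dM_35 j z1 z2 u) (dM_172 j z1 z2 u) (Nat.ble (nat_lit 172) j)
noncomputable def dM_174 (j z1 z2 u : ℕ) : Bool :=
  Bool.rec (motive := fun _ => Bool) (dM_8 j z1 z2 u) (dM_173 j z1 z2 u) (Nat.ble (nat_lit 49) j)
noncomputable def dM_175 (j z1 z2 u : ℕ) : Bool :=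
  Bool.rec (motive := fun _ => Bool) (dM_1 j z1 z2 u) (dM_174 j z1 z2 u) (Nat.ble (nat_lit 11) j)
noncomputable def dM_176 (j z1 z2 u : ℕ) : Bool :=
  Bool.rec (motive := fun _ => Bool) (dM_0 j z1 z2 u) (dM_175 j z1 z2 u) (Nat.ble (nat_lit 7) j)
noncomputable def chkM (u : ℕ) : Bool :=
  Bool.rec (motive := fun _ => Bool) (band (Nat.ble (Nat.succ (Nat.mod (MG u) M)) u) (dM_176 (Nat.land (MR u) (nat_lit 1023)) (Nat.land (Nat.shiftRight (MR u) (nat_lit 10)) (nat_lit 32767)) (Nat.shiftRight (MR u) (nat_lit 25)) u)) true (Nat.ble A (MG u))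
noncomputable def chkN (u : ℕ) : Bool :=
  band (chk_b (Nat.land (Nat.shiftRight (RS u) (nat_lit 0)) (nat_lit 127)) u) (band (chk_bi (Nat.land (Nat.shiftRight (RS u) (nat_lit 7)) (nat_lit 127)) u) (band (chk_d (Nat.land (Nat.shiftRight (RS u) (nat_lit 14)) (nat_lit 127)) u) (band (chk_di (Nat.land (Nat.shiftRight (RS u) (nat_lit 21)) (nat_lit 127)) u) (band (chk_c (Nat.land (Nat.shiftRight (RS u) (nat_lit 28)) (nat_lit 127)) u) (band (chk_ci (Nat.land (Nat.shiftRight (RS u) (nat_lit 35)) (nat_lit 127)) u) (band (chk_f (Nat.land (Nat.shiftRight (RS u) (nat_lit 42)) (nat_lit 127)) u) (band (chk_fi (Nat.land (Nat.shiftRight (RS u) (nat_lit 49)) (nat_lit 127)) u) (band (chk_e (Nat.land (Nat.shiftRight (RS u) (nat_lit 56)) (nat_lit 127)) u) (band (chk_ei (Nat.land (Nat.shiftRight (RS u) (nat_lit 63)) (nat_lit 127)) u) (band (chk_z (Nat.land (Nat.shiftRight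 (RS u) (nat_lit 70)) (nat_lit 127)) u) (band (chk_zi (Nat.land (Nat.shiftRight (RS u) (nat_lit 77)) (nat_lit 127)) u) (chkM u))))))))))))
noncomputable def chkP (u : ℕ) : Bool := Bool.rec (motive := fun _ => Bool) (chkN u) true (Nat.ble M u)
noncomputable def liveP (u : ℕ) : Bool := Bool.rec (motive := fun _ => Bool) (Nat.ble A (MG u)) false (Nat.ble M u)
end H94.TCHSA
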